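import Groth.Agent.EGA43.FibDepth.Open
import Groth.Agent.EGA43.FPKernel
import Groth.Agent.AssSch12.PullbackPoint
import Groth.Agent.QCohLoc.Unit

/-!
# The structure sheaf: codepth of the local rings of the fibres
-/

set_option autoImplicit false
set_option backward.isDefEq.respectTransparency false

universe u

open CategoryTheory CategoryTheory.Limits AlgebraicGeometry TopologicalSpace TensorProduct Function

namespace Groth.Agent.EGA43.FibDepth

open Groth.Agent

variable {X Y : Scheme.{u}} (f : X ⟶ Y)

/-- `S ⊗_O F ≃ S` for `F ≃ O`. -/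
noncomputable def tensorUnitEquiv {O S G F : Type u} [CommRing O] [CommRing S] [Algebra O S]
    [AddCommGroup G] [Module S G] [AddCommGroup F] [Module O F] (e1 : G ≃ₗ[S] S ⊗[O] F)
    (u : O ≃ₗ[O] F) : G ≃ₗ[S] S :=
  e1.trans ((AlgebraTensorModule.congr (LinearEquiv.refl S S) u.symm).trans
    (AlgebraTensorModule.rid O S S))

/-- The stalk of the structure module is the local ring. -/
noncomputable def unitStalkEquiv (x : X) :
    X.presheaf.stalk x ≃ₗ[X.presheaf.stalk x] (Coh.structureModule X).presheaf.stalk x :=
  LinearEquiv.ofBijective (LinearMap.toSpanSingleton (X.presheaf.stalk x) _ (AssSch12.unitOne x))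
    (AssSch12.bijective_smul_unitOne x)

theorem isFlatOverAt_structureModule (x : X) :
    FlatMod.IsFlatOverAt f (Coh.structureModule X) x ↔ (f.stalkMap x).hom.Flat := by
  let _ := (f.stalkMap x).hom.toAlgebra
  let _ := FlatMod.moduleStalkOver f (Coh.structureModule X) x
  have : IsScalarTower (Y.presheaf.stalk (f x)) (X.presheaf.stalk x)
      ((Coh.structureModule X).presheaf.stalk x) := IsScalarTower.of_compHom _ _ _
  exact (Module.Flat.equiv_iff ((unitStalkEquiv x).restrictScalars (Y.presheaf.stalk (f x)))).symm

theorem isFP_structureModule (X : Scheme.{u}) : CohB1.IsFP (Coh.structureModule X) := by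
  have := QCohLoc.isQCoh_structureModule X
  refine FPKernel.isFP_of_forall_exists_affine _ fun x => ?_
  obtain ⟨U, hU, hxU, -⟩ := exists_isAffineOpen_mem_and_subset (x := x) (U := ⊤) trivial
  refine ⟨U, hU, hxU, ?_⟩
  let l : Γ(X, U) ≃ₗ[Γ(X, U)] Γ(Coh.structureModule X, U) :=
    { toFun := fun r => r
      invFun := fun r => r
      map_add' := fun _ _ => rfl
      map_smul' := fun _ _ => rfl
      left_inv := fun _ => rfl
      right_inv := fun _ => rfl }
  exact Module.FinitePresentation.of_equiv l

theorem codepthLE_structureModule_iff (k : ℕ) (y : Y) (z : f.fiber y) :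
    CodepthLE f (Coh.structureModule X) k y z ↔
      ringKrullDim ((f.fiber y).presheaf.stalk z) ≤
        ((_root_.LocCoh.depth ((f.fiber y).presheaf.stalk z) ((f.fiber y).presheaf.stalk z) : ℕ∞) :
          WithBot ℕ∞) + k := by
  let _ : Algebra (X.presheaf.stalk (f.fiberι y z)) ((f.fiber y).presheaf.stalk z) :=
    ((f.fiberι y).stalkMap z).hom.toAlgebra
  let e1 : ((Scheme.Modules.pullback (f.fiberι y)).obj (Coh.structureModule X)).presheaf.stalk z
      ≃ₗ[(f.fiber y).presheaf.stalk z] (f.fiber y).presheaf.stalk z ⊗[X.presheaf.stalk (f.fiberι y z)]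
        (Coh.structureModule X).presheaf.stalk (f.fiberι y z) :=
    ((ModStalk.pullbackStalkIso (f.fiberι y) z).app (Coh.structureModule X)).toLinearEquiv
  let e := tensorUnitEquiv e1 (unitStalkEquiv (f.fiberι y z))
  rw [CodepthLE, CAlgH3.depth_congr e, Module.supportDim_eq_of_equiv e,
    Module.supportDim_self_eq_ringKrullDim]

theorem isCohenMacaulayLocalRing_iff_codepthLE [LocallyOfFinitePresentation f] (y : Y)
    (z : f.fiber y) :
    _root_.LocCoh.IsCohenMacaulayLocalRing ((f.fiber y).presheaf.stalk z) ↔
      CodepthLE f (Coh.structureModule X) 0 y z := by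
  have := isNoetherianRing_fiber_stalk f y z
  rw [codepthLE_structureModule_iff, ← Module.supportDim_self_eq_ringKrullDim,
    ← subsingleton_or_isCohenMacaulayModule_iff]
  constructor
  · exact fun h => .inr h.supportDim_eq_depth
  · rintro (h | h)
    · exact absurd h (not_subsingleton _)
    · exact ⟨h⟩

theorem isOpen_flat_codepth [LocallyOfFinitePresentation f] (n : ℕ) :
    IsOpen {x : X | (f.stalkMap x).hom.Flat ∧
      CodepthLE f (Coh.structureModule X) n (f x) (f.asFiber x)} := by
  simpa only [isFlatOverAt_structureModule] using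
    (isOpen_flat_loci f (Coh.structureModule X) (isFP_structureModule X) n).2

end Groth.Agent.EGA43.FibDepth
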