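import Mathlib.AlgebraicGeometry.Pullbacks
import Mathlib.AlgebraicGeometry.ResidueField
import Mathlib.AlgebraicGeometry.Morphisms.Smooth
import Mathlib.RingTheory.TensorProduct.Basic

/-!
# Affine charts of base changes, and their local rings
-/

set_option autoImplicit false
set_option backward.isDefEq.respectTransparency false

universe u

open CategoryTheory CategoryTheory.Limits AlgebraicGeometry TensorProduct Function

namespace Groth.Agent.EGA43.FibDepth

theorem isPullback_comp_mono {C : Type*} [Category C] {P A B R Z : C} {p : P ⟶ A} {q : P ⟶ B}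
    {a : A ⟶ R} {b : B ⟶ R} (h : IsPullback p q a b) (ι : R ⟶ Z) [Mono ι] :
    IsPullback p q (a ≫ ι) (b ≫ ι) := by
  refine IsPullback.of_isLimit' ⟨by rw [h.w_assoc]⟩ (PullbackCone.IsLimit.mk _
    (fun s => h.lift s.fst s.snd (by
      rw [← cancel_mono ι, Category.assoc, Category.assoc]; exact s.condition))
    (fun s => h.lift_fst _ _ _) (fun s => h.lift_snd _ _ _) fun s m h₁ h₂ => ?_)
  exact h.hom_ext (by simpa using h₁) (by simpa using h₂)

variable {R S T : Type u} [CommRing R] [CommRing S] [CommRing T] [Algebra R S] [Algebra R T]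

/-- An affine chart of a base change. -/
theorem exists_chart_baseChange {X Z : Scheme.{u}} (f : X ⟶ Z) (ι : Spec (.of R) ⟶ Z) [Mono ι]
    (j : Spec (.of S) ⟶ X) [IsOpenImmersion j]
    (hj : j ≫ f = Spec.map (CommRingCat.ofHom (algebraMap R S)) ≫ ι) (g : Spec (.of T) ⟶ Z)
    (hg : g = Spec.map (CommRingCat.ofHom (algebraMap R T)) ≫ ι) :
    ∃ j' : Spec (.of (T ⊗[R] S)) ⟶ pullback f g, IsOpenImmersion j' ∧
      Set.range j' = (pullback.fst f g) ⁻¹' Set.range j ∧
      j' ≫ pullback.fst f g = Spec.map (CommRingCat.ofHom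
        (Algebra.TensorProduct.includeRight (R := R) (A := T) (B := S)).toRingHom) ≫ j ∧
      j' ≫ pullback.snd f g = Spec.map (CommRingCat.ofHom (algebraMap T (T ⊗[R] S))) := by
  let inr : Spec (.of (T ⊗[R] S)) ⟶ Spec (.of S) := Spec.map (CommRingCat.ofHom
    (Algebra.TensorProduct.includeRight (R := R) (A := T) (B := S)).toRingHom)
  let inl : Spec (.of (T ⊗[R] S)) ⟶ Spec (.of T) :=
    Spec.map (CommRingCat.ofHom (algebraMap T (T ⊗[R] S)))
  have sq0 : IsPullback inr inl (Spec.map (CommRingCat.ofHom (algebraMap R S)))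
      (Spec.map (CommRingCat.ofHom (algebraMap R T))) :=
    isPullback_SpecMap_of_isPushout _ _ _ _ (CommRingCat.isPushout_tensorProduct R T S).flip
  have sq : IsPullback inr inl (j ≫ f) g := by
    rw [hj, hg]; exact isPullback_comp_mono sq0 ι
  let j' : Spec (.of (T ⊗[R] S)) ⟶ pullback f g :=
    pullback.lift (inr ≫ j) inl (by rw [Category.assoc]; exact sq.w)
  have h1 : j' ≫ pullback.fst f g = inr ≫ j := pullback.lift_fst _ _ _
  have h2 : j' ≫ pullback.snd f g = inl := pullback.lift_snd _ _ _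
  have sq' : IsPullback j' inr (pullback.fst f g) j :=
    (IsPullback.of_right (s := by rw [h2]; exact sq.flip) h1
      (IsPullback.of_hasPullback f g).flip)
  refine ⟨j', MorphismProperty.of_isPullback (P := @IsOpenImmersion) sq'.flip inferInstance, ?_, h1, h2⟩
  have : j' = sq'.isoPullback.hom ≫ pullback.fst (pullback.fst f g) j :=
    (sq'.isoPullback_hom_fst).symm
  rw [this, Scheme.Hom.comp_base, TopCat.coe_comp, Set.range_comp,
    Set.range_eq_univ.mpr (show Function.Surjective sq'.isoPullback.hom from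
      sq'.isoPullback.hom.homeomorph.surjective), Set.image_univ,
    IsOpenImmersion.range_pullbackFst]
  rfl

/-- The local rings of an affine chart. -/
theorem nonempty_stalk_equiv {Y : Scheme.{u}} (j : Spec (.of S) ⟶ Y) [IsOpenImmersion j]
    (q : PrimeSpectrum S) :
    Nonempty (Localization.AtPrime q.asIdeal ≃+* Y.presheaf.stalk (j q)) :=
  ⟨((Spec.stalkIso (.of S) q).symm ≪≫ (asIso (j.stalkMap q)).symm).commRingCatIsoToRingEquiv⟩

/-- A property of the local rings at the points over a point, in an affine chart. -/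
theorem forall_over_iff {X' W : Scheme.{u}} {S' : Type u} [CommRing S'] (π : X' ⟶ W)
    (j : Spec (.of S) ⟶ W) [IsOpenImmersion j] (j' : Spec (.of S') ⟶ X') [IsOpenImmersion j']
    (hrange : Set.range j' = π ⁻¹' Set.range j) (φ : S →+* S')
    (hcomp : j' ≫ π = Spec.map (CommRingCat.ofHom φ) ≫ j)
    (Pr : ∀ (R : Type u) [CommRing R], Prop)
    (hPr : ∀ (R R' : Type u) [CommRing R] [CommRing R'], R ≃+* R' → Pr R → Pr R')
    (q : PrimeSpectrum S) :
    (∀ x' : X', π x' = j q → Pr (X'.presheaf.stalk x')) ↔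
      ∀ (Q : Ideal S') [Q.IsPrime], Q.comap φ = q.asIdeal → Pr (Localization.AtPrime Q) := by
  constructor
  · intro h Q _ hQ
    obtain ⟨e⟩ := nonempty_stalk_equiv j' ⟨Q, ‹_›⟩
    refine hPr _ _ e.symm (h _ ?_)
    show (j' ≫ π) ⟨Q, ‹_›⟩ = _
    rw [hcomp]
    exact congrArg j (PrimeSpectrum.ext hQ)
  · intro h x' hx'
    obtain ⟨Q, rfl⟩ : x' ∈ Set.range j' := hrange.ge (by rw [Set.mem_preimage, hx']; exact ⟨q, rfl⟩)
    obtain ⟨e⟩ := nonempty_stalk_equiv j' Q
    refine hPr _ _ e (@h Q.asIdeal Q.isPrime ?_)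
    have h' : (j' ≫ π) Q = j q := hx'
    rw [hcomp] at h'
    exact congrArg PrimeSpectrum.asIdeal (j.isOpenEmbedding.injective h' : PrimeSpectrum.comap φ Q = q)

/-- The smooth points of an affine chart over an affine base. -/
theorem mem_smoothLocus_Spec_iff [Algebra.FinitePresentation R S] (q : PrimeSpectrum S) :
    ((Spec.map (CommRingCat.ofHom (algebraMap R S))).stalkMap q).hom.FormallySmooth ↔
      Algebra.IsSmoothAt R q.asIdeal := by
  let p := PrimeSpectrum.comap (algebraMap R S) q
  have : q.asIdeal.LiesOver p.asIdeal := ⟨rfl⟩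
  let _ := Localization.AtPrime.algebraOfLiesOver p.asIdeal q.asIdeal
  refine (RingHom.FormallySmooth.respectsIso.arrow_mk_iso_iff
    (Scheme.arrowStalkMapSpecIso (CommRingCat.ofHom (algebraMap R S)) q)).trans ?_
  show (algebraMap (Localization.AtPrime p.asIdeal) (Localization.AtPrime q.asIdeal)).FormallySmooth ↔ _
  rw [RingHom.formallySmooth_algebraMap]
  exact Algebra.FormallySmooth.iff_restrictScalars.symm

/-- Smooth points in an affine chart. -/
theorem formallySmooth_stalkMap_chart_iff [Algebra.FinitePresentation R S] {W : Scheme.{u}}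
    (j : Spec (.of S) ⟶ W) [IsOpenImmersion j] (g : W ⟶ Spec (.of R))
    (hj : j ≫ g = Spec.map (CommRingCat.ofHom (algebraMap R S))) (q : PrimeSpectrum S) :
    (g.stalkMap (j q)).hom.FormallySmooth ↔ Algebra.IsSmoothAt R q.asIdeal := by
  rw [← mem_smoothLocus_Spec_iff q, ← hj]
  refine (RingHom.FormallySmooth.respectsIso.cancel_right_isIso _ (j.stalkMap q)).symm.trans ?_
  rw [← CommRingCat.hom_comp, ← Scheme.Hom.stalkMap_comp]

end Groth.Agent.EGA43.FibDepth
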