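import Groth.Agent.EGA43.FibDepth.Fibre
import Groth.Agent.EGA43.Cons.FibFlatScheme
import Groth.Agent.DimLib.Morphism
import Groth.Agent.DimLib.Components

/-!
# Transcendence degrees of points of fibres

`dim` of the closure of a point of a fibre is `trdeg κ(x)/κ(f x)`, computed in affine charts by `trd`.
-/

set_option autoImplicit false
set_option backward.isDefEq.respectTransparency false

universe u

open CategoryTheory CategoryTheory.Limits AlgebraicGeometry TopologicalSpace Function

namespace Groth.Agent.EGA43.FibDepth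

open Groth.Agent

theorem trdegHom_ringEquiv_comp {R S T : Type u} [Field R] [Field S] [Field T] (e : R ≃+* S)
    (φ : S →+* T) : DimLib.trdegHom (φ.comp (e : R →+* S)) = DimLib.trdegHom φ := by
  unfold DimLib.trdegHom
  algebraize [(e : R →+* S), φ, φ.comp (e : R →+* S)]
  have h0 : Algebra.trdeg R S = 0 :=
    have : Algebra.IsAlgebraic R S := ⟨fun s => ⟨Polynomial.X - Polynomial.C (e.symm s),
      Polynomial.X_sub_C_ne_zero _, by simp [show algebraMap R S = (e : R →+* S) from rfl]⟩⟩
    trdeg_eq_zero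
  have h := trdeg_add_eq R S (A := T)
  rw [h0, zero_add] at h
  exact (congrArg Cardinal.toNat h).symm

section Affine

variable {X : Scheme.{u}} {U : X.Opens} (hU : IsAffineOpen U) {x : X} (hx : x ∈ U)

theorem evaluation_eq_zero_iff (r : Γ(X, U)) :
    X.evaluation U x hx r = 0 ↔ r ∈ (hU.primeIdealOf ⟨x, hx⟩).asIdeal := by
  rw [Scheme.evaluation_eq_zero_iff_notMem_basicOpen, ← not_iff_not, not_not]
  let := (X.presheaf.germ U x hx).hom.toAlgebra
  have hloc : IsLocalization.AtPrime (X.presheaf.stalk x) (hU.primeIdealOf ⟨x, hx⟩).asIdeal :=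
    hU.isLocalization_stalk ⟨x, hx⟩
  rw [X.mem_basicOpen r x hx]
  exact IsLocalization.AtPrime.isUnit_to_map_iff (X.presheaf.stalk x)
    (hU.primeIdealOf ⟨x, hx⟩).asIdeal r

/-- `κ(q) → κ(x)` for the prime `q` of `x` in an affine chart. -/
noncomputable def resMap :
    (hU.primeIdealOf ⟨x, hx⟩).asIdeal.ResidueField →+* X.residueField x :=
  Ideal.ResidueField.lift _ (X.evaluation U x hx).hom
    (fun r hr => (evaluation_eq_zero_iff hU hx r).2 hr)
    (fun r hr => isUnit_iff_ne_zero.2 fun h => hr ((evaluation_eq_zero_iff hU hx r).1 h))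

theorem resMap_algebraMap (r : Γ(X, U)) :
    resMap hU hx (algebraMap _ _ r) = X.evaluation U x hx r :=
  Ideal.ResidueField.lift_algebraMap _ _ _ _ r

theorem resMap_bijective : Bijective (resMap hU hx) := by
  refine ⟨(resMap hU hx).injective, fun z => ?_⟩
  obtain ⟨o, rfl⟩ := X.residue_surjective x z
  let := (X.presheaf.germ U x hx).hom.toAlgebra
  have hloc : IsLocalization.AtPrime (X.presheaf.stalk x) (hU.primeIdealOf ⟨x, hx⟩).asIdeal :=
    hU.isLocalization_stalk ⟨x, hx⟩
  obtain ⟨⟨r, s⟩, h⟩ := IsLocalization.surj (hU.primeIdealOf ⟨x, hx⟩).asIdeal.primeCompl o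
  refine ⟨algebraMap _ _ r * (algebraMap _ _ (s : Γ(X, U)))⁻¹, ?_⟩
  have hs : X.evaluation U x hx s ≠ 0 := fun h' => s.2 ((evaluation_eq_zero_iff hU hx _).1 h')
  rw [map_mul, map_inv₀, resMap_algebraMap, resMap_algebraMap, mul_inv_eq_iff_eq_mul₀ hs]
  have := congrArg (X.residue x) h
  rw [map_mul] at this
  exact this.symm

/-- `κ(q) ≃ κ(x)`. -/
noncomputable def resEquiv :
    (hU.primeIdealOf ⟨x, hx⟩).asIdeal.ResidueField ≃+* X.residueField x :=
  RingEquiv.ofBijective _ (resMap_bijective hU hx)

end Affine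

variable {X Y : Scheme.{u}} (f : X ⟶ Y) {V : Y.Opens} (hV : IsAffineOpen V) {U : X.Opens}
  (hU : IsAffineOpen U) (e : U ≤ f ⁻¹ᵁ V) {x : X} (hx : x ∈ U)

include e in
theorem comap_primeIdealOf :
    (hU.primeIdealOf ⟨x, hx⟩).asIdeal.comap (f.appLE V U e).hom =
      (hV.primeIdealOf ⟨f x, e hx⟩).asIdeal := by
  have : PrimeSpectrum.comap (f.appLE V U e).hom (hU.primeIdealOf ⟨x, hx⟩) =
      hV.primeIdealOf ⟨f x, e hx⟩ := hV.fromSpec.isOpenEmbedding.injective (by
    rw [← Cons.fromSpec_comp_eq hV hU e, hU.fromSpec_primeIdealOf, hV.fromSpec_primeIdealOf])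
  exact congrArg PrimeSpectrum.asIdeal this

theorem residueFieldMap_evaluation (a : Γ(Y, V)) :
    f.residueFieldMap x (Y.evaluation V (f x) (e hx) a) =
      X.evaluation U x hx (f.appLE V U e a) := by
  have h : X.presheaf.germ U x hx (f.appLE V U e a) =
      f.stalkMap x (Y.presheaf.germ V (f x) (e hx) a) := by
    rw [Scheme.Hom.germ_stalkMap_apply, Scheme.Hom.appLE]
    exact TopCat.Presheaf.germ_res_apply _ _ _ _ _
  show f.residueFieldMap x (Y.residue _ (Y.presheaf.germ V (f x) (e hx) a)) =
    X.residue x (X.presheaf.germ U x hx (f.appLE V U e a))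
  rw [h]
  exact ConcreteCategory.congr_hom (Scheme.residue_residueFieldMap f x) _

include hV in
theorem trdegHom_residueFieldMap :
    letI := (f.appLE V U e).hom.toAlgebra
    DimLib.trdegHom (f.residueFieldMap x).hom = trd Γ(Y, V) (hU.primeIdealOf ⟨x, hx⟩) := by
  let _ := (f.appLE V U e).hom.toAlgebra
  have hp : (hV.primeIdealOf ⟨f x, e hx⟩).asIdeal =
      (hU.primeIdealOf ⟨x, hx⟩).asIdeal.comap (algebraMap Γ(Y, V) Γ(X, U)) :=
    (comap_primeIdealOf f hV hU e hx).symm
  rw [trd_eq_trdegHom (hU.primeIdealOf ⟨x, hx⟩) hp,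
    ← trdegHom_ringEquiv_comp (resEquiv hV (e hx)),
    ← DimLib.trdegHom_comp_ringEquiv (Ideal.ResidueField.map _ _ _ hp) (resEquiv hU hx)]
  congr 1
  refine Ideal.ResidueField.ringHom_ext (RingHom.ext fun a => ?_)
  show f.residueFieldMap x (resMap hV (e hx) (algebraMap _ _ a)) =
    resMap hU hx (Ideal.ResidueField.map _ _ _ hp (algebraMap _ _ a))
  rw [Ideal.ResidueField.map_algebraMap, resMap_algebraMap, resMap_algebraMap]
  exact residueFieldMap_evaluation f e hx a

/-- The dimension of a point of a fibre is `trdeg κ(x)/κ(f x)`. -/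
theorem ptDim_fiber (y : Y) (z : f.fiber y) :
    DimLib.ptDim (k := Y.residueField y) (f.fiberToSpecResidueField y) z =
      DimLib.trdegHom (f.residueFieldMap (f.fiberι y z)).hom := by
  have hy : y = f (f.fiberι y z) :=
    ((f.range_fiberι y).le ⟨z, rfl⟩ : f (f.fiberι y z) = y).symm
  have h : CommRingCat.ofHom (DimLib.baseRingHom (k := Y.residueField y)
        (f.fiberToSpecResidueField y) z) =
      (Y.residueFieldCongr hy).hom ≫ f.residueFieldMap (f.fiberι y z) ≫
        (f.fiberι y).residueFieldMap z := by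
    apply Spec.map_injective
    rw [DimLib.specMap_baseRingHom, ← cancel_mono (Y.fromSpecResidueField y), Spec.map_comp,
      Spec.map_comp, Category.assoc, Category.assoc, Category.assoc,
      Scheme.residueFieldCongr_fromSpecResidueField,
      Scheme.Hom.SpecMap_residueFieldMap_fromSpecResidueField,
      Scheme.Hom.SpecMap_residueFieldMap_fromSpecResidueField_assoc, f.fiber_fac]
  have := DimLib.isIso_residueFieldMap_of_isPreimmersion (f.fiberι y) z
  have h' : DimLib.baseRingHom (k := Y.residueField y) (f.fiberToSpecResidueField y) z =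
      ((asIso ((f.fiberι y).residueFieldMap z)).commRingCatIsoToRingEquiv : _ →+* _).comp
        ((f.residueFieldMap (f.fiberι y z)).hom.comp
          ((Y.residueFieldCongr hy).commRingCatIsoToRingEquiv : _ →+* _)) :=
    congrArg CommRingCat.Hom.hom h
  rw [DimLib.ptDim, h', DimLib.trdegHom_comp_ringEquiv, trdegHom_ringEquiv_comp]

include hV in
/-- The dimension of the closure of a point in its fibre, in an affine chart. -/
theorem topologicalKrullDim_closure_eq [LocallyOfFiniteType f] (y : Y) (z : f.fiber y)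
    (hz : f.fiberι y z ∈ U) :
    letI := (f.appLE V U e).hom.toAlgebra
    topologicalKrullDim ↥(closure ({z} : Set ↥(f.fiber y))) =
      (trd Γ(Y, V) (hU.primeIdealOf ⟨f.fiberι y z, hz⟩) : WithBot ℕ∞) := by
  let _ := (f.appLE V U e).hom.toAlgebra
  have : LocallyOfFiniteType (f.fiberToSpecResidueField y) :=
    (inferInstanceAs (LocallyOfFiniteType (Limits.pullback.snd f (Y.fromSpecResidueField y))))
  rw [DimLib.topologicalKrullDim_eq_ptDim_of_isGenericPoint (k := Y.residueField y)
    (f.fiberToSpecResidueField y) (isGenericPoint_closure (x := z)), ptDim_fiber f y z,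
    trdegHom_residueFieldMap f hV hU e hz]

end Groth.Agent.EGA43.FibDepth
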