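import Groth.Agent.EGA43.FibDepth.Bridge
import Groth.Agent.EGA43.FibDepth.Points
import Groth.Agent.EGA43.FlatSyzygy
import Groth.Agent.EGA43.QcohFlat

/-!
# Depth and codepth on the fibres of a morphism (EGA IV 12.1, 12.2)
-/

set_option autoImplicit false
set_option backward.isDefEq.respectTransparency false

universe u

open CategoryTheory CategoryTheory.Limits AlgebraicGeometry TopologicalSpace TensorProduct Function

namespace Groth.Agent.EGA43.FibDepth

open Groth.Agent

attribute [local instance] Algebra.TensorProduct.rightAlgebra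

section Algebra

variable {P B : Type u} [CommRing P] [CommRing B] [Algebra P B]

/-- Localised modules along a surjection of rings. -/
theorem isLocalizedModule_restrictScalars_of_surjective (hs : Surjective (algebraMap P B))
    (T : Submonoid B) {M F : Type u} [AddCommGroup M] [Module B M] [Module P M] [IsScalarTower P B M]
    [AddCommGroup F] [Module B F] [Module P F] [IsScalarTower P B F] (φ : M →ₗ[B] F)
    [IsLocalizedModule T φ] :
    IsLocalizedModule (T.comap (algebraMap P B)) (φ.restrictScalars P) := by
  have h : Algebra.algebraMapSubmonoid B (T.comap (algebraMap P B)) = T :=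
    Submonoid.map_comap_eq_of_surjective (f := (algebraMap P B : P →* B)) hs T
  have : IsLocalizedModule (Algebra.algebraMapSubmonoid B (T.comap (algebraMap P B))) φ := by
    rwa [h]
  exact IsLocalizedModule.restrictScalars _ φ

/-- A finitely presented module over a finitely presented quotient. -/
theorem finitePresentation_of_surjective {A : Type u} [CommRing A] [Algebra A P] [Algebra A B]
    [IsScalarTower A P B] [Algebra.FinitePresentation A P] [Algebra.FinitePresentation A B]
    (hs : Surjective (algebraMap P B)) (M : Type u) [AddCommGroup M] [Module B M] [Module P M]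
    [IsScalarTower P B M] [Module.FinitePresentation B M] : Module.FinitePresentation P M := by
  have hker : (RingHom.ker (algebraMap P B)).FG :=
    Algebra.FinitePresentation.ker_fG_of_surjective (IsScalarTower.toAlgHom A P B) hs
  have : Module.FinitePresentation P B :=
    Module.finitePresentation_of_surjective (Algebra.linearMap P B) hs hker
  exact Module.FinitePresentation.trans P M B

/-- `exists_fibre_prime` in a chart `B = P / I` of an `A`-algebra. -/
theorem exists_fibre_prime_of_chart {A P B O S : Type u} [CommRing A] [CommRing P] [Algebra A P]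
    [Algebra.FiniteType A P] [CommRing B] [Algebra A B] [CommRing O] [IsLocalRing O] [Algebra B O]
    [CommRing S] [IsLocalRing S] [Algebra O S] {M F G : Type u} [AddCommGroup M] [Module B M]
    [AddCommGroup F] [Module O F] [Module B F] [IsScalarTower B O F] [AddCommGroup G] [Module S G]
    (π : P →+* B) (hπ : Surjective π) (hc : π.comp (algebraMap A P) = algebraMap A B)
    (q' : PrimeSpectrum B) [IsLocalization.AtPrime O q'.asIdeal] (φ : M →ₗ[B] F)
    [IsLocalizedModule q'.asIdeal.primeCompl φ]
    (hfin : letI := Module.compHom M π; Module.Finite P M)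
    (hsurj : Surjective (algebraMap O S))
    (hker : RingHom.ker (algebraMap O S) =
      ((q'.asIdeal.comap (algebraMap A B)).map (algebraMap A B)).map (algebraMap B O))
    (e1 : G ≃ₗ[S] S ⊗[O] F) :
    letI := Module.compHom M π
    let q := PrimeSpectrum.comap π q'
    let C := (q.asIdeal.comap (algebraMap A P)).Fiber P
    ∃ Q : PrimeSpectrum C, PrimeSpectrum.comap (algebraMap P C) Q = q ∧
      _root_.LocCoh.depth S G = _root_.LocCoh.depth (Localization.AtPrime Q.asIdeal)
          (Localization.AtPrime Q.asIdeal ⊗[P] M) ∧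
      Module.supportDim S G = Module.supportDim (Localization.AtPrime Q.asIdeal)
          (Localization.AtPrime Q.asIdeal ⊗[P] M) ∧
      ringKrullDim (C ⧸ Q.asIdeal) = (trd A q' : WithBot ℕ∞) ∧
      (∀ k, _root_.LocCoh.HasSk k S G ↔ _root_.LocCoh.HasSk k (Localization.AtPrime Q.asIdeal)
          (Localization.AtPrime Q.asIdeal ⊗[P] M)) ∧
      (EGA4.IsEquidimModule S G ↔ EGA4.IsEquidimModule (Localization.AtPrime Q.asIdeal)
          (Localization.AtPrime Q.asIdeal ⊗[P] M)) := by
  intro q C
  let _ := Module.compHom M π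
  let _ : Algebra P B := π.toAlgebra
  have : IsScalarTower A P B := .of_algebraMap_eq' hc.symm
  have : IsScalarTower P B M := IsScalarTower.of_algebraMap_smul fun _ _ => rfl
  let _ : Algebra P O := ((algebraMap B O).comp π).toAlgebra
  let _ : Module P F := Module.compHom F ((algebraMap B O).comp π)
  have : IsScalarTower P O F := IsScalarTower.of_algebraMap_smul fun _ _ => rfl
  have : IsScalarTower P B F := IsScalarTower.of_algebraMap_smul fun r x => by
    show π r • x = algebraMap B O (π r) • x
    rw [algebraMap_smul]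
  have hφ : IsLocalizedModule q.asIdeal.primeCompl (φ.restrictScalars P) :=
    isLocalizedModule_restrictScalars_of_surjective hπ q'.asIdeal.primeCompl φ
  obtain ⟨Q, hQ, hdepth, hdim, hsk, heq⟩ := exists_fibre_prime (O := O) (S := S) (F := F) q
    (q.asIdeal.comap (algebraMap A P)) rfl
    (by
      show (IsLocalRing.maximalIdeal O).comap ((algebraMap B O).comp π) = _
      rw [← Ideal.comap_comap]
      exact congrArg (Ideal.comap π) (IsLocalization.AtPrime.under_maximalIdeal O q'.asIdeal))
    (fun o => by
      obtain ⟨⟨r, s⟩, h⟩ := IsLocalization.surj q'.asIdeal.primeCompl o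
      obtain ⟨r', hr'⟩ := hπ r
      obtain ⟨s', hs'⟩ := hπ s.1
      refine ⟨r', s', fun h' => s.2 (hs' ▸ h' : (s : B) ∈ q'.asIdeal), ?_⟩
      show algebraMap B O (π s') * o = algebraMap B O (π r')
      rw [hr', hs', mul_comm]
      exact h)
    hsurj
    (by
      rw [hker, Ideal.map_map, Ideal.map_map, ← hc]
      show _ = Ideal.map (((algebraMap B O).comp π).comp (algebraMap A P))
        ((Ideal.comap π q'.asIdeal).comap (algebraMap A P))
      rw [Ideal.comap_comap, RingHom.comp_assoc])
    (φ.restrictScalars P)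
  refine ⟨Q, hQ, (CAlgH3.depth_congr e1).trans hdepth,
    (Module.supportDim_eq_of_equiv e1).trans hdim, ?_, fun k => (hasSk_congr e1 k).trans (hsk k),
    (isEquidimModule_congr e1).trans heq⟩
  rw [ringKrullDim_quotient_eq_trd (A := A) (R := P) (q.asIdeal.comap (algebraMap A P)) Q, hQ]
  congr 1
  exact trd_comap_of_surjectiveOnStalks (IsScalarTower.toAlgHom A P B)
    (RingHom.surjectiveOnStalks_of_surjective hπ) q'

end Algebra

variable {X Y : Scheme.{u}} (f : X ⟶ Y) (F : X.Modules) {V : Y.Opens} (hV : IsAffineOpen V)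
  {U : X.Opens} (hU : IsAffineOpen U) (e : U ≤ f ⁻¹ᵁ V)

include hU hV in
theorem flat_sections [Coh.IsQCoh F] (hflat : ∀ x ∈ U, FlatMod.IsFlatOverAt f F x) :
    letI := QcohFlat.overModule f F V U e
    Module.Flat Γ(Y, V) Γ(F, U) := by
  let _ := (f.appLE V U e).hom.toAlgebra
  let _ := QcohFlat.overModule f F V U e
  have : IsScalarTower Γ(Y, V) Γ(X, U) Γ(F, U) := IsScalarTower.of_algebraMap_smul fun _ _ => rfl
  refine Module.flat_of_isLocalized_maximal (S := Γ(X, U)) _
    (fun P _ => LocalizedModule P.primeCompl Γ(F, U))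
    (fun P _ => LocalizedModule.mkLinearMap P.primeCompl _) fun P hP => ?_
  have hy : hU.fromSpec ⟨P, hP.isPrime⟩ ∈ U := hU.range_fromSpec.le ⟨_, rfl⟩
  have := (QcohFlat.isFlatOverAt_iff f F hV hU e hy).1 (hflat _ hy)
  rwa [show hU.primeIdealOf ⟨_, hy⟩ = ⟨P, hP.isPrime⟩ from
    hU.fromSpec.isOpenEmbedding.injective (hU.fromSpec_primeIdealOf _)] at this

section Main

variable {P : Type u} [CommRing P] [Algebra Γ(Y, V) P]

set_option maxHeartbeats 1000000 in
-- long chains of instances on stalks
include hV in
/-- The local invariants of the restriction of `F` to a fibre, computed on the fibres of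
`Spec P / V` for an affine chart `Γ(X, U) = P / I`. -/
theorem exists_fibre_point [Coh.IsQCoh F] [LocallyOfFiniteType f] [Algebra.FiniteType Γ(Y, V) P]
    (π : P →+* Γ(X, U))
    (hπ : Surjective π) (hc : π.comp (algebraMap Γ(Y, V) P) = (f.appLE V U e).hom)
    (hfin : letI := Module.compHom Γ(F, U) π; Module.Finite P Γ(F, U))
    (y : Y) (z : f.fiber y) (hz : f.fiberι y z ∈ U) :
    letI := Module.compHom Γ(F, U) π
    let q := PrimeSpectrum.comap π (hU.primeIdealOf ⟨f.fiberι y z, hz⟩)
    let C := (q.asIdeal.comap (algebraMap Γ(Y, V) P)).Fiber P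
    ∃ Q : PrimeSpectrum C, PrimeSpectrum.comap (algebraMap P C) Q = q ∧
      _root_.LocCoh.depth ((f.fiber y).presheaf.stalk z)
          (((Scheme.Modules.pullback (f.fiberι y)).obj F).presheaf.stalk z) =
        _root_.LocCoh.depth (Localization.AtPrime Q.asIdeal)
          (Localization.AtPrime Q.asIdeal ⊗[P] Γ(F, U)) ∧
      Module.supportDim ((f.fiber y).presheaf.stalk z)
          (((Scheme.Modules.pullback (f.fiberι y)).obj F).presheaf.stalk z) =
        Module.supportDim (Localization.AtPrime Q.asIdeal)
          (Localization.AtPrime Q.asIdeal ⊗[P] Γ(F, U)) ∧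
      topologicalKrullDim ↥(closure ({z} : Set ↥(f.fiber y))) = ringKrullDim (C ⧸ Q.asIdeal) ∧
      (∀ k, _root_.LocCoh.HasSk k ((f.fiber y).presheaf.stalk z)
          (((Scheme.Modules.pullback (f.fiberι y)).obj F).presheaf.stalk z) ↔
        _root_.LocCoh.HasSk k (Localization.AtPrime Q.asIdeal)
          (Localization.AtPrime Q.asIdeal ⊗[P] Γ(F, U))) ∧
      (EGA4.IsEquidimModule ((f.fiber y).presheaf.stalk z)
          (((Scheme.Modules.pullback (f.fiberι y)).obj F).presheaf.stalk z) ↔
        EGA4.IsEquidimModule (Localization.AtPrime Q.asIdeal)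
          (Localization.AtPrime Q.asIdeal ⊗[P] Γ(F, U))) := by
  intro q C
  let x := f.fiberι y z
  let _ := (f.appLE V U e).hom.toAlgebra
  let _ : Algebra Γ(X, U) (X.presheaf.stalk x) := (X.presheaf.germ U x hz).hom.toAlgebra
  let _ : Module Γ(X, U) (F.presheaf.stalk x) :=
    Module.compHom (F.presheaf.stalk x) (X.presheaf.germ U x hz).hom
  have : IsScalarTower Γ(X, U) (X.presheaf.stalk x) (F.presheaf.stalk x) :=
    IsScalarTower.of_algebraMap_smul fun _ _ => rfl
  let φ : Γ(F, U) →ₗ[Γ(X, U)] F.presheaf.stalk x :=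
    { toFun := fun m => F.presheaf.germ U x hz m
      map_add' := fun a b => map_add _ a b
      map_smul' := fun r m => QCohLoc.germ_smul' F hz r m }
  have := QcohFP.isLocalizedModule_germ F hU hz φ fun _ => rfl
  have hloc : IsLocalization.AtPrime (X.presheaf.stalk x) (hU.primeIdealOf ⟨x, hz⟩).asIdeal :=
    hU.isLocalization_stalk ⟨x, hz⟩
  obtain ⟨hsurj, hker⟩ := Props12.stalkMap_fiberι f y z
  have hker' := hker.trans (Cons.map_maximalIdeal_eq f hV hU e hz)
  let _ : Algebra (X.presheaf.stalk x) ((f.fiber y).presheaf.stalk z) :=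
    ((f.fiberι y).stalkMap z).hom.toAlgebra
  let e1 : ((Scheme.Modules.pullback (f.fiberι y)).obj F).presheaf.stalk z ≃ₗ[(f.fiber y).presheaf.stalk z]
      (f.fiber y).presheaf.stalk z ⊗[X.presheaf.stalk x] F.presheaf.stalk x :=
    ((ModStalk.pullbackStalkIso (f.fiberι y) z).app F).toLinearEquiv
  obtain ⟨Q, hQ, hdepth, hdim, htrd, hsk, heq⟩ := exists_fibre_prime_of_chart (A := Γ(Y, V)) (P := P)
    (O := X.presheaf.stalk x) (S := (f.fiber y).presheaf.stalk z)
    π hπ hc (hU.primeIdealOf ⟨x, hz⟩) φ hfin hsurj hker' e1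
  refine ⟨Q, hQ, hdepth, hdim, ?_, hsk, heq⟩
  rw [htrd]
  exact topologicalKrullDim_closure_eq f hV hU e y z hz

end Main

end Groth.Agent.EGA43.FibDepth
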