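import Groth.Agent.EGA43.FibDepth.Fibre
import Mathlib.RingTheory.ZariskisMainTheorem
import Mathlib.RingTheory.KrullDimension.NonZeroDivisors
import Mathlib.RingTheory.TensorProduct.MvPolynomial

/-!
# Upper semicontinuity of the dimension of fibres (EGA IV 13.1.3), algebraic form

For `R` of finite type over `A`, the primes `q` with `trd A q' ≤ n` for all generalisations `q'`
of `q` in its fibre form an open set.
-/

set_option autoImplicit false
set_option backward.isDefEq.respectTransparency false

universe u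

open TensorProduct Function MvPolynomial

namespace Groth.Agent.EGA43.FibDepth

attribute [local instance] Algebra.TensorProduct.rightAlgebra

variable {A R : Type u} [CommRing A] [CommRing R] [Algebra A R] [Algebra.FiniteType A R]

theorem trd_mono {q' q : PrimeSpectrum R} (hle : q'.asIdeal ≤ q.asIdeal)
    (hp : q.asIdeal.comap (algebraMap A R) = q'.asIdeal.comap (algebraMap A R)) :
    trd A q ≤ trd A q' := by
  let p := q.asIdeal.comap (algebraMap A R)
  let C := p.Fiber R
  obtain ⟨Q', hQ'⟩ := exists_prime_over (A := A) (p := p) C q' hp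
  obtain ⟨Q, hQ⟩ := exists_prime_over (A := A) (p := p) C q rfl
  have hle' : Q'.asIdeal ≤ Q.asIdeal := le_of_comap_le (R := R) p (by rw [hQ', hQ]; exact hle)
  have h1 := ringKrullDim_quotient_eq_trd (R := R) p Q'
  have h2 := ringKrullDim_quotient_eq_trd (R := R) p Q
  rw [hQ'] at h1
  rw [hQ] at h2
  have : ringKrullDim (C ⧸ Q.asIdeal) ≤ ringKrullDim (C ⧸ Q'.asIdeal) :=
    ringKrullDim_le_of_surjective _ (Ideal.Quotient.factor_surjective hle')
  rw [h1, h2] at this
  exact_mod_cast this

omit [Algebra A R] [Algebra.FiniteType A R] in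
theorem trdegHom_comp_of_isAlgebraic {K L E : Type u} [Field K] [Field L] [Field E] (φ : K →+* L)
    (aL : Algebra L E) [Algebra.IsAlgebraic L E] :
    DimLib.trdegHom ((algebraMap L E).comp φ) = DimLib.trdegHom φ := by
  let _ := φ.toAlgebra
  let _ := ((algebraMap L E).comp φ).toAlgebra
  have : IsScalarTower K L E := .of_algebraMap_eq' rfl
  have h0 : Algebra.trdeg L E = 0 := trdeg_eq_zero
  have := trdeg_add_eq K L (A := E)
  rw [h0, add_zero] at this
  exact congrArg Cardinal.toNat this.symm

omit [Algebra.FiniteType A R] in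
/-- A transcendence degree does not grow along quasi-finite maps. -/
theorem trd_eq_of_quasiFinite {B : Type u} [CommRing B] [Algebra A B] [Algebra B R]
    [IsScalarTower A B R] [Algebra.QuasiFinite B R] (q : PrimeSpectrum R) :
    trd A q = trd A (PrimeSpectrum.comap (algebraMap B R) q) := by
  let P := PrimeSpectrum.comap (algebraMap B R) q
  have : q.asIdeal.LiesOver P.asIdeal := ⟨rfl⟩
  let _ := Localization.AtPrime.algebraOfLiesOver P.asIdeal q.asIdeal
  have : Module.Finite P.asIdeal.ResidueField q.asIdeal.ResidueField := inferInstance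
  have hp : q.asIdeal.comap (algebraMap A R) = P.asIdeal.comap (algebraMap A B) := by
    show _ = Ideal.comap (algebraMap A B) (Ideal.comap (algebraMap B R) q.asIdeal)
    rw [Ideal.comap_comap, ← IsScalarTower.algebraMap_eq]
  rw [trd_eq_trdegHom q hp.symm]
  let φ := Ideal.ResidueField.map (P.asIdeal.comap (algebraMap A B)) P.asIdeal (algebraMap A B) rfl
  have hcomp : Ideal.ResidueField.map (P.asIdeal.comap (algebraMap A B)) q.asIdeal (algebraMap A R)
      hp.symm = (algebraMap P.asIdeal.ResidueField q.asIdeal.ResidueField).comp φ := by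
    refine Ideal.ResidueField.ringHom_ext (RingHom.ext fun a => ?_)
    simp only [RingHom.comp_apply, φ, Ideal.ResidueField.map_algebraMap]
    rw [← IsScalarTower.algebraMap_apply B P.asIdeal.ResidueField q.asIdeal.ResidueField,
      IsScalarTower.algebraMap_apply B R q.asIdeal.ResidueField,
      ← IsScalarTower.algebraMap_apply A B R]
  rw [hcomp]
  exact trdegHom_comp_of_isAlgebraic φ _

theorem trd_mvPolynomial_le {s : ℕ} (P : PrimeSpectrum (MvPolynomial (Fin s) A)) : trd A P ≤ s := by
  let p := P.asIdeal.comap (algebraMap A (MvPolynomial (Fin s) A))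
  let C := p.Fiber (MvPolynomial (Fin s) A)
  obtain ⟨Q, hQ⟩ := exists_prime_over (A := A) (p := p) C P rfl
  have h := ringKrullDim_quotient_eq_trd (R := MvPolynomial (Fin s) A) p Q
  rw [hQ] at h
  have h' : ringKrullDim C = (s : WithBot ℕ∞) := by
    rw [ringKrullDim_eq_of_ringEquiv (MvPolynomial.algebraTensorAlgEquiv A p.ResidueField).toRingEquiv]
    simp [ringKrullDim_eq_zero_of_field]
  have := (ringKrullDim_quotient_le Q.asIdeal).trans_eq h'
  rw [h] at this
  exact_mod_cast this

omit [Algebra.FiniteType A R] in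
/-- Finite on the fibre implies quasi-finite. -/
theorem quasiFiniteAt_of_finite_fibre {B D : Type u} [CommRing B] [Algebra A B] [Algebra B R]
    [IsScalarTower A B R] [Algebra.FiniteType B R] (q : PrimeSpectrum R) (p : Ideal A) [p.IsPrime]
    (hp : p = q.asIdeal.comap (algebraMap A R)) [CommRing D] [Algebra R D] [Algebra A D]
    [Algebra p.ResidueField D] [IsScalarTower A p.ResidueField D] [IsScalarTower A R D]
    [Algebra.IsPushout A p.ResidueField R D] {G : Type u} [CommRing G] (g : G →+* D) (hg : g.Finite)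
    (ev : G →+* (q.asIdeal.comap (algebraMap B R)).ResidueField)
    (hev : ∀ x : G, ∀ T : Type u, ∀ [CommRing T],
      ∀ (h : D →+* T) (j : (q.asIdeal.comap (algebraMap B R)).ResidueField →+* T),
        (∀ b, h (algebraMap R D (algebraMap B R b)) =
          j (algebraMap B (q.asIdeal.comap (algebraMap B R)).ResidueField b)) →
        h (g x) = j (ev x)) :
    Algebra.QuasiFiniteAt B q.asIdeal := by
  let P' := q.asIdeal.comap (algebraMap B R)
  have hpP : p = P'.comap (algebraMap A B) := by
    rw [hp, Ideal.comap_comap, ← IsScalarTower.algebraMap_eq]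
  let T := P'.Fiber R
  let κ : p.ResidueField →ₐ[A] T :=
    (IsScalarTower.toAlgHom A P'.ResidueField T).comp
      (Ideal.ResidueField.mapₐ p P' (Algebra.ofId A B) hpP)
  let i : R →ₐ[A] T := (Algebra.TensorProduct.includeRight : R →ₐ[B] T).restrictScalars A
  let l : p.ResidueField ⊗[A] R →ₐ[A] T := Algebra.TensorProduct.lift κ i fun _ _ => Commute.all _ _
  let e := Algebra.IsPushout.equiv A p.ResidueField R D
  let h : D →+* T := l.toRingHom.comp e.symm.toRingEquiv.toRingHom
  have hR : ∀ b, h (algebraMap R D b) = algebraMap R T b := fun b => by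
    show l (e.symm (algebraMap R D b)) = _
    rw [Algebra.IsPushout.equiv_symm_algebraMap_right]
    simp [l, i]
    rfl
  have hint : ∀ b : R, IsIntegral P'.ResidueField (algebraMap R T b) := fun b => by
    obtain ⟨F, hF, hF0⟩ := hg.to_isIntegral (algebraMap R D b)
    refine ⟨F.map ev, hF.map ev, ?_⟩
    have hgh : h.comp g = (algebraMap P'.ResidueField T).comp ev := RingHom.ext fun x => by
      refine hev x T h (algebraMap P'.ResidueField T) fun c => ?_
      rw [hR, ← IsScalarTower.algebraMap_apply B R T, ← IsScalarTower.algebraMap_apply]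
    rw [Polynomial.eval₂_map, ← hgh, ← hR, ← Polynomial.hom_eval₂, hF0, map_zero]
  have : Algebra.IsIntegral P'.ResidueField T := by
    refine ⟨fun t => ?_⟩
    induction t using TensorProduct.induction_on with
    | zero => exact isIntegral_zero
    | add u v hu hv => exact hu.add hv
    | tmul x b =>
      have : x ⊗ₜ[B] b = algebraMap P'.ResidueField T x * algebraMap R T b := by
        show _ = (x ⊗ₜ[B] (1 : R)) * ((1 : P'.ResidueField) ⊗ₜ[B] b)
        rw [Algebra.TensorProduct.tmul_mul_tmul, mul_one, one_mul]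
      rw [this]
      exact isIntegral_algebraMap.mul (hint b)
  have : Module.Finite P'.ResidueField T := Algebra.IsIntegral.finite
  obtain ⟨Q, hQ⟩ := exists_prime_over (A := B) (p := P') T q rfl
  have : Algebra.QuasiFinite P'.ResidueField T := inferInstance
  have : Algebra.QuasiFiniteAt P'.ResidueField Q.asIdeal :=
    Algebra.QuasiFinite.of_isLocalization Q.asIdeal.primeCompl
  have : q.asIdeal.LiesOver P' := ⟨rfl⟩
  exact Algebra.QuasiFiniteAt.of_quasiFiniteAt_residueField P' q.asIdeal Q.asIdeal
    (congrArg PrimeSpectrum.asIdeal hQ)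

/-- A fibre of small dimension is finite over an affine space near any of its points. -/
theorem exists_quasiFiniteAt (q : PrimeSpectrum R) {n : ℕ}
    (h : ∀ q' : PrimeSpectrum R,
      q'.asIdeal.comap (algebraMap A R) = q.asIdeal.comap (algebraMap A R) → trd A q' ≤ n) :
    ∃ (s : ℕ) (ψ : MvPolynomial (Fin s) A →ₐ[A] R), s ≤ n ∧
      letI := ψ.toRingHom.toAlgebra
      Algebra.QuasiFiniteAt (MvPolynomial (Fin s) A) q.asIdeal := by
  let p := q.asIdeal.comap (algebraMap A R)
  let D := p.Fiber R
  have : Algebra.FiniteType p.ResidueField D := finiteType_fibre (A := A) (R := R) p D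
  obtain ⟨Q, hQ⟩ := exists_prime_over (A := A) (p := p) D q rfl
  have : Nontrivial D := nontrivial_of_ne 1 0 fun e =>
    Q.isPrime.ne_top ((Ideal.eq_top_iff_one _).2 (e ▸ zero_mem _))
  obtain ⟨s, g, hinj, hfin⟩ := exists_finite_inj_algHom_of_fg p.ResidueField D
  have hs : s ≤ n := by
    have h1 : ringKrullDim (MvPolynomial (Fin s) p.ResidueField) = ringKrullDim D := by
      have hfin' : g.toRingHom.Finite := hfin
      algebraize [g.toRingHom]
      exact DimLib.ringKrullDim_eq_of_isIntegral hinj
    have h2 : ringKrullDim D ≤ (n : WithBot ℕ∞) := by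
      refine iSup_le fun l => ?_
      let I := l.head.asIdeal
      have h3 : ringKrullDim (D ⧸ I) ≤ (n : WithBot ℕ∞) := by
        rw [ringKrullDim_quotient_eq_trd (R := R) p l.head]
        exact_mod_cast h _ (comap_algebraMap_eq (R := R) p l.head).symm
      refine le_trans ?_ h3
      rw [ringKrullDim_quotient]
      let l' : LTSeries (PrimeSpectrum.zeroLocus (I : Set D)) :=
        { length := l.length
          toFun := fun i => ⟨l i, fun x hx => (l.monotone (Fin.zero_le i)) hx⟩
          step := fun i => l.step i }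
      exact Order.LTSeries.length_le_krullDim l'
    rw [← h1] at h2
    simp [ringKrullDim_eq_zero_of_field] at h2
    exact h2
  choose r hr b hb using fun i : Fin s => exists_smul_eq_map R p (g (X i))
  let u : Fin s → p.ResidueFieldˣ := fun i => Units.mk0 (algebraMap A p.ResidueField (r i))
    fun h => hr i (Ideal.algebraMap_residueField_eq_zero.1 h)
  let σ : MvPolynomial (Fin s) p.ResidueField →ₐ[p.ResidueField] MvPolynomial (Fin s) p.ResidueField :=
    aeval fun i => C (u i : p.ResidueField) * X i
  let τ : MvPolynomial (Fin s) p.ResidueField →ₐ[p.ResidueField] MvPolynomial (Fin s) p.ResidueField :=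
    aeval fun i => C ((u i)⁻¹ : p.ResidueFieldˣ).1 * X i
  have hστ : σ.comp τ = AlgHom.id _ _ := algHom_ext fun i => by
    simp only [τ, σ, AlgHom.comp_apply, aeval_X, map_mul, aeval_C, AlgHom.id_apply]
    rw [MvPolynomial.algebraMap_eq, ← mul_assoc, ← map_mul, Units.inv_mul, map_one, one_mul]
  have hσ : Surjective σ := fun x => ⟨τ x, AlgHom.congr_fun hστ x⟩
  let g' := g.comp σ
  have hfin' : g'.toRingHom.Finite :=
    RingHom.Finite.comp hfin (RingHom.Finite.of_surjective σ.toRingHom hσ)
  have hg'X : ∀ i, g' (X i) = algebraMap R D (b i) := fun i => by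
    simp only [g', σ, AlgHom.comp_apply, aeval_X, map_mul]
    rw [← hb i, ← MvPolynomial.algebraMap_eq, g.commutes]
    congr 1
  let ψ : MvPolynomial (Fin s) A →ₐ[A] R := aeval b
  refine ⟨s, ψ, hs, ?_⟩
  let _ := ψ.toRingHom.toAlgebra
  have : IsScalarTower A (MvPolynomial (Fin s) A) R :=
    .of_algebraMap_eq fun a => (ψ.commutes a).symm
  have : Algebra.FiniteType (MvPolynomial (Fin s) A) R :=
    Algebra.FiniteType.of_restrictScalars_finiteType A _ R
  let P' := q.asIdeal.comap (algebraMap (MvPolynomial (Fin s) A) R)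
  have hpP : p = P'.comap (algebraMap A (MvPolynomial (Fin s) A)) := by
    rw [Ideal.comap_comap, ← IsScalarTower.algebraMap_eq]
  let j₀ : p.ResidueField →ₐ[A] P'.ResidueField :=
    Ideal.ResidueField.mapₐ p P' (Algebra.ofId A (MvPolynomial (Fin s) A)) hpP
  let ev : MvPolynomial (Fin s) p.ResidueField →+* P'.ResidueField :=
    eval₂Hom j₀.toRingHom fun i => algebraMap (MvPolynomial (Fin s) A) P'.ResidueField (X i)
  refine quasiFiniteAt_of_finite_fibre (B := MvPolynomial (Fin s) A) q p rfl g'.toRingHom hfin'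
    ev ?_
  intro x T _ hT j hj
  refine congr($(MvPolynomial.ringHom_ext (f := hT.comp g'.toRingHom) (g := j.comp ev)
    (fun c => ?_) (fun i => ?_)) x)
  · have h1 : (hT.comp (algebraMap p.ResidueField D)) = j.comp j₀.toRingHom := by
      refine Ideal.ResidueField.ringHom_ext (RingHom.ext fun a => ?_)
      simp only [RingHom.comp_apply, AlgHom.toRingHom_eq_coe, RingHom.coe_coe, AlgHom.commutes]
      rw [← IsScalarTower.algebraMap_apply A p.ResidueField D, IsScalarTower.algebraMap_apply A R D,
        IsScalarTower.algebraMap_apply A (MvPolynomial (Fin s) A) R, hj,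
        ← IsScalarTower.algebraMap_apply]
      exact congrArg j (j₀.commutes a).symm
    show hT (g' (C c)) = j (ev (C c))
    rw [show ev (C c) = j₀ c from eval₂Hom_C _ _ c,
      show g' (C c) = algebraMap p.ResidueField D c from g'.commutes c]
    exact congr($h1 c)
  · show hT (g' (X i)) = j (ev (X i))
    rw [show ev (X i) = algebraMap (MvPolynomial (Fin s) A) P'.ResidueField (X i) from
      eval₂Hom_X' _ _ i, hg'X, show b i = algebraMap (MvPolynomial (Fin s) A) R (X i) from
      (aeval_X b i).symm]
    exact hj _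

/-- If all points of the fibre through `q` have `trd ≤ n`, so do all points near `q`. -/
theorem exists_nhd_trd_le (q : PrimeSpectrum R) {n : ℕ}
    (h : ∀ q' : PrimeSpectrum R,
      q'.asIdeal.comap (algebraMap A R) = q.asIdeal.comap (algebraMap A R) → trd A q' ≤ n) :
    ∃ r ∉ q.asIdeal, ∀ q' : PrimeSpectrum R, r ∉ q'.asIdeal → trd A q' ≤ n := by
  obtain ⟨s, ψ, hs, hqf⟩ := exists_quasiFiniteAt q h
  let B := MvPolynomial (Fin s) A
  let _ := ψ.toRingHom.toAlgebra
  have : IsScalarTower A B R := .of_algebraMap_eq fun a => (ψ.commutes a).symm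
  have : Algebra.FiniteType B R := Algebra.FiniteType.of_restrictScalars_finiteType A _ R
  have : Algebra.QuasiFiniteAt B q.asIdeal := hqf
  obtain ⟨S', hS', r, hrq, hbij⟩ :=
    Algebra.QuasiFiniteAt.exists_fg_and_exists_notMem_and_awayMap_bijective (R := B) q.asIdeal
  have : Module.Finite B S' := ⟨(Submodule.fg_top _).mpr hS'⟩
  have : Algebra.QuasiFinite B (Localization.Away r) := .trans _ S' _
  have : Algebra.QuasiFinite B (Localization.Away r.1) :=
    .of_surjective_algHom (R := B) (S := Localization.Away r) (Localization.awayMapₐ S'.val r) hbij.2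
  refine ⟨r.1, hrq, fun q' hq' => ?_⟩
  obtain ⟨q₁, hq₁⟩ :=
    (PrimeSpectrum.localization_away_comap_range (Localization.Away r.1) r.1).ge hq'
  let φ := IsScalarTower.toAlgHom A R (Localization.Away r.1)
  have h1 := trd_comap_of_surjectiveOnStalks φ
    (RingHom.surjectiveOnStalks_of_isLocalization (M := Submonoid.powers r.1) _) q₁
  rw [show PrimeSpectrum.comap φ.toRingHom q₁ = q' from hq₁] at h1
  rw [h1, trd_eq_of_quasiFinite (B := B) q₁]
  exact (trd_mvPolynomial_le _).trans hs

/-- **Chevalley**: upper semicontinuity of the fibre dimension. -/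
theorem isOpen_trd_le (n : ℕ) :
    IsOpen {q : PrimeSpectrum R | ∀ q' : PrimeSpectrum R, q'.asIdeal ≤ q.asIdeal →
      q'.asIdeal.comap (algebraMap A R) = q.asIdeal.comap (algebraMap A R) → trd A q' ≤ n} := by
  refine isOpen_iff_forall_mem_open.2 fun q hq => ?_
  let p := q.asIdeal.comap (algebraMap A R)
  let D := p.Fiber R
  have : Algebra.FiniteType p.ResidueField D := finiteType_fibre (A := A) (R := R) p D
  have : IsNoetherianRing D := Algebra.FiniteType.isNoetherianRing p.ResidueField D
  -- the components of the fibre of large dimension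
  let S : Set (Ideal D) := {P₀ | ∃ hP : P₀ ∈ minimalPrimes D,
    n < trd A (PrimeSpectrum.comap (algebraMap R D) ⟨P₀, hP.1.1⟩)}
  have hSfin : S.Finite := (minimalPrimes.finite_of_isNoetherianRing D).subset fun P₀ h => h.1
  have hb : ∀ P₀ ∈ S, ∃ b ∉ q.asIdeal, algebraMap R D b ∈ P₀ := by
    rintro P₀ ⟨hP, hlt⟩
    by_contra hne
    push Not at hne
    refine hlt.not_ge (hq _ (fun b hb => by_contra fun hbq => hne b hbq hb) ?_)
    exact (comap_algebraMap_eq (R := R) p (⟨P₀, hP.1.1⟩ : PrimeSpectrum D)).symm
  choose! b hbq hbP using hb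
  let c := ∏ P₀ ∈ hSfin.toFinset, b P₀
  have hcq : c ∉ q.asIdeal := fun h => by
    obtain ⟨P₀, hP₀, hmem⟩ := q.isPrime.prod_mem_iff.1 h
    exact hbq P₀ (hSfin.mem_toFinset.1 hP₀) hmem
  let R' := Localization.Away c
  have : Algebra.FiniteType R R' := IsLocalization.finiteType_of_monoid_fg (Submonoid.powers c) R'
  have : Algebra.FiniteType A R' := Algebra.FiniteType.trans (S := R) inferInstance this
  let φ := IsScalarTower.toAlgHom A R R'
  have hsos : φ.toRingHom.SurjectiveOnStalks :=
    RingHom.surjectiveOnStalks_of_isLocalization (M := Submonoid.powers c) _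
  obtain ⟨q₁, hq₁⟩ := (PrimeSpectrum.localization_away_comap_range R' c).ge hcq
  have hp : q₁.asIdeal.comap (algebraMap A R') = p := by
    rw [IsScalarTower.algebraMap_eq A R R', ← Ideal.comap_comap]
    exact congrArg (fun z : PrimeSpectrum R => z.asIdeal.comap (algebraMap A R)) hq₁
  obtain ⟨r, hr, htr⟩ := exists_nhd_trd_le (n := n) q₁ fun q₂ hq₂ => by
    rw [← trd_comap_of_surjectiveOnStalks φ hsos q₂]
    let q₃ := PrimeSpectrum.comap φ.toRingHom q₂
    have hc : c ∉ q₃.asIdeal := (PrimeSpectrum.localization_away_comap_range R' c).le ⟨q₂, rfl⟩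
    have hp₃ : q₃.asIdeal.comap (algebraMap A R) = p := by
      rw [← hp, ← hq₂, IsScalarTower.algebraMap_eq A R R', ← Ideal.comap_comap]
      rfl
    obtain ⟨Q, hQ⟩ := exists_prime_over (A := A) (p := p) D q₃ hp₃.symm
    obtain ⟨P₀, hP₀, hle⟩ := Ideal.exists_minimalPrimes_le (bot_le : ⊥ ≤ Q.asIdeal)
    let s₀ := PrimeSpectrum.comap (algebraMap R D) (⟨P₀, hP₀.1.1⟩ : PrimeSpectrum D)
    have hs₀ : s₀.asIdeal ≤ q₃.asIdeal := fun x hx => hQ ▸ hle hx
    have hgood : trd A s₀ ≤ n := by
      by_contra hlt
      push Not at hlt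
      have hmem : P₀ ∈ S := ⟨hP₀, hlt⟩
      refine hc (Ideal.mem_of_dvd _ (Finset.dvd_prod_of_mem b (hSfin.mem_toFinset.2 hmem)) ?_)
      exact hs₀ (hbP P₀ hmem)
    refine le_trans (trd_mono hs₀ ?_) hgood
    rw [hp₃]
    exact comap_algebraMap_eq (R := R) p (⟨P₀, hP₀.1.1⟩ : PrimeSpectrum D)
  refine ⟨PrimeSpectrum.comap (algebraMap R R') '' (PrimeSpectrum.basicOpen r : Set _), ?_,
    (PrimeSpectrum.localization_away_isOpenEmbedding R' c).isOpenMap _
      (PrimeSpectrum.basicOpen r).isOpen, q₁, hr, hq₁⟩
  rintro _ ⟨q₂, hq₂, rfl⟩ q₃ hle -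
  have hc : c ∉ q₃.asIdeal := fun h =>
    (PrimeSpectrum.localization_away_comap_range R' c).le ⟨q₂, rfl⟩ (hle h)
  obtain ⟨q₄, rfl⟩ := (PrimeSpectrum.localization_away_comap_range R' c).ge hc
  rw [show PrimeSpectrum.comap (algebraMap R R') q₄ = PrimeSpectrum.comap φ.toRingHom q₄ from rfl,
    trd_comap_of_surjectiveOnStalks φ hsos q₄]
  refine htr q₄ fun h => hq₂ ?_
  exact (IsLocalization.orderEmbedding (Submonoid.powers c) R').le_iff_le.1 hle h

end Groth.Agent.EGA43.FibDepth
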