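import Groth.Agent.EGA43.Cons.Engine
import Groth.Agent.EGA43.FlatDescent.Model
import Groth.Agent.EGA43.FlatOpen
import Mathlib.RingTheory.RingHom.FinitePresentation

/-!
# Finite stratifications by flatness of finitely presented modules

`Spec A` is covered by finitely many `V(I) ∩ D(g)`, `I` finitely generated, over each of which a
given finitely presented module is flat.
-/

set_option autoImplicit false
set_option backward.isDefEq.respectTransparency false

universe u

open TensorProduct PrimeSpectrum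

namespace Groth.Agent.EGA43.FibDepth

variable {A : Type u} [CommRing A]

/-- The coordinate ring of the stratum `V(I) ∩ D(g)`. -/
abbrev StratumRing (x : Ideal A × A) : Type u := Localization.Away (Ideal.Quotient.mk x.1 x.2)

theorem isUnit_stratumRing (x : Ideal A × A) : IsUnit (algebraMap A (StratumRing x) x.2) := by
  rw [IsScalarTower.algebraMap_apply A (A ⧸ x.1) (StratumRing x)]
  exact IsLocalization.Away.algebraMap_isUnit _

theorem algebraMap_stratumRing_eq_zero (x : Ideal A × A) {a : A} (ha : a ∈ x.1) :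
    algebraMap A (StratumRing x) a = 0 := by
  rw [IsScalarTower.algebraMap_apply A (A ⧸ x.1) (StratumRing x),
    show algebraMap A (A ⧸ x.1) a = 0 from Ideal.Quotient.eq_zero_iff_mem.2 ha, map_zero]

theorem finitePresentation_stratumRing (x : Ideal A × A) (hx : x.1.FG) :
    Algebra.FinitePresentation A (StratumRing x) := by
  have : Algebra.FinitePresentation A (A ⧸ x.1) := Algebra.FinitePresentation.quotient hx
  have : Algebra.FinitePresentation (A ⧸ x.1) (StratumRing x) :=
    IsLocalization.Away.finitePresentation (Ideal.Quotient.mk x.1 x.2)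
  exact Algebra.FinitePresentation.trans A (A ⧸ x.1) (StratumRing x)

/-- Maps out of a stratum. -/
theorem exists_algHom_stratumRing {B : Type u} [CommRing B] [Algebra A B] (x : Ideal A × A)
    (h0 : ∀ a ∈ x.1, algebraMap A B a = 0) (hu : IsUnit (algebraMap A B x.2)) :
    Nonempty (StratumRing x →ₐ[A] B) := by
  let h₁ : (A ⧸ x.1) →ₐ[A] B := Ideal.Quotient.liftₐ x.1 (Algebra.ofId A B) h0
  exact ⟨
    { IsLocalization.Away.lift (S := StratumRing x) (Ideal.Quotient.mk x.1 x.2) (g := h₁.toRingHom) hu with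
      commutes' := fun a => by
        show IsLocalization.Away.lift (S := StratumRing x) (Ideal.Quotient.mk x.1 x.2)
          (g := h₁.toRingHom) hu (algebraMap A (StratumRing x) a) = _
        rw [IsScalarTower.algebraMap_apply A (A ⧸ x.1) (StratumRing x),
          IsLocalization.Away.lift_eq (S := StratumRing x)]
        exact h₁.commutes a }⟩

variable (A) in
theorem exists_flat_strata_of_isNoetherianRing [IsNoetherianRing A] (P M : Type u) [CommRing P]
    [Algebra A P] [Algebra.FiniteType A P] [AddCommGroup M] [Module A M] [Module P M]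
    [IsScalarTower A P M] [Module.Finite P M] :
    ∃ s : Finset (Ideal A × A), (∀ p : PrimeSpectrum A, ∃ x ∈ s, x.1 ≤ p.asIdeal ∧ x.2 ∉ p.asIdeal) ∧
      ∀ x ∈ s, Module.Flat (StratumRing x) (StratumRing x ⊗[A] M) := by
  classical
  suffices ∀ T : Set (PrimeSpectrum A), IsClosed T → ∃ s : Finset (Ideal A × A),
      (∀ p : PrimeSpectrum A, p ∈ T → ∃ x ∈ s, x.1 ≤ p.asIdeal ∧ x.2 ∉ p.asIdeal) ∧
      ∀ x ∈ s, Module.Flat (StratumRing x) (StratumRing x ⊗[A] M) by
    obtain ⟨s, hs, hf⟩ := this Set.univ isClosed_univ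
    exact ⟨s, fun p => hs p trivial, hf⟩
  refine H8Top.closed_induction (motive := fun T => ∃ s : Finset (Ideal A × A),
      (∀ p : PrimeSpectrum A, p ∈ T → ∃ x ∈ s, x.1 ≤ p.asIdeal ∧ x.2 ∉ p.asIdeal) ∧
      ∀ x ∈ s, Module.Flat (StratumRing x) (StratumRing x ⊗[A] M)) ?_ ?_ ?_
  · exact ⟨∅, by simp, by simp⟩
  · rintro T T' - - ⟨s, hs, hf⟩ ⟨s', hs', hf'⟩
    refine ⟨s ∪ s', fun p hp => ?_, fun x hx => (Finset.mem_union.1 hx).elim (hf x) (hf' x)⟩
    rcases hp with hp | hp
    · obtain ⟨x, hx, h⟩ := hs p hp; exact ⟨x, Finset.mem_union_left _ hx, h⟩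
    · obtain ⟨x, hx, h⟩ := hs' p hp; exact ⟨x, Finset.mem_union_right _ hx, h⟩
  · intro T hT hTi ih
    obtain ⟨p, hp⟩ := QuasiSober.sober hTi hT
    obtain ⟨a', ha', hfree⟩ := FlatOpen.gFree_baseChange A P M (A ⧸ p.asIdeal)
    obtain ⟨a, rfl⟩ := Ideal.Quotient.mk_surjective a'
    have hap : a ∉ p.asIdeal := fun h => ha' (Ideal.Quotient.eq_zero_iff_mem.2 h)
    obtain ⟨s, hs, hf⟩ := ih (T \ (basicOpen a : Set (PrimeSpectrum A)))
      (hT.sdiff (basicOpen a).isOpen)
      (H8Top.sdiff_ssubset_of_inter_nonempty ⟨p, hap, hp.mem⟩)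
    refine ⟨insert (p.asIdeal, a) s, fun q hq => ?_, fun x hx => ?_⟩
    · by_cases hqa : q ∈ (basicOpen a : Set (PrimeSpectrum A))
      · refine ⟨(p.asIdeal, a), Finset.mem_insert_self _ _, ?_, hqa⟩
        rw [← hp.def, PrimeSpectrum.closure_singleton] at hq
        exact hq
      · obtain ⟨x, hx, h⟩ := hs q ⟨hq, hqa⟩
        exact ⟨x, Finset.mem_insert_of_mem hx, h⟩
    · rcases Finset.mem_insert.1 hx with rfl | hx
      · exact Module.Flat.of_linearEquiv (AlgebraTensorModule.cancelBaseChange A (A ⧸ p.asIdeal)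
          (Localization.Away (Ideal.Quotient.mk p.asIdeal a))
          (Localization.Away (Ideal.Quotient.mk p.asIdeal a)) M).symm
      · exact hf x hx

/-- Flatness over a stratum passes to base changes. -/
theorem flat_of_algHom {R M N : Type u} [CommRing R] [Algebra R A] [AddCommGroup M] [Module R M]
    [AddCommGroup N] [Module A N] (e : A ⊗[R] M ≃ₗ[A] N) {D₀ D : Type u} [CommRing D₀] [CommRing D]
    [Algebra R D₀] [Algebra A D] [Algebra R D] [IsScalarTower R A D] (φ : D₀ →ₐ[R] D)
    [Module.Flat D₀ (D₀ ⊗[R] M)] : Module.Flat D (D ⊗[A] N) := by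
  let _ : Algebra D₀ D := φ.toRingHom.toAlgebra
  have : IsScalarTower R D₀ D := .of_algebraMap_eq fun r => (φ.commutes r).symm
  exact Module.Flat.of_linearEquiv
    ((AlgebraTensorModule.congr (LinearEquiv.refl D D) e.symm).trans
      ((AlgebraTensorModule.cancelBaseChange R A D D M).trans
        (AlgebraTensorModule.cancelBaseChange R D₀ D D M).symm))

variable (A) in
/-- A finitely presented module is flat over the strata of a finite stratification. -/
theorem exists_flat_strata (S N : Type u) [CommRing S] [Algebra A S] [Algebra.FinitePresentation A S]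
    [AddCommGroup N] [Module S N] [Module A N] [IsScalarTower A S N]
    [Module.FinitePresentation S N] :
    ∃ s : Finset (Ideal A × A), (∀ p : PrimeSpectrum A, ∃ x ∈ s, x.1 ≤ p.asIdeal ∧ x.2 ∉ p.asIdeal) ∧
      (∀ x ∈ s, x.1.FG) ∧ ∀ x ∈ s, Module.Flat (StratumRing x) (StratumRing x ⊗[A] N) := by
  classical
  obtain ⟨R₀, _, P₀, M₀, _, _, _, _, _, _, _, _, ψ, e, -, -⟩ :=
    FlatDescent.exists_model_of_finitePresentation (A := A) (S := S) (N := N)
  obtain ⟨s, hs, hf⟩ := exists_flat_strata_of_isNoetherianRing R₀ P₀ M₀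
  let g : Ideal R₀ × R₀ → Ideal A × A := fun x => (x.1.map (algebraMap R₀ A), algebraMap R₀ A x.2)
  refine ⟨s.image g, fun p => ?_, fun x hx => ?_, fun x hx => ?_⟩
  · obtain ⟨x, hx, h1, h2⟩ := hs (comap (algebraMap R₀ A) p)
    exact ⟨g x, Finset.mem_image_of_mem g hx, Ideal.map_le_iff_le_comap.2 h1, h2⟩
  · obtain ⟨y, -, rfl⟩ := Finset.mem_image.1 hx
    exact ((isNoetherianRing_iff_ideal_fg R₀).1 inferInstance y.1).map _
  · obtain ⟨y, hy, rfl⟩ := Finset.mem_image.1 hx
    have := hf y hy
    obtain ⟨φ⟩ := exists_algHom_stratumRing (A := R₀) (B := StratumRing (g y)) y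
      (fun a ha => by
        rw [IsScalarTower.algebraMap_apply R₀ A (StratumRing (g y))]
        exact algebraMap_stratumRing_eq_zero (g y) (Ideal.mem_map_of_mem _ ha))
      (by
        rw [IsScalarTower.algebraMap_apply R₀ A (StratumRing (g y))]
        exact isUnit_stratumRing (g y))
    exact flat_of_algHom e φ

end Groth.Agent.EGA43.FibDepth
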