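import Mathlib.RingTheory.LocalRing.Module
import Mathlib.RingTheory.Spectrum.Prime.ConstructibleSet
import Mathlib.RingTheory.Spectrum.Prime.Chevalley
import Mathlib.RingTheory.Spectrum.Prime.Topology
import Mathlib.Algebra.Module.FinitePresentation
import Mathlib.LinearAlgebra.Dual.Lemmas

/-!
# The support of a finitely presented module is constructible
-/

set_option autoImplicit false
set_option backward.isDefEq.respectTransparency false

universe u

open TensorProduct PrimeSpectrum Topology

namespace Groth.Agent.EGA43.FibDepth

variable {P : Type u} [CommRing P]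

theorem isConstructible_support_quotient {k : ℕ} (s : Finset (Fin k → P)) :
    IsConstructible (Module.support P ((Fin k → P) ⧸ Submodule.span P (s : Set (Fin k → P)))) := by
  classical
  let N := (Fin k → P) ⧸ Submodule.span P (s : Set (Fin k → P))
  let J : Ideal (MvPolynomial (Fin k) P) :=
    Ideal.span ↑(s.image fun w => ∑ j, MvPolynomial.C (w j) * MvPolynomial.X j)
  let S := MvPolynomial (Fin k) P ⧸ J
  have hfp : (algebraMap P S).FinitePresentation :=
    RingHom.finitePresentation_algebraMap.2 (Algebra.FinitePresentation.quotient ⟨_, rfl⟩)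
  let T : Fin k → S := fun j => Ideal.Quotient.mk J (MvPolynomial.X j)
  have hc : IsConstructible (⋃ j, (basicOpen (T j) : Set (PrimeSpectrum S))) :=
    IsConstructible.iUnion fun j =>
      IsRetrocompact.isConstructible (basicOpen (T j)).isOpen
        (QuasiSeparatedSpace.isRetrocompact_iff_isCompact (basicOpen (T j)).isOpen |>.2
          (isCompact_basicOpen (T j)))
  convert isConstructible_comap_image hfp hc using 1
  ext q
  rw [Set.image_iUnion, Set.mem_iUnion]
  constructor
  · intro hq
    rw [Module.mem_support_iff_nontrivial_residueField_tensorProduct] at hq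
    obtain ⟨z, hz⟩ := exists_ne (0 : q.asIdeal.ResidueField ⊗[P] N)
    obtain ⟨f, hf⟩ : ∃ f : Module.Dual q.asIdeal.ResidueField (q.asIdeal.ResidueField ⊗[P] N),
        f z ≠ 0 := by
      by_contra h
      exact hz ((Module.forall_dual_apply_eq_zero_iff _ z).1 fun f => not_not.1 (not_exists.1 h f))
    let g : (Fin k → P) →ₗ[P] q.asIdeal.ResidueField :=
      (f.restrictScalars P) ∘ₗ (TensorProduct.mk P q.asIdeal.ResidueField N 1) ∘ₗ
        (Submodule.span P (s : Set (Fin k → P))).mkQ
    let c : Fin k → q.asIdeal.ResidueField := fun j => g (Pi.single j 1)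
    have hgc : ∀ w, g w = ∑ j, algebraMap P q.asIdeal.ResidueField (w j) * c j := fun w => by
      conv_lhs => rw [pi_eq_sum_univ' w]
      rw [map_sum]
      exact Finset.sum_congr rfl fun j _ => by rw [map_smul, Algebra.smul_def]
    let e := MvPolynomial.aeval (R := P) c
    have hJ : ∀ x ∈ J, e x = 0 := fun x hx => by
      induction hx using Submodule.span_induction with
      | mem y hy =>
        obtain ⟨w, hw, rfl⟩ := Finset.mem_image.1 hy
        have : g w = 0 := by
          show f ((1 : q.asIdeal.ResidueField) ⊗ₜ[P] (Submodule.Quotient.mk w : N)) = 0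
          rw [(Submodule.Quotient.mk_eq_zero _).2 (Submodule.subset_span hw), tmul_zero, map_zero]
        rw [hgc] at this
        simpa [e] using this
      | zero => exact map_zero e
      | add a b _ _ ha hb => rw [map_add, ha, hb, add_zero]
      | smul a b _ hb => rw [smul_eq_mul, map_mul, hb, mul_zero]
    let h : S →ₐ[P] q.asIdeal.ResidueField := Ideal.Quotient.liftₐ J e hJ
    obtain ⟨j, hj⟩ : ∃ j, c j ≠ 0 := by
      by_contra hall
      revert hf
      suffices hsuf : f z = 0 from fun hf => hf hsuf
      have hz0 : ∀ n : N, f ((1 : q.asIdeal.ResidueField) ⊗ₜ n) = 0 := fun n => by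
        obtain ⟨w, rfl⟩ := Submodule.mkQ_surjective _ n
        exact (hgc w).trans (Finset.sum_eq_zero fun j _ => by
          rw [not_not.1 (not_exists.1 hall j), mul_zero])
      clear hz
      induction z using TensorProduct.induction_on with
      | zero => rw [map_zero]
      | add a b ha hb => rw [map_add, ha, hb, add_zero]
      | tmul a n =>
        rw [show a ⊗ₜ[P] n = a • ((1 : q.asIdeal.ResidueField) ⊗ₜ[P] n) by
          rw [TensorProduct.smul_tmul', smul_eq_mul, mul_one], map_smul, hz0, smul_zero]
    refine ⟨j, ⟨RingHom.ker h, RingHom.ker_isPrime _⟩, fun hjmem => hj ?_, ?_⟩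
    · have h0 : h (T j) = 0 := hjmem
      rw [show h (T j) = e (MvPolynomial.X j) from rfl] at h0
      rwa [MvPolynomial.aeval_X] at h0
    · ext x
      show h (algebraMap P S x) = 0 ↔ _
      rw [AlgHom.commutes, Ideal.algebraMap_residueField_eq_zero]
  · rintro ⟨j, r, hj, rfl⟩
    let χ : (Fin k → P) →ₗ[P] r.asIdeal.ResidueField :=
      ∑ i, ((LinearMap.proj i : (Fin k → P) →ₗ[P] P).smulRight
        (algebraMap S r.asIdeal.ResidueField (T i)))
    have hχ : ∀ w, χ w = algebraMap S r.asIdeal.ResidueField
        (Ideal.Quotient.mk J (∑ i, MvPolynomial.C (w i) * MvPolynomial.X i)) := fun w => by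
      rw [map_sum, map_sum, LinearMap.sum_apply]
      refine Finset.sum_congr rfl fun i _ => ?_
      rw [LinearMap.smulRight_apply, LinearMap.proj_apply, Algebra.smul_def, map_mul, map_mul,
        ← MvPolynomial.algebraMap_eq, Ideal.Quotient.mk_algebraMap,
        ← IsScalarTower.algebraMap_apply P S]
    let χN : N →ₗ[P] r.asIdeal.ResidueField :=
      (Submodule.span P (s : Set (Fin k → P))).liftQ χ (Submodule.span_le.2 fun w hw => by
        show χ w = 0
        rw [hχ, Ideal.Quotient.eq_zero_iff_mem.2
          (Ideal.subset_span (Finset.mem_image_of_mem _ hw)), map_zero])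
    rw [Module.mem_support_iff']
    refine ⟨Submodule.Quotient.mk (Pi.single j 1), fun t ht h0 => ?_⟩
    have h1 := congrArg χN h0
    rw [map_zero, map_smul, show χN (Submodule.Quotient.mk (Pi.single j 1)) =
      χ (Pi.single j 1) from rfl, show χ (Pi.single j 1) = algebraMap S r.asIdeal.ResidueField (T j) by
        simp [χ, LinearMap.sum_apply, Pi.single_apply], Algebra.smul_def, mul_eq_zero,
      IsScalarTower.algebraMap_apply P S r.asIdeal.ResidueField] at h1
    exact h1.elim (fun h => ht (show algebraMap P S t ∈ r.asIdeal from Ideal.algebraMap_residueField_eq_zero.1 h))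
      fun h => hj (Ideal.algebraMap_residueField_eq_zero.1 h)

/-- The support of a finitely presented module is constructible. -/
theorem isConstructible_support (N : Type u) [AddCommGroup N] [Module P N]
    [Module.FinitePresentation P N] : IsConstructible (Module.support P N) := by
  obtain ⟨k, r, hr⟩ := Module.Finite.exists_fin' P N
  obtain ⟨s, hs⟩ := Module.FinitePresentation.fg_ker r hr
  rw [← ((Submodule.quotEquivOfEq _ _ hs).trans
    (LinearMap.quotKerEquivOfSurjective r hr)).support_eq]
  exact isConstructible_support_quotient s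

end Groth.Agent.EGA43.FibDepth
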