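import Groth.Agent.EGA43.FibDepth.Fibre
import Groth.Agent.EGA43.Cons.FibreClosure
import Mathlib.RingTheory.TensorProduct.MvPolynomial
import Mathlib.RingTheory.AlgebraicIndependent.TranscendenceBasis
import Mathlib.RingTheory.AlgebraicIndependent.AlgebraicClosure
import Mathlib.RingTheory.Ideal.MinimalPrime.Basic

/-!
# Transcendence degrees on fibres and base change

Extending the base field of a finitely generated field extension preserves the transcendence degree
of the minimal primes; hence the loci `trd A q' ≤ c` for all generisations `q'` in the fibre (inside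
a given set) commute with base change.
-/

set_option autoImplicit false
set_option backward.isDefEq.respectTransparency false

universe u

open TensorProduct Function PrimeSpectrum

namespace Groth.Agent.EGA43.FibDepth

open Groth.Agent

section Field

variable {K L K' E : Type u} [Field K] [Field L] [Field K'] [Field E] [Algebra K L] [Algebra K K']
  [Algebra K' E] [Algebra L E]

/-- A field generated over `K` by a set has transcendence degree at most its cardinality. -/
theorem trdeg_le_of_closure_eq_top [Algebra K E] (s : Set E)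
    (h : Subfield.closure (Set.range (algebraMap K E) ∪ s) = ⊤) :
    Algebra.trdeg K E ≤ Cardinal.mk s := by
  have : Algebra.IsAlgebraic (Algebra.adjoin K s) E := by
    rw [← IntermediateField.isAlgebraic_adjoin_iff_top]
    have htop : IntermediateField.adjoin K s = ⊤ := by
      apply IntermediateField.toSubfield_injective
      rw [IntermediateField.adjoin_toSubfield, h, IntermediateField.top_toSubfield]
    exact ⟨fun x => by
      have hx : x ∈ IntermediateField.adjoin K s := by rw [htop]; trivial
      exact isAlgebraic_algebraMap (⟨x, hx⟩ : IntermediateField.adjoin K s)⟩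
  exact Algebra.IsAlgebraic.trdeg_le_cardinalMk K s

/-- A composite of `L` and `K'` has transcendence degree over `K'` at most that of `L/K`. -/
theorem trdeg_composite_le
    (hcomm : (algebraMap L E).comp (algebraMap K L) = (algebraMap K' E).comp (algebraMap K K'))
    (hgen : Subfield.closure (Set.range (algebraMap K' E) ∪ Set.range (algebraMap L E)) = ⊤) :
    Algebra.trdeg K' E ≤ Algebra.trdeg K L := by
  obtain ⟨t, ht⟩ := exists_isTranscendenceBasis K L
  have hL : Algebra.IsAlgebraic (Algebra.adjoin K t) L := by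
    have := ht.isAlgebraic
    rwa [show Set.range (Subtype.val : t → L) = t from Subtype.range_val] at this
  let s := algebraMap L E '' t
  have hmem : ∀ x ∈ Algebra.adjoin K t, algebraMap L E x ∈ Algebra.adjoin K' s := fun x hx => by
    induction hx using Algebra.adjoin_induction with
    | mem x hx => exact Algebra.subset_adjoin ⟨x, hx, rfl⟩
    | algebraMap a =>
      rw [← RingHom.comp_apply, hcomm]
      exact Subalgebra.algebraMap_mem _ _
    | add x y _ _ hx hy => rw [map_add]; exact add_mem hx hy
    | mul x y _ _ hx hy => rw [map_mul]; exact mul_mem hx hy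
  let φ : Algebra.adjoin K t →+* Algebra.adjoin K' s :=
    ((algebraMap L E).comp (Algebra.adjoin K t).val.toRingHom).codRestrict
      (Algebra.adjoin K' s).toSubsemiring fun x => hmem x x.2
  have hφ : Injective φ := fun x y h =>
    Subtype.ext ((algebraMap L E).injective (congrArg Subtype.val h))
  have : Algebra.IsAlgebraic (Algebra.adjoin K' s) E := by
    rw [← IntermediateField.isAlgebraic_adjoin_iff_top]
    let F := IntermediateField.adjoin K' s
    have htop : (algebraicClosure F E).toSubfield = ⊤ := by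
      rw [eq_top_iff, ← hgen, Subfield.closure_le]
      rintro x (⟨a, rfl⟩ | ⟨l, rfl⟩)
      · exact (algebraicClosure F E).algebraMap_mem (algebraMap K' F a)
      · rw [SetLike.mem_coe, IntermediateField.mem_toSubfield, mem_algebraicClosure_iff,
          IntermediateField.isAlgebraic_adjoin_iff]
        exact (hL.isAlgebraic l).ringHom_of_comp_eq φ (algebraMap L E) hφ rfl
    exact ⟨fun x => mem_algebraicClosure_iff.1
      (show x ∈ (algebraicClosure F E).toSubfield by rw [htop]; trivial)⟩
  exact (Algebra.IsAlgebraic.trdeg_le_cardinalMk K' s).trans Cardinal.mk_image_le |>.trans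
    ht.cardinalMk_eq_trdeg.le

theorem isDomain_mvPolynomial_tensor (K K' : Type u) [Field K] [Field K'] [Algebra K K']
    (σ : Type u) : IsDomain (MvPolynomial σ K ⊗[K] K') :=
  MulEquiv.isDomain (MvPolynomial σ K')
    ((Algebra.TensorProduct.comm K (MvPolynomial σ K) K').toMulEquiv.trans
      (MvPolynomial.algebraTensorAlgEquiv (σ := σ) K K').toMulEquiv)

/-- Nonzero elements of a domain give nonzerodivisors in flat extensions. -/
theorem map_tmul_mem_nonZeroDivisors {A₀ B C M : Type u} [CommRing A₀] [CommRing B] [Algebra A₀ B]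
    (hB : IsDomain B) [CommRing M] [Algebra A₀ M] [Module.Flat A₀ M] [CommRing C]
    (e : M ⊗[A₀] B ≃+* C) (f : B) (hf : f ≠ 0) : e ((1 : M) ⊗ₜ[A₀] f) ∈ nonZeroDivisors C := by
  have h : Injective ((LinearMap.mulLeft A₀ f).lTensor M) :=
    Module.Flat.lTensor_preserves_injective_linearMap _ (mul_right_injective₀ hf)
  rw [mem_nonZeroDivisors_iff_right]
  intro z hz
  obtain ⟨z, rfl⟩ := e.surjective z
  rw [← map_mul, map_eq_zero_iff e e.injective] at hz
  have : (LinearMap.mulLeft A₀ f).lTensor M z = z * ((1 : M) ⊗ₜ[A₀] f) := by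
    clear hz
    induction z using TensorProduct.induction_on with
    | zero => simp
    | add u v hu hv => simp only [map_add, add_mul, hu, hv]
    | tmul l w => simp [mul_comm]
  rw [map_eq_zero_iff e e.injective]
  exact h (by rw [map_zero, this, hz])

/-- A field extension of a domain is flat. -/
theorem flat_of_injective_field {A₀ L : Type u} [CommRing A₀] [IsDomain A₀] [Field L] [Algebra A₀ L]
    (hinj : Injective (algebraMap A₀ L)) : Module.Flat A₀ L := by
  let _ : Algebra (FractionRing A₀) L := (IsFractionRing.lift hinj).toAlgebra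
  have : IsScalarTower A₀ (FractionRing A₀) L :=
    .of_algebraMap_eq fun a => (IsFractionRing.lift_algebraMap hinj a).symm
  have : Module.Flat A₀ (FractionRing A₀) := IsLocalization.flat _ (nonZeroDivisors A₀)
  exact Module.Flat.trans A₀ (FractionRing A₀) L

/-- Base change of a flat extension of a domain that stays a domain. -/
theorem exists_ringHom_nonZeroDivisors {K L K' A₀ : Type u} [CommRing K] [CommRing L] [CommRing K']
    [CommRing A₀] [Algebra K L] [Algebra K K'] [Algebra K A₀] [Algebra A₀ L] [IsScalarTower K A₀ L]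
    [Module.Flat A₀ L] (hdom : IsDomain (A₀ ⊗[K] K')) :
    ∃ ψ : A₀ ⊗[K] K' →+* L ⊗[K] K', (∀ a k, ψ (a ⊗ₜ k) = algebraMap A₀ L a ⊗ₜ k) ∧
      ∀ f, f ≠ 0 → ψ f ∈ nonZeroDivisors (L ⊗[K] K') := by
  let e := (Algebra.TensorProduct.cancelBaseChange K A₀ L L K').toRingEquiv
  refine ⟨(e : _ →+* _).comp (Algebra.TensorProduct.includeRight (R := A₀) (A := L)
    (B := A₀ ⊗[K] K')).toRingHom, fun a k => ?_,
    fun f hf => map_tmul_mem_nonZeroDivisors hdom e f hf⟩
  show Algebra.TensorProduct.cancelBaseChange K A₀ L L K' ((1 : L) ⊗ₜ[A₀] (a ⊗ₜ[K] k)) = _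
  rw [Algebra.TensorProduct.cancelBaseChange_tmul, Algebra.smul_def, mul_one]

/-- Every prime of `L ⊗_K K'` contains one whose residue field has at least the transcendence degree
of `L/K`. -/
theorem exists_le_trdeg_le (Q : Ideal (L ⊗[K] K')) [Q.IsPrime] :
    ∃ P : Ideal (L ⊗[K] K'), P.IsPrime ∧ P ≤ Q ∧
      ∀ (G : Type u) [Field G] [Algebra K' G] (χ : L ⊗[K] K' →+* G),
        χ.comp (Algebra.TensorProduct.includeRight.toRingHom) = algebraMap K' G →
        RingHom.ker χ = P → Algebra.trdeg K L ≤ Algebra.trdeg K' G := by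
  obtain ⟨P, hP, hPQ⟩ := Ideal.exists_minimalPrimes_le (I := (⊥ : Ideal (L ⊗[K] K'))) (J := Q) bot_le
  refine ⟨P, hP.1.1, hPQ, fun G _ _ χ hχ hker => ?_⟩
  obtain ⟨t, ht⟩ := exists_isTranscendenceBasis K L
  let A₀ := MvPolynomial t K
  let _ : Algebra A₀ L := (MvPolynomial.aeval (Subtype.val : t → L)).toRingHom.toAlgebra
  have : IsScalarTower K A₀ L := .of_algebraMap_eq fun a =>
    ((MvPolynomial.aeval (Subtype.val : t → L)).commutes a).symm
  have hinj : Injective (algebraMap A₀ L) := ht.1
  have hflat : Module.Flat A₀ L := flat_of_injective_field hinj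
  obtain ⟨ψ, hψ, hnzd⟩ := exists_ringHom_nonZeroDivisors (L := L) (A₀ := A₀)
    (isDomain_mvPolynomial_tensor K K' t)
  let x : t → G := fun i => χ ((i : L) ⊗ₜ[K] (1 : K'))
  have hx : AlgebraicIndependent K' x := by
    rw [AlgebraicIndependent, injective_iff_map_eq_zero]
    intro f hf
    by_contra hne
    let ι := (Algebra.TensorProduct.comm K A₀ K').toRingEquiv.trans
      (MvPolynomial.algebraTensorAlgEquiv (σ := t) K K').toRingEquiv
    have hχk : ∀ k : K', χ ((1 : L) ⊗ₜ[K] k) = algebraMap K' G k := fun k =>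
      RingHom.congr_fun hχ k
    have hι : ∀ w : A₀ ⊗[K] K', χ (ψ w) = MvPolynomial.aeval x (ι w) := fun w => by
      induction w using TensorProduct.induction_on with
      | zero => simp
      | add u v hu hv => simp only [map_add, hu, hv]
      | tmul a k =>
        induction a using MvPolynomial.induction_on with
        | C c =>
          have : ι ((MvPolynomial.C c : A₀) ⊗ₜ[K] k) = MvPolynomial.C (algebraMap K K' c * k) := by
            show MvPolynomial.algebraTensorAlgEquiv K K'
              (k ⊗ₜ[K] (MvPolynomial.C c : MvPolynomial t K)) = _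
            rw [MvPolynomial.algebraTensorAlgEquiv_tmul, MvPolynomial.map_C,
              MvPolynomial.smul_eq_C_mul, ← map_mul, mul_comm]
          rw [this, MvPolynomial.aeval_C, hψ, ← hχk,
            show algebraMap A₀ L (MvPolynomial.C c) = algebraMap K L c from MvPolynomial.aeval_C _ c,
            ← Algebra.smul_def, tmul_smul, smul_tmul', ← Algebra.algebraMap_eq_smul_one]
        | add p q hp hq => simp only [add_tmul, map_add, hp, hq]
        | mul_X p i hp =>
          have h1 : ((p * MvPolynomial.X i : A₀) ⊗ₜ[K] k : A₀ ⊗[K] K') =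
              (p ⊗ₜ[K] k) * ((MvPolynomial.X i : A₀) ⊗ₜ[K] (1 : K')) := by
            rw [Algebra.TensorProduct.tmul_mul_tmul, mul_one]
          have h2 : ι ((MvPolynomial.X i : A₀) ⊗ₜ[K] (1 : K')) = MvPolynomial.X i := by
            show MvPolynomial.algebraTensorAlgEquiv K K'
              ((1 : K') ⊗ₜ[K] (MvPolynomial.X i : MvPolynomial t K)) = _
            rw [MvPolynomial.algebraTensorAlgEquiv_tmul, MvPolynomial.map_X, one_smul]
          rw [h1, map_mul, map_mul, map_mul, map_mul, hp, h2, MvPolynomial.aeval_X, hψ,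
            show algebraMap A₀ L (MvPolynomial.X i) = (i : L) from MvPolynomial.aeval_X _ i]
    obtain ⟨w, rfl⟩ := ι.surjective f
    rw [← hι, ← RingHom.mem_ker, hker] at hf
    exact notMem_nonZeroDivisors_of_mem_mem_minimalPrimes hf hP
      (hnzd w fun h => hne (by rw [h, map_zero]))
  exact ht.cardinalMk_eq_trdeg.ge.trans hx.cardinalMk_le_trdeg

end Field

section Tensor

variable {A A' R : Type u} [CommRing A] [CommRing A'] [CommRing R] [Algebra A A'] [Algebra A R]

theorem closure_residueField_le {q : PrimeSpectrum R} (S : Subfield q.asIdeal.ResidueField)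
    (h : ∀ x, algebraMap R q.asIdeal.ResidueField x ∈ S) : S = ⊤ := by
  rw [eq_top_iff]
  rintro z -
  obtain ⟨a, b, -, rfl⟩ := IsFractionRing.div_surjective (A := R ⧸ q.asIdeal) z
  obtain ⟨a, rfl⟩ := Ideal.Quotient.mk_surjective a
  obtain ⟨b, rfl⟩ := Ideal.Quotient.mk_surjective b
  exact div_mem (h a) (h b)

theorem trdeg_residueField_lt [Algebra.FiniteType A R] (p : Ideal A) [p.IsPrime] (q : PrimeSpectrum R)
    (hp : p = q.asIdeal.comap (algebraMap A R)) :
    letI := (Ideal.ResidueField.map p q.asIdeal (algebraMap A R) hp).toAlgebra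
    Algebra.trdeg p.ResidueField q.asIdeal.ResidueField < Cardinal.aleph0 := by
  let _ := (Ideal.ResidueField.map p q.asIdeal (algebraMap A R) hp).toAlgebra
  obtain ⟨s, hs⟩ := Algebra.FiniteType.out (R := A) (A := R)
  refine (trdeg_le_of_closure_eq_top (algebraMap R q.asIdeal.ResidueField '' s)
    (closure_residueField_le _ fun x => ?_)).trans_lt (s.finite_toSet.image _).lt_aleph0
  have hx : x ∈ Algebra.adjoin A (s : Set R) := by rw [hs]; trivial
  induction hx using Algebra.adjoin_induction with
  | mem y hy => exact Subfield.subset_closure (.inr ⟨y, hy, rfl⟩)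
  | algebraMap a =>
    exact Subfield.subset_closure (.inl ⟨algebraMap A p.ResidueField a,
      Ideal.ResidueField.map_algebraMap _ _ _ _ a⟩)
  | add y z _ _ hy hz => rw [map_add]; exact add_mem hy hz
  | mul y z _ _ hy hz => rw [map_mul]; exact mul_mem hy hz

/-- On the residue fields of a point of a base change and of its images. -/
theorem residueField_map_comm (p : Ideal A) [p.IsPrime] (p' : Ideal A') [p'.IsPrime]
    (r : PrimeSpectrum R) (q' : PrimeSpectrum (A' ⊗[A] R))
    (hp : p = r.asIdeal.comap (algebraMap A R)) (hp' : p' = q'.asIdeal.comap (algebraMap A' (A' ⊗[A] R)))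
    (hpp : p = p'.comap (algebraMap A A'))
    (hr : r.asIdeal = q'.asIdeal.comap (Algebra.TensorProduct.includeRight
      (R := A) (A := A') (B := R)).toRingHom) :
    (Ideal.ResidueField.map r.asIdeal q'.asIdeal _ hr).comp
        (Ideal.ResidueField.map p r.asIdeal (algebraMap A R) hp) =
      (Ideal.ResidueField.map p' q'.asIdeal _ hp').comp
        (Ideal.ResidueField.map p p' (algebraMap A A') hpp) := by
  refine Ideal.ResidueField.ringHom_ext (RingHom.ext fun a => ?_)
  simp only [RingHom.comp_apply, Ideal.ResidueField.map_algebraMap]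
  congr 1
  rw [← IsScalarTower.algebraMap_apply A A' (A' ⊗[A] R)]
  exact (Algebra.TensorProduct.includeRight (R := A) (A := A') (B := R)).commutes a

theorem trdeg_tensor_le (p : Ideal A) [p.IsPrime] (p' : Ideal A') [p'.IsPrime]
    (r : PrimeSpectrum R) (q' : PrimeSpectrum (A' ⊗[A] R))
    (hp : p = r.asIdeal.comap (algebraMap A R)) (hp' : p' = q'.asIdeal.comap (algebraMap A' (A' ⊗[A] R)))
    (hpp : p = p'.comap (algebraMap A A'))
    (hr : r.asIdeal = q'.asIdeal.comap (Algebra.TensorProduct.includeRight
      (R := A) (A := A') (B := R)).toRingHom) :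
    letI := (Ideal.ResidueField.map p r.asIdeal (algebraMap A R) hp).toAlgebra
    letI := (Ideal.ResidueField.map p' q'.asIdeal _ hp').toAlgebra
    Algebra.trdeg p'.ResidueField q'.asIdeal.ResidueField ≤
      Algebra.trdeg p.ResidueField r.asIdeal.ResidueField := by
  let _ := (Ideal.ResidueField.map p r.asIdeal (algebraMap A R) hp).toAlgebra
  let _ := (Ideal.ResidueField.map p p' (algebraMap A A') hpp).toAlgebra
  let _ := (Ideal.ResidueField.map p' q'.asIdeal _ hp').toAlgebra
  let _ := (Ideal.ResidueField.map r.asIdeal q'.asIdeal _ hr).toAlgebra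
  refine trdeg_composite_le (K := p.ResidueField) (L := r.asIdeal.ResidueField)
    (K' := p'.ResidueField) (residueField_map_comm p p' r q' hp hp' hpp hr)
    (closure_residueField_le _ fun x => ?_)
  induction x using TensorProduct.induction_on with
  | zero => rw [map_zero]; exact zero_mem _
  | add u v hu hv => rw [map_add]; exact add_mem hu hv
  | tmul a b =>
    rw [show (a ⊗ₜ[A] b : A' ⊗[A] R) = algebraMap A' (A' ⊗[A] R) a *
      Algebra.TensorProduct.includeRight (R := A) (A := A') (B := R) b by simp, map_mul]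
    refine mul_mem (Subfield.subset_closure (.inl ⟨algebraMap A' p'.ResidueField a, ?_⟩))
      (Subfield.subset_closure (.inr ⟨algebraMap R r.asIdeal.ResidueField b, ?_⟩))
    · exact Ideal.ResidueField.map_algebraMap _ _ _ _ a
    · exact Ideal.ResidueField.map_algebraMap _ _ _ _ b

/-- Base change does not increase `trd`. -/
theorem trd_tensor_le [Algebra.FiniteType A R] (q' : PrimeSpectrum (A' ⊗[A] R)) :
    trd A' q' ≤ trd A (comap (Algebra.TensorProduct.includeRight
      (R := A) (A := A') (B := R)).toRingHom q') := by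
  let r := comap (Algebra.TensorProduct.includeRight (R := A) (A := A') (B := R)).toRingHom q'
  refine Cardinal.toNat_le_toNat ?_ (trdeg_residueField_lt _ r rfl)
  exact trdeg_tensor_le (r.asIdeal.comap (algebraMap A R))
    (q'.asIdeal.comap (algebraMap A' (A' ⊗[A] R))) r q' rfl rfl
    (congrArg PrimeSpectrum.asIdeal (Cons.comap_algebraMap_includeRight (A' := A') q')) rfl

section Abstract

variable {K K' L : Type u} [Field K] [Field K'] [Field L] [Algebra A K] [Algebra K L] [Algebra A L]
  [IsScalarTower A K L] [Algebra R L] [IsScalarTower A R L] [Algebra K K'] [Algebra A K']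
  [IsScalarTower A K K'] [Algebra A' K'] [IsScalarTower A A' K']

/-- `A' ⊗ R` maps to `L ⊗_K K'` with all elements fractions of images. -/
theorem exists_fibre_tensorHom (hL : ∀ l : L, ∃ a b, algebraMap R L b ≠ 0 ∧ l * algebraMap R L b = algebraMap R L a)
    (hK' : ∀ k : K', ∃ c d, algebraMap A' K' d ≠ 0 ∧ k * algebraMap A' K' d = algebraMap A' K' c) :
    ∃ ψ : A' ⊗[A] R →+* L ⊗[K] K',
      (∀ a x, ψ (a ⊗ₜ x) = algebraMap R L x ⊗ₜ algebraMap A' K' a) ∧ ψ.SurjectiveOnStalks := by
  let f : R →ₐ[A] L ⊗[K] K' :=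
    (Algebra.TensorProduct.includeLeft (R := K) (S := A) (A := L) (B := K')).comp
      (IsScalarTower.toAlgHom A R L)
  let g : A' →ₐ[A] L ⊗[K] K' :=
    ((Algebra.TensorProduct.includeRight (R := K) (A := L) (B := K')).restrictScalars A).comp
      (IsScalarTower.toAlgHom A A' K')
  let ψ : A' ⊗[A] R →ₐ[A] L ⊗[K] K' := Algebra.TensorProduct.lift g f fun _ _ => Commute.all _ _
  have hψ : ∀ a x, ψ (a ⊗ₜ x) = algebraMap R L x ⊗ₜ algebraMap A' K' a := fun a x => by
    rw [Algebra.TensorProduct.lift_tmul]
    show ((1 : L) ⊗ₜ[K] algebraMap A' K' a) * (algebraMap R L x ⊗ₜ[K] (1 : K')) = _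
    rw [Algebra.TensorProduct.tmul_mul_tmul, one_mul, mul_one]
  refine ⟨ψ.toRingHom, hψ, RingHom.surjectiveOnStalks_of_exists_div fun w => ?_⟩
  show ∃ z t, IsUnit (ψ t) ∧ ψ t * w = ψ z
  induction w using TensorProduct.induction_on with
  | zero => exact ⟨0, 1, by simp, by simp⟩
  | add u v hu hv =>
    obtain ⟨z₁, t₁, h₁, e₁⟩ := hu
    obtain ⟨z₂, t₂, h₂, e₂⟩ := hv
    refine ⟨z₁ * t₂ + z₂ * t₁, t₁ * t₂, by rw [map_mul]; exact h₁.mul h₂, ?_⟩
    rw [map_add, map_mul, map_mul, map_mul, ← e₁, ← e₂]
    ring
  | tmul l k =>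
    obtain ⟨a, b, hb, hl⟩ := hL l
    obtain ⟨c, d, hd, hk⟩ := hK' k
    refine ⟨c ⊗ₜ a, d ⊗ₜ b, ?_, ?_⟩
    · rw [hψ, show algebraMap R L b ⊗ₜ[K] algebraMap A' K' d =
        (algebraMap R L b ⊗ₜ[K] (1 : K')) * ((1 : L) ⊗ₜ[K] algebraMap A' K' d) by
          rw [Algebra.TensorProduct.tmul_mul_tmul, one_mul, mul_one]]
      exact ((IsUnit.mk0 _ hb).map (Algebra.TensorProduct.includeLeftRingHom : L →+* L ⊗[K] K')).mul
        ((IsUnit.mk0 _ hd).map (Algebra.TensorProduct.includeRight : K' →ₐ[K] L ⊗[K] K'))
    · rw [hψ, hψ, Algebra.TensorProduct.tmul_mul_tmul, mul_comm, hl, mul_comm, hk]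

/-- A prime of `A' ⊗ R` below a given one with large residual transcendence degree. -/
theorem exists_prime_trdeg_aux {G : Type u} [Field G] [Algebra K G] (η : L →ₐ[K] G) (κ : K' →ₐ[K] G)
    (hL : ∀ l : L, ∃ a b, algebraMap R L b ≠ 0 ∧ l * algebraMap R L b = algebraMap R L a)
    (hK' : ∀ k : K', ∃ c d, algebraMap A' K' d ≠ 0 ∧ k * algebraMap A' K' d = algebraMap A' K' c)
    (φ : A' ⊗[A] R →+* G) (hφ : ∀ a x, φ (a ⊗ₜ x) = η (algebraMap R L x) * κ (algebraMap A' K' a)) :
    ∃ (r' : PrimeSpectrum (A' ⊗[A] R)) (G' : Type u) (_ : Field G') (_ : Algebra K' G')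
      (e : r'.asIdeal.ResidueField ≃+* G'), r'.asIdeal ≤ RingHom.ker φ ∧
      (∀ x, (1 : A') ⊗ₜ[A] x ∈ r'.asIdeal ↔ algebraMap R L x = 0) ∧
      (∀ a, a ⊗ₜ[A] (1 : R) ∈ r'.asIdeal ↔ algebraMap A' K' a = 0) ∧
      (∀ a, e (algebraMap _ _ (a ⊗ₜ[A] (1 : R))) = algebraMap K' G' (algebraMap A' K' a)) ∧
      Algebra.trdeg K L ≤ Algebra.trdeg K' G' := by
  obtain ⟨ψ, hψ, hstalks⟩ := exists_fibre_tensorHom (A := A) (A' := A') (R := R) (K := K) hL hK'
  let Φ : L ⊗[K] K' →ₐ[K] G := Algebra.TensorProduct.lift η κ fun _ _ => Commute.all _ _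
  have : (RingHom.ker Φ).IsPrime := RingHom.ker_isPrime _
  obtain ⟨P, hPp, hPle, hP⟩ := exists_le_trdeg_le (K := K) (L := L) (K' := K') (RingHom.ker Φ)
  have hΦψ : ∀ z, Φ (ψ z) = φ z := fun z => by
    induction z using TensorProduct.induction_on with
    | zero => simp
    | add u v hu hv => simp only [map_add, hu, hv]
    | tmul a x => rw [hψ, Algebra.TensorProduct.lift_tmul, hφ]
  let e := RingEquiv.ofBijective _ (hstalks.residueFieldMap_bijective (P.comap ψ) P rfl)
  let _ : Algebra K' P.ResidueField := ((algebraMap (L ⊗[K] K') P.ResidueField).comp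
    (Algebra.TensorProduct.includeRight (R := K) (A := L) (B := K')).toRingHom).toAlgebra
  refine ⟨⟨P.comap ψ, Ideal.IsPrime.comap _⟩, P.ResidueField, inferInstance, inferInstance, e,
    fun z hz => ?_, fun x => ?_, fun a => ?_, fun a => ?_,
    hP P.ResidueField (algebraMap _ _) rfl (Ideal.ext fun w => Ideal.algebraMap_residueField_eq_zero)⟩
  · rw [RingHom.mem_ker, ← hΦψ]
    exact hPle hz
  · show ψ _ ∈ P ↔ _
    rw [hψ, map_one]
    refine ⟨fun h => by_contra fun hne => hPp.ne_top (Ideal.eq_top_of_isUnit_mem _ h ?_),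
      fun h => by rw [h, zero_tmul]; exact zero_mem _⟩
    exact (IsUnit.mk0 _ hne).map (Algebra.TensorProduct.includeLeftRingHom : L →+* L ⊗[K] K')
  · show ψ _ ∈ P ↔ _
    rw [hψ, map_one]
    refine ⟨fun h => by_contra fun hne => hPp.ne_top (Ideal.eq_top_of_isUnit_mem _ h ?_),
      fun h => by rw [h, tmul_zero]; exact zero_mem _⟩
    exact (IsUnit.mk0 _ hne).map (Algebra.TensorProduct.includeRight : K' →ₐ[K] L ⊗[K] K')
  · show Ideal.ResidueField.map _ P ψ rfl (algebraMap _ _ (a ⊗ₜ[A] (1 : R))) = _
    rw [Ideal.ResidueField.map_algebraMap, hψ, map_one]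
    rfl

end Abstract

theorem residueField_exists_frac (q : PrimeSpectrum R) (z : q.asIdeal.ResidueField) :
    ∃ a b, algebraMap R q.asIdeal.ResidueField b ≠ 0 ∧
      z * algebraMap R q.asIdeal.ResidueField b = algebraMap R q.asIdeal.ResidueField a := by
  obtain ⟨a, b, hb, rfl⟩ := IsFractionRing.div_surjective (A := R ⧸ q.asIdeal) z
  obtain ⟨a, rfl⟩ := Ideal.Quotient.mk_surjective a
  obtain ⟨b, rfl⟩ := Ideal.Quotient.mk_surjective b
  have hne : algebraMap R q.asIdeal.ResidueField b ≠ 0 := fun h =>
    nonZeroDivisors.ne_zero hb (Ideal.Quotient.eq_zero_iff_mem.2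
      (Ideal.algebraMap_residueField_eq_zero.1 h))
  exact ⟨a, b, hne, div_mul_cancel₀ _ hne⟩

set_option maxHeartbeats 1000000 in
-- several residue fields
/-- Generisations in a fibre lift to any base change with the same transcendence degree. -/
theorem exists_lift_trd [Algebra.FiniteType A R] (q' : PrimeSpectrum (A' ⊗[A] R)) (r : PrimeSpectrum R)
    (hle : r.asIdeal ≤ (comap (Algebra.TensorProduct.includeRight
      (R := A) (A := A') (B := R)).toRingHom q').asIdeal)
    (hr : comap (algebraMap A R) r = comap (algebraMap A R) (comap (Algebra.TensorProduct.includeRight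
      (R := A) (A := A') (B := R)).toRingHom q')) :
    ∃ r' : PrimeSpectrum (A' ⊗[A] R), r'.asIdeal ≤ q'.asIdeal ∧
      comap (algebraMap A' (A' ⊗[A] R)) r' = comap (algebraMap A' (A' ⊗[A] R)) q' ∧
      comap (Algebra.TensorProduct.includeRight (R := A) (A := A') (B := R)).toRingHom r' = r ∧
      trd A r ≤ trd A' r' := by
  obtain ⟨r₁, hr₁le, hr₁p, hr₁⟩ := Cons.exists_lift_generization q' r hle hr
  let p' := r₁.asIdeal.comap (algebraMap A' (A' ⊗[A] R))
  let p := r.asIdeal.comap (algebraMap A R)
  have hrr : r.asIdeal = r₁.asIdeal.comap (Algebra.TensorProduct.includeRight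
      (R := A) (A := A') (B := R)).toRingHom := congrArg PrimeSpectrum.asIdeal hr₁.symm
  have hpp : p = p'.comap (algebraMap A A') := by
    show r.asIdeal.comap _ = _
    rw [hrr]
    exact congrArg PrimeSpectrum.asIdeal (Cons.comap_algebraMap_includeRight (A' := A') r₁)
  let _ := (Ideal.ResidueField.map p r.asIdeal (algebraMap A R) rfl).toAlgebra
  let _ := (Ideal.ResidueField.map p p' (algebraMap A A') hpp).toAlgebra
  have : IsScalarTower A p.ResidueField r.asIdeal.ResidueField := .of_algebraMap_eq fun a =>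
    ((Ideal.ResidueField.map_algebraMap p r.asIdeal (algebraMap A R) rfl a).trans
      (IsScalarTower.algebraMap_apply A R r.asIdeal.ResidueField a).symm).symm
  have : IsScalarTower A p.ResidueField p'.ResidueField := .of_algebraMap_eq fun a =>
    ((Ideal.ResidueField.map_algebraMap p p' (algebraMap A A') hpp a).trans
      (IsScalarTower.algebraMap_apply A A' p'.ResidueField a).symm).symm
  let _ : Algebra p.ResidueField r₁.asIdeal.ResidueField :=
    ((Ideal.ResidueField.map r.asIdeal r₁.asIdeal _ hrr).comp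
      (Ideal.ResidueField.map p r.asIdeal (algebraMap A R) rfl)).toAlgebra
  let η : r.asIdeal.ResidueField →ₐ[p.ResidueField] r₁.asIdeal.ResidueField :=
    { Ideal.ResidueField.map r.asIdeal r₁.asIdeal _ hrr with commutes' := fun _ => rfl }
  let κ : p'.ResidueField →ₐ[p.ResidueField] r₁.asIdeal.ResidueField :=
    { Ideal.ResidueField.map p' r₁.asIdeal _ rfl with
      commutes' := fun k =>
        (RingHom.congr_fun (residueField_map_comm p p' r r₁ rfl rfl hpp hrr) k).symm }
  obtain ⟨r', G', _, _, e, hker, hr'R, hr'A, he, htrd⟩ := exists_prime_trdeg_aux (A := A) (A' := A')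
    (R := R) η κ (residueField_exists_frac r) (residueField_exists_frac ⟨p', inferInstance⟩)
    (algebraMap (A' ⊗[A] R) r₁.asIdeal.ResidueField) fun a x => by
      show _ = Ideal.ResidueField.map r.asIdeal r₁.asIdeal _ hrr (algebraMap R _ x) *
        Ideal.ResidueField.map p' r₁.asIdeal _ rfl (algebraMap A' _ a)
      rw [Ideal.ResidueField.map_algebraMap, Ideal.ResidueField.map_algebraMap, ← map_mul]
      congr 1
      simp
  have hr'r : r.asIdeal = r'.asIdeal.comap (Algebra.TensorProduct.includeRight
      (R := A) (A := A') (B := R)).toRingHom :=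
    Ideal.ext fun x => Ideal.algebraMap_residueField_eq_zero.symm.trans (hr'R x).symm
  have hr'p : p' = r'.asIdeal.comap (algebraMap A' (A' ⊗[A] R)) :=
    Ideal.ext fun a => Ideal.algebraMap_residueField_eq_zero.symm.trans (hr'A a).symm
  refine ⟨r', ?_, ?_, PrimeSpectrum.ext hr'r.symm, ?_⟩
  · exact (hker.trans fun z hz => Ideal.algebraMap_residueField_eq_zero.1 hz).trans hr₁le
  · exact (PrimeSpectrum.ext hr'p.symm).trans (hr₁p.trans rfl)
  rw [trd_eq_trdegHom r (rfl : p = _), trd_eq_trdegHom r' hr'p,
    ← DimLib.trdegHom_comp_ringEquiv (Ideal.ResidueField.map p' r'.asIdeal _ hr'p) e,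
    show (e : _ →+* G').comp (Ideal.ResidueField.map p' r'.asIdeal _ hr'p) =
      algebraMap p'.ResidueField G' from Ideal.ResidueField.ringHom_ext (RingHom.ext fun a => by
        simp only [RingHom.comp_apply, Ideal.ResidueField.map_algebraMap]
        exact he a),
    DimLib.trdegHom_algebraMap]
  refine Cardinal.toNat_le_toNat htrd ?_
  let _ := (Ideal.ResidueField.map p' r'.asIdeal _ hr'p).toAlgebra
  let e' : r'.asIdeal.ResidueField ≃ₐ[p'.ResidueField] G' := AlgEquiv.ofRingEquiv (f := e) fun k => by
    have : (e : _ →+* G').comp (Ideal.ResidueField.map p' r'.asIdeal _ hr'p) =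
        algebraMap p'.ResidueField G' := Ideal.ResidueField.ringHom_ext (RingHom.ext fun a => by
      simp only [RingHom.comp_apply, Ideal.ResidueField.map_algebraMap]
      exact he a)
    exact RingHom.congr_fun this k
  rw [← e'.trdeg_eq]
  exact (trdeg_tensor_le p p' r r' rfl hr'p hpp hr'r).trans_lt (trdeg_residueField_lt p r rfl)

/-- The primes all whose generisations in the fibre lying in `Z` have `trd ≤ c`. -/
def trdLocus (A : Type u) {R : Type u} [CommRing A] [CommRing R] [Algebra A R]
    (Z : Set (PrimeSpectrum R)) (c : ℕ) : Set (PrimeSpectrum R) :=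
  {q | ∀ q' : PrimeSpectrum R, q'.asIdeal ≤ q.asIdeal →
    q'.asIdeal.comap (algebraMap A R) = q.asIdeal.comap (algebraMap A R) → q' ∈ Z → trd A q' ≤ c}

/-- `trdLocus` commutes with base change. -/
theorem trdLocus_baseChange [Algebra.FiniteType A R] (Z : Set (PrimeSpectrum R)) (c : ℕ) :
    trdLocus A' (comap (Algebra.TensorProduct.includeRight
      (R := A) (A := A') (B := R)).toRingHom ⁻¹' Z) c =
    comap (Algebra.TensorProduct.includeRight (R := A) (A := A') (B := R)).toRingHom ⁻¹'
      trdLocus A Z c := by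
  ext q'
  constructor
  · intro h r hle hr hrZ
    obtain ⟨r', hle', hp', hr', ht⟩ := exists_lift_trd q' r hle (PrimeSpectrum.ext hr)
    exact ht.trans (h r' hle' (congrArg PrimeSpectrum.asIdeal hp')
      (show comap _ r' ∈ Z by rw [hr']; exact hrZ))
  · intro h r' hle hp hZ
    refine (trd_tensor_le r').trans (h _ (Ideal.comap_mono hle) ?_ hZ)
    refine congrArg PrimeSpectrum.asIdeal (?_ : comap (algebraMap A R) _ = comap (algebraMap A R) _)
    rw [Cons.comap_algebraMap_includeRight, Cons.comap_algebraMap_includeRight]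
    exact congrArg _ (PrimeSpectrum.ext hp)

end Tensor

end Groth.Agent.EGA43.FibDepth
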