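import Groth.Agent.EGA43.FibDepth.Affine
import Groth.Agent.EGA43.FibDepth.TensorTrd
import Groth.Agent.EGA43.FibDepth.Strata
import Groth.Agent.EGA43.FibDepth.Supp
import Groth.Agent.H8Top.Noetherian

/-!
# Constructibility of depth conditions on the fibres of an affine space

No flatness of the module: the base is stratified so that the module becomes flat.
-/

set_option autoImplicit false
set_option backward.isDefEq.respectTransparency false
set_option linter.style.haveILetI false

universe u

open TensorProduct Function PrimeSpectrum Topology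

namespace Groth.Agent.EGA43.FibDepth

open Groth.Agent

attribute [local instance] Algebra.TensorProduct.rightAlgebra

section Pd

variable {A P : Type u} [CommRing A] [CommRing P] [Algebra A P] [Algebra.FinitePresentation A P]
  [Module.Flat A P] {M : Type u} [AddCommGroup M] [Module P M] [Module A M] [IsScalarTower A P M]
  [Module.FinitePresentation P M]

omit [Algebra.FinitePresentation A P] [Module.Flat A P] in
/-- Over a stratum every element of `D ⊗ P` is the image of `P` up to a power of `g`. -/
theorem exists_mul_pow_eq (x : Ideal A × A) (z : StratumRing x ⊗[A] P) :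
    ∃ (n : ℕ) (b : P), z * algebraMap A _ x.2 ^ n = (1 : StratumRing x) ⊗ₜ[A] b := by
  induction z using TensorProduct.induction_on with
  | zero => exact ⟨0, 0, by simp⟩
  | add u v hu hv =>
    obtain ⟨n, b, hb⟩ := hu
    obtain ⟨m, c, hc⟩ := hv
    refine ⟨n + m, algebraMap A P x.2 ^ m * b + algebraMap A P x.2 ^ n * c, ?_⟩
    let i := Algebra.TensorProduct.includeRight (R := A) (A := StratumRing x) (B := P)
    show _ = i (algebraMap A P x.2 ^ m * b + algebraMap A P x.2 ^ n * c)
    rw [map_add, map_mul, map_mul, map_pow, map_pow, i.commutes]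
    show _ = _ * ((1 : StratumRing x) ⊗ₜ[A] b) + _ * ((1 : StratumRing x) ⊗ₜ[A] c)
    rw [← hb, ← hc, pow_add]
    ring
  | tmul d b =>
    obtain ⟨n, a, ha⟩ := IsLocalization.Away.surj (Ideal.Quotient.mk x.1 x.2) d
    obtain ⟨a, rfl⟩ := Ideal.Quotient.mk_surjective a
    refine ⟨n, a • b, ?_⟩
    rw [Algebra.TensorProduct.algebraMap_apply, Algebra.TensorProduct.tmul_pow, one_pow,
      Algebra.TensorProduct.tmul_mul_tmul, mul_one, tmul_smul, smul_tmul', Algebra.smul_def, mul_one,
      IsScalarTower.algebraMap_apply A (A ⧸ x.1) (StratumRing x) a,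
      IsScalarTower.algebraMap_apply A (A ⧸ x.1) (StratumRing x) x.2]
    exact congrArg (· ⊗ₜ[A] b) ha

variable (M) in
/-- One stratum. -/
theorem exists_stratum_pdLocus (x : Ideal A × A) (hx : x.1.FG)
    (hflat : Module.Flat (StratumRing x) (StratumRing x ⊗[A] M)) (e : ℕ) :
    ∃ E : Set (PrimeSpectrum P), IsConstructible E ∧
      (∀ q ∈ E, x.1 ≤ q.asIdeal.comap (algebraMap A P) ∧ x.2 ∉ q.asIdeal.comap (algebraMap A P)) ∧
      ∀ (p : Ideal A) [p.IsPrime] (C : Type u) [CommRing C] [Algebra p.ResidueField C] [Algebra P C]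
        [Algebra A C] [IsScalarTower A p.ResidueField C] [IsScalarTower A P C]
        [Algebra.IsPushout A p.ResidueField P C] (Q : PrimeSpectrum C), x.1 ≤ p → x.2 ∉ p →
        (CommAlg6.PdLE (Localization.AtPrime Q.asIdeal) (Localization.AtPrime Q.asIdeal ⊗[P] M) e ↔
          comap (algebraMap P C) Q ∈ E) := by
  let D := StratumRing x
  let PD := D ⊗[A] P
  have : Algebra.FinitePresentation A D := finitePresentation_stratumRing x hx
  have : IsScalarTower A P PD := .of_algebraMap_eq fun a =>
    ((Algebra.TensorProduct.includeRight (R := A) (A := D) (B := P)).commutes a).symm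
  have : Algebra.FinitePresentation A PD := Algebra.FinitePresentation.trans A D PD
  have : Algebra.FinitePresentation P PD :=
    Algebra.FinitePresentation.of_restrict_scalars_finitePresentation A P PD
  let MD := PD ⊗[P] M
  have : Algebra.IsPushout A D P PD := TensorProduct.isPushout
  have : Module.Flat D MD :=
    Module.Flat.of_linearEquiv (Algebra.IsPushout.cancelBaseChange A D P PD M)
  obtain ⟨W, -, hW, hiff⟩ := exists_pdLocus D (P := PD) e MD
  have hmap : ∀ qD : PrimeSpectrum PD,
      x.1 ≤ (comap (algebraMap P PD) qD).asIdeal.comap (algebraMap A P) ∧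
        x.2 ∉ (comap (algebraMap P PD) qD).asIdeal.comap (algebraMap A P) := fun qD => by
    refine ⟨fun a ha => ?_, fun h => qD.isPrime.ne_top (Ideal.eq_top_of_isUnit_mem _
      (show algebraMap P PD (algebraMap A P x.2) ∈ qD.asIdeal from h) ?_)⟩
    · show algebraMap P PD (algebraMap A P a) ∈ qD.asIdeal
      rw [← IsScalarTower.algebraMap_apply, IsScalarTower.algebraMap_apply A D PD,
        algebraMap_stratumRing_eq_zero x ha, map_zero]
      exact zero_mem _
    · rw [← IsScalarTower.algebraMap_apply, IsScalarTower.algebraMap_apply A D PD]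
      exact (isUnit_stratumRing x).map _
  have hinj : Injective (comap (algebraMap P PD)) := by
    intro q₁ q₂ h
    have hu : ∀ (q : PrimeSpectrum PD) (n : ℕ), algebraMap A PD x.2 ^ n ∉ q.asIdeal := fun q n hn =>
      q.isPrime.ne_top (Ideal.eq_top_of_isUnit_mem _ hn (IsUnit.pow _ (by
        rw [IsScalarTower.algebraMap_apply A D PD]
        exact (isUnit_stratumRing x).map _)))
    ext z
    obtain ⟨n, b, hb⟩ := exists_mul_pow_eq x z
    have hq : ∀ q : PrimeSpectrum PD, z ∈ q.asIdeal ↔ b ∈ (comap (algebraMap P PD) q).asIdeal := fun q => by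
      show _ ↔ (1 : D) ⊗ₜ[A] b ∈ q.asIdeal
      rw [← hb]
      exact ⟨fun h => Ideal.mul_mem_right _ _ h,
        fun h => (q.isPrime.mem_or_mem h).resolve_right (hu q n)⟩
    rw [hq, hq, h]
  refine ⟨comap (algebraMap P PD) '' W,
    isConstructible_comap_image (RingHom.finitePresentation_algebraMap.2 inferInstance) hW,
    by rintro _ ⟨qD, -, rfl⟩; exact hmap qD, fun p _ C _ _ _ _ _ _ _ Q h1 h2 => ?_⟩
  obtain ⟨φ⟩ := exists_algHom_stratumRing (B := p.ResidueField) x
    (fun a ha => Ideal.algebraMap_residueField_eq_zero.2 (h1 ha))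
    (IsUnit.mk0 _ fun h => h2 (Ideal.algebraMap_residueField_eq_zero.1 h))
  let _ : Algebra D p.ResidueField := φ.toRingHom.toAlgebra
  have : IsScalarTower A D p.ResidueField := .of_algebraMap_eq fun a => (φ.commutes a).symm
  let _ : Algebra D C := ((algebraMap p.ResidueField C).comp φ.toRingHom).toAlgebra
  have : IsScalarTower D p.ResidueField C := .of_algebraMap_eq' rfl
  have : IsScalarTower A D C := .of_algebraMap_eq fun a => by
    show _ = algebraMap p.ResidueField C (φ (algebraMap A D a))
    rw [φ.commutes, ← IsScalarTower.algebraMap_apply]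
  let lD : PD →ₐ[A] C := Algebra.TensorProduct.lift (IsScalarTower.toAlgHom A D C)
    (IsScalarTower.toAlgHom A P C) fun _ _ => Commute.all _ _
  let _ : Algebra PD C := lD.toRingHom.toAlgebra
  have : IsScalarTower D PD C := .of_algebraMap_eq fun d => by
    show _ = lD (d ⊗ₜ[A] (1 : P))
    rw [Algebra.TensorProduct.lift_tmul, map_one, mul_one]; rfl
  have : IsScalarTower P PD C := .of_algebraMap_eq fun b => by
    show _ = lD ((1 : D) ⊗ₜ[A] b)
    rw [Algebra.TensorProduct.lift_tmul, map_one, one_mul]; rfl
  have : Algebra.IsPushout D p.ResidueField PD C :=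
    (Algebra.IsPushout.comp_iff (R := A) (S := D) (R' := P) (S' := PD)).1 inferInstance
  have hQ : comap (algebraMap P C) Q = comap (algebraMap P PD) (comap (algebraMap PD C) Q) := by
    rw [← PrimeSpectrum.comap_comp_apply, ← IsScalarTower.algebraMap_eq]
  rw [← CommAlg6.pdLE_congr
    (M := Localization.AtPrime Q.asIdeal ⊗[PD] MD) (N := Localization.AtPrime Q.asIdeal ⊗[P] M)
    (AlgebraTensorModule.cancelBaseChange P PD (Localization.AtPrime Q.asIdeal)
      (Localization.AtPrime Q.asIdeal) M) e, hiff p.ResidueField C Q, hQ]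
  exact ⟨fun h => ⟨_, h, rfl⟩, fun ⟨qD, h, hq⟩ => hinj hq ▸ h⟩

variable (A M) in
/-- The locus `pd ≤ e` on the fibres is constructible. -/
theorem exists_consPdLocus (e : ℕ) :
    ∃ E : Set (PrimeSpectrum P), IsConstructible E ∧
      ∀ (p : Ideal A) [p.IsPrime] (C : Type u) [CommRing C] [Algebra p.ResidueField C] [Algebra P C]
        [Algebra A C] [IsScalarTower A p.ResidueField C] [IsScalarTower A P C]
        [Algebra.IsPushout A p.ResidueField P C] (Q : PrimeSpectrum C),
        CommAlg6.PdLE (Localization.AtPrime Q.asIdeal) (Localization.AtPrime Q.asIdeal ⊗[P] M) e ↔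
          comap (algebraMap P C) Q ∈ E := by
  obtain ⟨s, hs, hfg, hflat⟩ := exists_flat_strata A P M
  choose E hE hsub hiff using fun x : s => exists_stratum_pdLocus (P := P) M x.1 (hfg _ x.2) (hflat _ x.2) e
  refine ⟨⋃ x : s, E x, IsConstructible.iUnion hE, fun p _ C _ _ _ _ _ _ _ Q => ?_⟩
  obtain ⟨x, hx, h1, h2⟩ := hs ⟨p, inferInstance⟩
  constructor
  · intro h
    exact Set.mem_iUnion.2 ⟨⟨x, hx⟩, (hiff ⟨x, hx⟩ p C Q h1 h2).1 h⟩
  · intro h
    obtain ⟨y, hy⟩ := Set.mem_iUnion.1 h
    have h' := hsub y _ hy
    rw [← comap_algebraMap_eq (R := P) p Q] at h'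
    exact (hiff y p C Q h'.1 h'.2).2 hy

end Pd

section Trd

variable {A R : Type u} [CommRing A] [CommRing R] [Algebra A R]

/-- `trdLocus` along an isomorphism of algebras. -/
theorem trdLocus_comap_equiv {R' : Type u} [CommRing R'] [Algebra A R'] (e : R' ≃ₐ[A] R)
    (Z : Set (PrimeSpectrum R')) (c : ℕ) :
    trdLocus A (comap (e : R' →+* R) ⁻¹' Z) c = comap (e : R' →+* R) ⁻¹' trdLocus A Z c := by
  have hso : e.toAlgHom.toRingHom.SurjectiveOnStalks :=
    RingHom.surjectiveOnStalks_of_surjective e.surjective
  have hcomp : ∀ q : PrimeSpectrum R, (comap (e : R' →+* R) q).asIdeal.comap (algebraMap A R') =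
      q.asIdeal.comap (algebraMap A R) := fun q => by
    show Ideal.comap _ (Ideal.comap _ q.asIdeal) = _
    rw [Ideal.comap_comap]
    congr 1
    exact RingHom.ext e.commutes
  have htrd : ∀ q : PrimeSpectrum R, trd A (comap (e : R' →+* R) q) = trd A q :=
    fun q => trd_comap_of_surjectiveOnStalks e.toAlgHom hso q
  ext q
  constructor
  · intro h r hle hr hrZ
    have hback : comap (e : R' →+* R) (comap (e.symm : R →+* R') r) = r := by
      ext z; show e.symm (e z) ∈ r.asIdeal ↔ _; rw [e.symm_apply_apply]
    rw [← hback, htrd]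
    refine h _ (fun z hz => ?_) ?_ (by rw [Set.mem_preimage, hback]; exact hrZ)
    · have := hle (show e.symm z ∈ r.asIdeal from hz)
      rwa [show (e.symm z ∈ (comap (e : R' →+* R) q).asIdeal) ↔ (e (e.symm z) ∈ q.asIdeal) from Iff.rfl,
        e.apply_symm_apply] at this
    · rw [← hcomp, ← hcomp q, hback, hr]
  · intro h r hle hr hrZ
    rw [← htrd]
    exact h _ (fun z hz => hle hz) (by rw [hcomp, hcomp, hr]) hrZ

theorem isConstructible_trdLocus_of_isNoetherianRing [IsNoetherianRing A] [Algebra.FiniteType A R]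
    {Z : Set (PrimeSpectrum R)} (hZ : IsConstructible Z) (c : ℕ) :
    IsConstructible (trdLocus A Z c) := by
  classical
  have : IsNoetherianRing R := Algebra.FiniteType.isNoetherianRing A R
  have : Algebra.FinitePresentation A R := Algebra.FinitePresentation.of_finiteType.1 inferInstance
  obtain ⟨S, rfl⟩ := exists_constructibleSetData_iff.2 hZ
  let bad : BasicConstructibleSetData R → Set (PrimeSpectrum R) := fun D =>
    Cons.fibreClosure A ((trdLocus A (zeroLocus (Set.range D.g)) c)ᶜ ∩ basicOpen D.f)
  have hbad : ∀ D, IsConstructible (bad D) := fun D => by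
    have hopen : IsOpen (trdLocus A (zeroLocus (Set.range D.g)) c) := by
      have h := isOpen_support_trd_le A (P := R) (R ⧸ Ideal.span (Set.range D.g)) c 0 0
      rw [Ideal.annihilator_quotient] at h
      convert h using 1
      ext q
      simp only [trdLocus, mem_zeroLocus, Ideal.span_le, Set.mem_ofPred_eq, zero_add, add_zero]
    exact Cons.isConstructible_fibreClosure
      ((H8Top.isConstructible_of_isOpen hopen).compl.inter
        (H8Top.isConstructible_of_isOpen (basicOpen D.f).isOpen))
  have key : trdLocus A S.toSet c = (⋃ D : S, bad D.1)ᶜ := by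
    ext q
    simp only [Set.mem_compl_iff, Set.mem_iUnion, not_exists]
    constructor
    · rintro h ⟨D, hD⟩ ⟨r, ⟨hr, hrf⟩, hle, heq⟩
      refine hr fun r' hle' heq' hZ' => h r' (hle'.trans hle)
        (heq'.trans (congrArg PrimeSpectrum.asIdeal heq)) ?_
      refine Set.mem_biUnion hD ⟨hZ', fun h' => hrf (hle' ?_)⟩
      simpa using h'
    · intro h r hle heq hr
      by_contra hlt
      obtain ⟨D, hD, hrg, hrf⟩ : ∃ D ∈ S, r ∈ zeroLocus (Set.range D.g) ∧ r ∉ zeroLocus {D.f} := by
        obtain ⟨D, hD, hD'⟩ := Set.mem_iUnion₂.1 hr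
        exact ⟨D, hD, hD'.1, hD'.2⟩
      exact h ⟨D, hD⟩ ⟨r, ⟨fun h' => hlt (h' r le_rfl rfl hrg), fun h' => hrf (by simpa using h')⟩,
        hle, PrimeSpectrum.ext heq⟩
  rw [key]
  exact (IsConstructible.iUnion fun D : S => hbad D.1).compl

/-- `trdLocus` of a constructible set is constructible (Chevalley). -/
theorem isConstructible_trdLocus [Algebra.FinitePresentation A R] {Z : Set (PrimeSpectrum R)}
    (hZ : IsConstructible Z) (c : ℕ) : IsConstructible (trdLocus A Z c) := by
  obtain ⟨A₀, B₀, _, _, _, _, _, _, e, Z₀, hZ₀, rfl⟩ := Cons.exists_model_with_set (A := A) hZ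
  rw [PrimeSpectrum.comap_comp, Set.preimage_comp, trdLocus_comap_equiv, trdLocus_baseChange]
  obtain ⟨S, hS⟩ := exists_constructibleSetData_iff.2
    (isConstructible_trdLocus_of_isNoetherianRing (A := A₀) hZ₀ c)
  rw [← hS, ← ConstructibleSetData.toSet_map, ← ConstructibleSetData.toSet_map]
  exact ConstructibleSetData.isConstructible_toSet _

end Trd

section Loci

variable (A P : Type u) [CommRing A] [CommRing P] [Algebra A P] [Algebra.FinitePresentation A P]
  [Module.Flat A P] (N : ℕ) (M : Type u) [AddCommGroup M] [Module P M]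
  [Module.FinitePresentation P M] [Module A M] [IsScalarTower A P M]

/-- `depth + dim closure ≥ n` on the fibres is a constructible condition. -/
theorem exists_isConstructible_rectifiedDepth (n : ℕ) :
    ∃ U : Set (PrimeSpectrum P), IsConstructible U ∧
      ∀ (p : Ideal A) [p.IsPrime] (C : Type u) [CommRing C] [Algebra p.ResidueField C] [Algebra P C]
        [Algebra A C] [IsScalarTower A p.ResidueField C] [IsScalarTower A P C]
        [Algebra.IsPushout A p.ResidueField P C] [IsRegularRing C] (_ : HeightFormula A P N C)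
        (Q : PrimeSpectrum C),
        (n : WithBot ℕ∞) ≤ ((_root_.LocCoh.depth (Localization.AtPrime Q.asIdeal)
              (Localization.AtPrime Q.asIdeal ⊗[P] M) : ℕ∞) : WithBot ℕ∞) +
            ringKrullDim (C ⧸ Q.asIdeal) ↔
          comap (algebraMap P C) Q ∈ U := by
  obtain ⟨E, hE, hiff⟩ := exists_consPdLocus A (P := P) M (N - n)
  refine ⟨(Module.support P M)ᶜ ∪ (if n ≤ N then E else ∅), ?_,
    fun p _ C _ _ _ _ _ _ _ _ hC Q => ?_⟩
  · refine IsConstructible.union (isConstructible_support M).compl ?_
    split_ifs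
    · exact hE
    · exact .empty
  · rw [natCast_le_depth_add_iff M p Q hC n, subsingleton_fibMod_iff M Q, hiff p C Q, Set.mem_union,
      Set.mem_compl_iff, Module.mem_support_iff_of_finite]
    by_cases hn : n ≤ N <;> simp [hn]

/-- `codepth ≤ k` on the fibres is a constructible condition. -/
theorem exists_isConstructible_codepth (k : ℕ) :
    ∃ U : Set (PrimeSpectrum P), IsConstructible U ∧
      ∀ (p : Ideal A) [p.IsPrime] (C : Type u) [CommRing C] [Algebra p.ResidueField C] [Algebra P C]
        [Algebra A C] [IsScalarTower A p.ResidueField C] [IsScalarTower A P C]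
        [Algebra.IsPushout A p.ResidueField P C] [IsRegularRing C] (_ : HeightFormula A P N C)
        (Q : PrimeSpectrum C),
        Module.supportDim (Localization.AtPrime Q.asIdeal) (Localization.AtPrime Q.asIdeal ⊗[P] M) ≤
            ((_root_.LocCoh.depth (Localization.AtPrime Q.asIdeal)
              (Localization.AtPrime Q.asIdeal ⊗[P] M) : ℕ∞) : WithBot ℕ∞) + k ↔
          comap (algebraMap P C) Q ∈ U := by
  choose E hE hiff using fun e => exists_consPdLocus A (P := P) M e
  let T : ℕ → Set (PrimeSpectrum P) := fun e =>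
    if e ≤ N + k then trdLocus A (Module.support P M) (N + k - e) else (Module.support P M)ᶜ
  have hT : ∀ e, IsConstructible (T e) := fun e => by
    simp only [T]
    split_ifs
    · exact isConstructible_trdLocus (isConstructible_support M) _
    · exact (isConstructible_support M).compl
  refine ⟨⋃ e : Fin (N + 1), E e ∩ T e, IsConstructible.iUnion fun e => (hE _).inter (hT _),
    fun p _ C _ _ _ _ _ _ _ _ hC Q => ?_⟩
  rw [supportDim_le_depth_add_iff M p Q hC k, Set.mem_iUnion]
  have hcond : ∀ e, comap (algebraMap P C) Q ∈ T e ↔ ∀ q' : PrimeSpectrum P,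
      q'.asIdeal ≤ (comap (algebraMap P C) Q).asIdeal → q'.asIdeal.comap (algebraMap A P) = p →
      Module.annihilator P M ≤ q'.asIdeal → e + trd A q' ≤ N + k := fun e => by
    have hp := comap_algebraMap_eq (R := P) p Q
    simp only [T]
    split_ifs with he
    · constructor
      · intro h q' hle hq' hJ
        have := h q' hle (hq'.trans hp) (Module.mem_support_iff_of_finite.2 hJ)
        omega
      · intro h q' hle hq' hJ
        have := h q' hle (hq'.trans hp.symm) (Module.mem_support_iff_of_finite.1 hJ)
        omega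
    · constructor
      · intro h q' hle _ hJ
        exact absurd (Module.mem_support_iff_of_finite.2 (hJ.trans hle)) h
      · intro h hq
        have := h _ le_rfl hp.symm (Module.mem_support_iff_of_finite.1 hq)
        omega
  constructor
  · rintro ⟨e, hpd, hc⟩
    -- replace `e` by the projective dimension, which is at most `N`
    obtain ⟨e', he', hpd', hle⟩ : ∃ e', e' ≤ N ∧ CommAlg6.PdLE (Localization.AtPrime Q.asIdeal)
        (Localization.AtPrime Q.asIdeal ⊗[P] M) e' ∧ e' ≤ e := by
      rcases le_or_gt e N with he | he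
      · exact ⟨e, he, hpd, le_rfl⟩
      · refine ⟨N, le_rfl, ?_, he.le⟩
        rcases subsingleton_or_nontrivial (Localization.AtPrime Q.asIdeal ⊗[P] M) with hs | hs
        · exact CAlgH3.pd_mono (show 0 + 1 ≤ N + 1 by omega) ((CommAlg6.pdLE_zero_iff ..).2 inferInstance)
        · haveI : IsRegularLocalRing (Localization.AtPrime Q.asIdeal) :=
            IsRegularRing.isRegularLocalRing_localization _
          obtain ⟨e₀, δ, -, hdim, hiff'⟩ := exists_pd_depth (R := Localization.AtPrime Q.asIdeal)
            (Localization.AtPrime Q.asIdeal ⊗[P] M)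
          obtain ⟨h, hh, hsum⟩ := hC Q
          rw [IsLocalization.AtPrime.ringKrullDim_eq_height Q.asIdeal, hh, WithBot.coe_inj,
            Nat.cast_inj] at hdim
          exact (hiff' N).2 (by omega)
    refine ⟨⟨e', Nat.lt_succ_of_le he'⟩, (hiff _ p C Q).1 hpd',
      (hcond e').2 fun q' h₁ h₂ h₃ => ?_⟩
    have := hc q' h₁ h₂ h₃
    omega
  · rintro ⟨e, he, hc⟩
    exact ⟨e, (hiff _ p C Q).2 he, (hcond _).1 hc⟩

end Loci

end Groth.Agent.EGA43.FibDepth
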