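import Groth.Agent.EGA43.FibDepth.LociChart

/-!
# EGA IV 12.2.1: openness of `(S_k)`, associated dimensions, embedded points on the fibres
-/

set_option autoImplicit false
set_option backward.isDefEq.respectTransparency false
set_option linter.unusedSectionVars false

universe u

open CategoryTheory CategoryTheory.Limits AlgebraicGeometry TopologicalSpace TensorProduct Function

namespace Groth.Agent.EGA43.FibDepth

open Groth.Agent

attribute [local instance] Algebra.TensorProduct.rightAlgebra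

variable {X Y : Scheme.{u}} (f : X ⟶ Y) (F : X.Modules)

/-- `(S_k)` at a point of a fibre. -/
def SkP (k : ℕ) (y : Y) (z : f.fiber y) : Prop :=
  _root_.LocCoh.HasSk k ((f.fiber y).presheaf.stalk z)
    (((Scheme.Modules.pullback (f.fiberι y)).obj F).presheaf.stalk z)

/-- The associated points specialising to a point of a fibre have dimensions in `Φ`. -/
def AssDimP (Φ : Set ℕ) (y : Y) (z₀ : f.fiber y) : Prop :=
  ∀ z ∈ AssSch.Ass ((Scheme.Modules.pullback (f.fiberι y)).obj F), z₀ ∈ closure {z} →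
    ∃ n ∈ Φ, topologicalKrullDim ↥(closure ({z} : Set ↥(f.fiber y))) = (n : WithBot ℕ∞)

/-- No embedded associated cycle through a point of a fibre. -/
def NoEmbP (y : Y) (z₀ : f.fiber y) : Prop :=
  ∀ z ∈ AssSch.Ass ((Scheme.Modules.pullback (f.fiberι y)).obj F), z₀ ∈ closure {z} →
    ∀ z' ∈ AssSch.Ass ((Scheme.Modules.pullback (f.fiberι y)).obj F), z ∈ closure {z'} → z' = z

/-- Equidimensional and `(S_k)` at a point of a fibre. -/
def EquiSkP (k : ℕ) (y : Y) (z : f.fiber y) : Prop :=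
  EGA4.IsEquidimModule ((f.fiber y).presheaf.stalk z)
      (((Scheme.Modules.pullback (f.fiberι y)).obj F).presheaf.stalk z) ∧ SkP f F k y z

section Chart

variable {V : Y.Opens} (hV : IsAffineOpen V) {U : X.Opens} (hU : IsAffineOpen U) (e : U ≤ f ⁻¹ᵁ V)
  {P : Type u} [CommRing P] (π : P →+* Γ(X, U)) [Algebra Γ(Y, V) P]
  [Algebra.FinitePresentation Γ(Y, V) P] [Module.Flat Γ(Y, V) P]
  [LocallyOfFinitePresentation f] [Coh.IsQCoh F] (hF : CohB1.IsFP F) (hπ : Surjective π)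
  (hc : π.comp (algebraMap Γ(Y, V) P) = (f.appLE V U e).hom)
  {N : ℕ} (hP : HasAffineSpaceFibres Γ(Y, V) P N)
  [mP : Module P Γ(F, U)] (hmod : ∀ (r : P) (m : Γ(F, U)), r • m = π r • m)
  [Module.FinitePresentation P Γ(F, U)] [Module Γ(Y, V) Γ(F, U)]
  [IsScalarTower Γ(Y, V) P Γ(F, U)]

include hV hπ hc hP hmod hF in
theorem assDimP_iff (Φ : Set ℕ) {y : Y} {z₀ : f.fiber y} (hz₀ : f.fiberι y z₀ ∈ U) :
    AssDimP f F Φ y z₀ ↔ chartPt f hU π hz₀ ∈ assLocus Γ(Y, V) Γ(F, U) Φ := by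
  constructor
  · intro h q hgen hass
    obtain ⟨z, hz, hsp, rfl⟩ := exists_point_of_fibGen f hV hU e π hπ hc hz₀
      (ker_le_of_mem_support F π hmod hass.1) hgen
    obtain ⟨-, hi, -, -, hd⟩ := fibre_point_iffs f F hV hU e π hπ hc hF hP hmod hz
    obtain ⟨n, hn, hn'⟩ := h z (hi.2 hass) hsp.mem_closure
    rw [hd] at hn'
    exact (Nat.cast_injective hn') ▸ hn
  · intro h z hass hcl
    obtain ⟨hz, hgen⟩ := exists_fibGen_of_specializes f hV hU e π hc
      (specializes_iff_mem_closure.2 hcl) hz₀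
    obtain ⟨-, hi, -, -, hd⟩ := fibre_point_iffs f F hV hU e π hπ hc hF hP hmod hz
    exact ⟨_, h _ hgen (hi.1 hass), hd⟩

include hV hπ hc hP hmod hF in
theorem noEmbP_iff {y : Y} {z₀ : f.fiber y} (hz₀ : f.fiberι y z₀ ∈ U) :
    NoEmbP f F y z₀ ↔ chartPt f hU π hz₀ ∈ skLocus Γ(Y, V) Γ(F, U) 1 := by
  rw [mem_skLocus_one_iff hP]
  constructor
  · intro h q hgen hass w hw hwass
    obtain ⟨z, hz, hsp, rfl⟩ := exists_point_of_fibGen f hV hU e π hπ hc hz₀
      (ker_le_of_mem_support F π hmod hass.1) hgen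
    obtain ⟨z', hz', hsp', rfl⟩ := exists_point_of_fibGen f hV hU e π hπ hc hz
      (ker_le_of_mem_support F π hmod hwass.1) hw
    obtain rfl := h z ((fibre_point_iffs f F hV hU e π hπ hc hF hP hmod hz).2.1.2 hass)
      hsp.mem_closure z' ((fibre_point_iffs f F hV hU e π hπ hc hF hP hmod hz').2.1.2 hwass)
      hsp'.mem_closure
    rfl
  · intro h z hass hcl z' hass' hcl'
    obtain ⟨hz, hgen⟩ := exists_fibGen_of_specializes f hV hU e π hc
      (specializes_iff_mem_closure.2 hcl) hz₀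
    obtain ⟨hz', hgen'⟩ := exists_fibGen_of_specializes f hV hU e π hc
      (specializes_iff_mem_closure.2 hcl') hz
    exact chartPt_injective f hU π hπ hz' hz
      (h _ hgen ((fibre_point_iffs f F hV hU e π hπ hc hF hP hmod hz).2.1.1 hass) _ hgen'
        ((fibre_point_iffs f F hV hU e π hπ hc hF hP hmod hz').2.1.1 hass'))

include hV hπ hc hP hmod hF in
theorem equiSkP_iff {k : ℕ} (hk : 1 ≤ k) {y : Y} {z : f.fiber y} (hz : f.fiberι y z ∈ U) :
    EquiSkP f F k y z ↔ chartPt f hU π hz ∈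
      (⋃ d, skLocus Γ(Y, V) Γ(F, U) k ∩ assLocus Γ(Y, V) Γ(F, U) {d} : Set (PrimeSpectrum P)) := by
  obtain ⟨-, -, hs, he, -⟩ := fibre_point_iffs f F hV hU e π hπ hc hF hP hmod hz
  rw [EquiSkP, SkP, he, hs k, mem_skLocus_and_compSet_iff hP hk]
  simp only [Set.mem_iUnion, Set.mem_inter_iff, exists_and_left]

include hV hU hπ hc hP hmod hF in
theorem isOpen_assLoci_inter [Module.Flat Γ(Y, V) Γ(F, U)] (k : ℕ) (Φ : Set ℕ) :
    IsOpen ({x | SkP f F k (f x) (f.asFiber x)} ∩ (U : Set X)) ∧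
      IsOpen ({x | AssDimP f F Φ (f x) (f.asFiber x)} ∩ (U : Set X)) ∧
      IsOpen ({x | NoEmbP f F (f x) (f.asFiber x)} ∩ (U : Set X)) ∧
      (1 ≤ k → IsOpen ({x | EquiSkP f F k (f x) (f.asFiber x)} ∩ (U : Set X))) := by
  refine ⟨?_, ?_, ?_, fun hk => ?_⟩
  · exact isOpen_inter_of_chart f hU π (SkP f F k) _ (isOpen_skLocus (M := Γ(F, U)) hP k) fun x hz =>
      (fibre_point_iffs f F hV hU e π hπ hc hF hP hmod hz).2.2.1 k
  · exact isOpen_inter_of_chart f hU π (AssDimP f F Φ) _ (isOpen_assLocus (M := Γ(F, U)) hP Φ)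
      fun x hz => assDimP_iff f F hV hU e π hF hπ hc hP hmod Φ hz
  · exact isOpen_inter_of_chart f hU π (NoEmbP f F) _ (isOpen_skLocus (M := Γ(F, U)) hP 1)
      fun x hz => noEmbP_iff f F hV hU e π hF hπ hc hP hmod hz
  · exact isOpen_inter_of_chart f hU π (EquiSkP f F k) _
      (isOpen_iUnion fun d => (isOpen_skLocus (M := Γ(F, U)) hP k).inter
        (isOpen_assLocus (M := Γ(F, U)) hP {d}))
      fun x hz => equiSkP_iff f F hV hU e π hF hπ hc hP hmod hk hz

end Chart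

/-- The data attached to an affine chart embedded in an affine space. -/
theorem chart_instances [LocallyOfFinitePresentation f] [Coh.IsQCoh F] (hF : CohB1.IsFP F)
    {V : Y.Opens} (hV : IsAffineOpen V) {U : X.Opens} (hU : IsAffineOpen U) (e : U ≤ f ⁻¹ᵁ V)
    {P : Type u} [CommRing P] [Algebra Γ(Y, V) P] [Algebra.FinitePresentation Γ(Y, V) P]
    (π : P →+* Γ(X, U)) (hπ : Surjective π)
    (hc : π.comp (algebraMap Γ(Y, V) P) = (f.appLE V U e).hom) :
    letI := Module.compHom Γ(F, U) π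
    letI := QcohFlat.overModule f F V U e
    Module.FinitePresentation P Γ(F, U) ∧ IsScalarTower Γ(Y, V) P Γ(F, U) := by
  let _ := (f.appLE V U e).hom.toAlgebra
  let _ : Algebra P Γ(X, U) := π.toAlgebra
  have : IsScalarTower Γ(Y, V) P Γ(X, U) := .of_algebraMap_eq' hc.symm
  let _ := Module.compHom Γ(F, U) π
  have : IsScalarTower P Γ(X, U) Γ(F, U) := IsScalarTower.of_algebraMap_smul fun _ _ => rfl
  let _ := QcohFlat.overModule f F V U e
  have tower : IsScalarTower Γ(Y, V) P Γ(F, U) := IsScalarTower.of_algebraMap_smul fun a m => by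
    show π (algebraMap Γ(Y, V) P a) • m = (f.appLE V U e).hom a • m
    rw [← hc]; rfl
  have : Algebra.FinitePresentation Γ(Y, V) Γ(X, U) := f.finitePresentation_appLE hV hU e
  have := QcohFP.finitePresentation_sections F hF hU
  exact ⟨finitePresentation_of_surjective (A := Γ(Y, V)) hπ Γ(F, U), tower⟩

theorem isQCoh_of_isFP (hF : CohB1.IsFP F) : Coh.IsQCoh F := by
  haveI : SheafOfModules.IsFinitePresentation (R := X.ringCatSheaf) F := hF
  infer_instance

/-- Openness where `F` is flat. -/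
theorem isOpen_flat_assLoci [LocallyOfFinitePresentation f] (hF : CohB1.IsFP F) (k : ℕ) (Φ : Set ℕ) :
    IsOpen {x | FlatMod.IsFlatOverAt f F x ∧ SkP f F k (f x) (f.asFiber x)} ∧
      IsOpen {x | FlatMod.IsFlatOverAt f F x ∧ AssDimP f F Φ (f x) (f.asFiber x)} ∧
      IsOpen {x | FlatMod.IsFlatOverAt f F x ∧ NoEmbP f F (f x) (f.asFiber x)} ∧
      (1 ≤ k → IsOpen {x | FlatMod.IsFlatOverAt f F x ∧ EquiSkP f F k (f x) (f.asFiber x)}) := by
  have := isQCoh_of_isFP F hF
  let W : X.Opens := ⟨_, QcohFlat.isOpen_setOf_isFlatOverAt f F hF⟩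
  have key : ∀ x ∈ W, ∃ U : X.Opens, x ∈ U ∧ U ≤ W ∧
      IsOpen ({x | SkP f F k (f x) (f.asFiber x)} ∩ (U : Set X)) ∧
      IsOpen ({x | AssDimP f F Φ (f x) (f.asFiber x)} ∩ (U : Set X)) ∧
      IsOpen ({x | NoEmbP f F (f x) (f.asFiber x)} ∩ (U : Set X)) ∧
      (1 ≤ k → IsOpen ({x | EquiSkP f F k (f x) (f.asFiber x)} ∩ (U : Set X))) := fun x hxW => by
    obtain ⟨V, hV, hfx, -⟩ := exists_isAffineOpen_mem_and_subset (x := f x) (U := ⊤) trivial
    obtain ⟨U, hU, hxU, hle⟩ :=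
      exists_isAffineOpen_mem_and_subset (x := x) (U := f ⁻¹ᵁ V ⊓ W) ⟨hfx, hxW⟩
    have e : U ≤ f ⁻¹ᵁ V := fun y hy => (hle hy).1
    obtain ⟨N, π, hπ, hc⟩ := exists_mvPolynomial_surjective (f.appLE V U e).hom
      (RingHom.FiniteType.of_finitePresentation (f.finitePresentation_appLE hV hU e))
    let _ := Module.compHom Γ(F, U) π
    let _ := QcohFlat.overModule f F V U e
    obtain ⟨h1, h2⟩ := chart_instances f F hF hV hU e π hπ hc
    have := flat_sections f F hV hU e fun y hy => (hle hy).2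
    exact ⟨U, hxU, fun y hy => (hle hy).2, isOpen_assLoci_inter f F hV hU e π hF hπ hc
      (hasAffineSpaceFibres_mvPolynomial Γ(Y, V) N) (fun _ _ => rfl) k Φ⟩
  have glue : ∀ Pr : X → Prop, (∀ x ∈ W, ∃ U : X.Opens, x ∈ U ∧ U ≤ W ∧
      IsOpen ({x | Pr x} ∩ (U : Set X))) → IsOpen {x | FlatMod.IsFlatOverAt f F x ∧ Pr x} := by
    intro Pr h
    rw [isOpen_iff_forall_mem_open]
    intro x hx
    obtain ⟨U, hxU, hle, hopen⟩ := h x hx.1
    exact ⟨_, fun y hy => ⟨hle hy.2, hy.1⟩, hopen, hx.2, hxU⟩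
  exact ⟨glue _ fun x hx => let ⟨U, h, h', a, _, _, _⟩ := key x hx; ⟨U, h, h', a⟩,
    glue _ fun x hx => let ⟨U, h, h', _, b, _, _⟩ := key x hx; ⟨U, h, h', b⟩,
    glue _ fun x hx => let ⟨U, h, h', _, _, c, _⟩ := key x hx; ⟨U, h, h', c⟩,
    fun hk => glue _ fun x hx => let ⟨U, h, h', _, _, _, d⟩ := key x hx; ⟨U, h, h', d hk⟩⟩

end Groth.Agent.EGA43.FibDepth

namespace Groth.Agent.EGA43.FibDepth

variable {X Y : Scheme.{u}} (f : X ⟶ Y)

theorem skP_structureModule_iff (k : ℕ) (y : Y) (z : f.fiber y) :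
    SkP f (Coh.structureModule X) k y z ↔ _root_.LocCoh.HasSk k ((f.fiber y).presheaf.stalk z)
      ((f.fiber y).presheaf.stalk z) := by
  let _ : Algebra (X.presheaf.stalk (f.fiberι y z)) ((f.fiber y).presheaf.stalk z) :=
    ((f.fiberι y).stalkMap z).hom.toAlgebra
  let e1 : ((Scheme.Modules.pullback (f.fiberι y)).obj (Coh.structureModule X)).presheaf.stalk z
      ≃ₗ[(f.fiber y).presheaf.stalk z] (f.fiber y).presheaf.stalk z ⊗[X.presheaf.stalk (f.fiberι y z)]
        (Coh.structureModule X).presheaf.stalk (f.fiberι y z) :=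
    ((ModStalk.pullbackStalkIso (f.fiberι y) z).app (Coh.structureModule X)).toLinearEquiv
  exact hasSk_congr (tensorUnitEquiv e1 (unitStalkEquiv (f.fiberι y z))) k

end Groth.Agent.EGA43.FibDepth
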