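import Groth.Agent.SmoothLib.AtPoint
import Groth.Agent.CAlgH.AdicSmoothCotangent
import Groth.Agent.CAlgH.AdicSmoothGeom
import Groth.Agent.CAlgH.RegularSmooth
import Groth.Agent.CommAlg6.FieldTensor
import Groth.Agent.CAlgH3.Serre

/-!
# Geometric `(R_k)` and `(S_k)` of algebras of finite type over a field, at a prime

`(R_k)` holds geometrically at `q` iff all generisations of height `≤ k` are smooth; `(S_k)` does not
change under extensions of the base field.
-/

set_option autoImplicit false
set_option backward.isDefEq.respectTransparency false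
set_option linter.style.haveILetI false

universe u

open TensorProduct Function IsLocalRing

namespace Groth.Agent.EGA43.FibDepth

open Groth.Agent

variable (k : Type u) [Field k] {S : Type u} [CommRing S] [Algebra k S] [Algebra.FiniteType k S]

/-- Smooth at a prime means geometrically regular local ring. -/
theorem isSmoothAt_iff_isGeometricallyRegular (q : Ideal S) [q.IsPrime] :
    Algebra.IsSmoothAt k q ↔ CAlg.IsGeometricallyRegular k (Localization.AtPrime q) := by
  haveI : IsNoetherianRing S := Algebra.FiniteType.isNoetherianRing k S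
  haveI : Algebra.FinitePresentation k S :=
    Algebra.FinitePresentation.of_finiteType.1 inferInstance
  constructor
  · intro h
    obtain ⟨g, hg, hgs⟩ := Algebra.IsSmoothAt.exists_notMem_smooth k q
    have hk : CAlg.IsGeometricallyRegular k k := fun k' _ _ _ =>
      IsRegularRing.of_ringEquiv (Algebra.TensorProduct.rid k k k').toRingEquiv.symm
    have hg' : CAlg.IsGeometricallyRegular k (Localization.Away g) :=
      CAlgH.isGeometricallyRegular_of_smooth k k (Localization.Away g) hk
    letI : Algebra (Localization.Away g) (Localization.AtPrime q) :=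
      (IsLocalization.Away.lift (g := algebraMap S (Localization.AtPrime q)) g
        (IsLocalization.map_units (M := q.primeCompl) _ ⟨g, hg⟩)).toAlgebra
    haveI : IsScalarTower S (Localization.Away g) (Localization.AtPrime q) :=
      .of_algebraMap_eq fun x => (IsLocalization.Away.lift_eq g _ x).symm
    haveI : IsScalarTower k (Localization.Away g) (Localization.AtPrime q) :=
      .of_algebraMap_eq fun x => by
        rw [IsScalarTower.algebraMap_apply k S (Localization.AtPrime q),
          IsScalarTower.algebraMap_apply k S (Localization.Away g),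
          ← IsScalarTower.algebraMap_apply S (Localization.Away g) (Localization.AtPrime q)]
    haveI : IsLocalization (q.primeCompl.map (algebraMap S (Localization.Away g)))
        (Localization.AtPrime q) :=
      IsLocalization.isLocalization_of_submonoid_le (Localization.Away g) (Localization.AtPrime q)
        (Submonoid.powers g) q.primeCompl (by rw [Submonoid.powers_le]; exact hg)
    exact CAlgH.AdicSmooth.isGeometricallyRegular_localization k _ hg'
      (q.primeCompl.map (algebraMap S (Localization.Away g))) _
  · intro h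
    haveI : IsNoetherianRing (Localization.AtPrime q) :=
      IsLocalization.isNoetherianRing q.primeCompl _ inferInstance
    exact CAlgH.AdicSmooth.formallySmooth_localization q
      (CAlgH.AdicSmooth.of_isGeometricallyRegular h)

theorem isRegularLocalRing_of_isSmoothAt (q : Ideal S) [q.IsPrime] [Algebra.IsSmoothAt k q] :
    IsRegularLocalRing (Localization.AtPrime q) := by
  haveI := ((isSmoothAt_iff_isGeometricallyRegular k q).1 inferInstance) k inferInstance
  haveI : IsRegularRing (Localization.AtPrime q) :=
    IsRegularRing.of_ringEquiv (Algebra.TensorProduct.lid k (Localization.AtPrime q)).toRingEquiv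
  exact IsRegularLocalRing.of_isRegularRing_of_isLocalRing _

attribute [local instance] Algebra.TensorProduct.rightAlgebra

omit [Field k] [Algebra k S] [Algebra.FiniteType k S] in
theorem height_le_height_comap_of_isIntegral {T : Type u} [CommRing T] [Algebra S T]
    [Algebra.IsIntegral S T] (Q : Ideal T) [Q.IsPrime] :
    Q.height ≤ (Q.comap (algebraMap S T)).height := by
  show (⟨Q, ‹_›⟩ : PrimeSpectrum T).asIdeal.height ≤
    (PrimeSpectrum.comap (algebraMap S T) ⟨Q, ‹_›⟩).asIdeal.height
  rw [(⟨Q, ‹_›⟩ : PrimeSpectrum T).height_eq_orderHeight,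
    (PrimeSpectrum.comap (algebraMap S T) ⟨Q, ‹_›⟩).height_eq_orderHeight]
  exact Order.height_le_height_apply_of_strictMono _
    (fun a b h => Ideal.IsIntegral.comap_lt_comap (I := a.asIdeal) (J := b.asIdeal) h) _

omit [Field k] [Algebra k S] [Algebra.FiniteType k S] in
theorem hasRk_atPrime_iff (n : ℕ) (q : Ideal S) [q.IsPrime] :
    _root_.LocCoh.HasRk n (Localization.AtPrime q) ↔
      ∀ (w : Ideal S) [w.IsPrime], w ≤ q → w.height ≤ n → IsRegularLocalRing (Localization.AtPrime w) := by
  constructor
  · intro h w _ hw hn
    obtain ⟨P, hP, rfl⟩ := CommAlg6.exists_under_eq q w hw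
    obtain ⟨e, -⟩ := CAlgH3.isLocalization_atPrime_under q.primeCompl P
    haveI := h P (by rw [← IsLocalization.height_under q.primeCompl P]; exact hn)
    exact IsRegularLocalRing.of_ringEquiv e.symm
  · intro h P _ hn
    obtain ⟨e, -⟩ := CAlgH3.isLocalization_atPrime_under q.primeCompl P
    haveI := h (P.comap (algebraMap S (Localization.AtPrime q))) (CommAlg6.under_le q P)
      (by rw [← IsLocalization.height_under q.primeCompl P] at hn; exact hn)
    exact IsRegularLocalRing.of_ringEquiv e

/-- Smoothness of the generisations of small height gives `(R_n)` over every extension field. -/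
theorem hasRk_of_forall_isSmoothAt (n : ℕ) (q : Ideal S) [q.IsPrime]
    (h : ∀ (w : Ideal S) [w.IsPrime], w ≤ q → w.height ≤ n → Algebra.IsSmoothAt k w)
    (K : Type u) [Field K] [Algebra k K] (Q : Ideal (K ⊗[k] S)) [Q.IsPrime]
    (hQ : Q.comap (algebraMap S (K ⊗[k] S)) = q) :
    _root_.LocCoh.HasRk n (Localization.AtPrime Q) := by
  haveI : IsNoetherianRing S := Algebra.FiniteType.isNoetherianRing k S
  haveI : Algebra.FinitePresentation k S := Algebra.FinitePresentation.of_finiteType.1 inferInstance
  haveI : Algebra.FiniteType K (K ⊗[k] S) := Algebra.FiniteType.baseChange (A := S) K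
  haveI : IsNoetherianRing (K ⊗[k] S) := Algebra.FiniteType.isNoetherianRing K _
  haveI : Module.Flat S (K ⊗[k] S) :=
    Module.Flat.of_linearEquiv (M := S ⊗[k] K) (LinearEquiv.symm
      { (Algebra.TensorProduct.comm k S K).toLinearEquiv with
        map_smul' := fun a x => by
          change Algebra.TensorProduct.comm k S K (a • x) = a • Algebra.TensorProduct.comm k S K x
          rw [Algebra.smul_def, map_mul, Algebra.smul_def]
          simp [RingHom.algebraMap_toAlgebra] })
  rw [hasRk_atPrime_iff]
  intro Q' _ hle hn
  let w := Q'.comap (algebraMap S (K ⊗[k] S))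
  haveI : Q'.LiesOver w := ⟨rfl⟩
  have hw : w.height ≤ n :=
    le_trans (by rw [Ideal.height_eq_height_add_of_liesOver_of_hasGoingDown w Q']; exact le_self_add) hn
  haveI := h w (hQ ▸ Ideal.comap_mono hle) hw
  haveI : Algebra.IsSmoothAt K Q' := SmoothLib.isSmoothAt_baseChange K Q' w rfl
  exact isRegularLocalRing_of_isSmoothAt K Q'

/-- Geometric `(R_n)` on finite extensions gives smoothness of the generisations of small height. -/
theorem forall_isSmoothAt_of_hasRk (n : ℕ) (q : Ideal S) [q.IsPrime]
    (h : ∀ (K : Type u) [Field K] [Algebra k K], Module.Finite k K →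
      ∀ (Q : Ideal (K ⊗[k] S)) [Q.IsPrime], Q.comap (algebraMap S (K ⊗[k] S)) = q →
        _root_.LocCoh.HasRk n (Localization.AtPrime Q))
    (w : Ideal S) [w.IsPrime] (hwq : w ≤ q) (hwn : w.height ≤ n) : Algebra.IsSmoothAt k w := by
  rw [isSmoothAt_iff_isGeometricallyRegular]
  intro K _ _ hK
  haveI : IsNoetherianRing S := Algebra.FiniteType.isNoetherianRing k S
  haveI : Algebra.FiniteType K (K ⊗[k] S) := Algebra.FiniteType.baseChange (A := S) K
  haveI : IsNoetherianRing (K ⊗[k] S) := Algebra.FiniteType.isNoetherianRing K _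
  haveI : Algebra.IsIntegral S (K ⊗[k] S) := by
    haveI : Module.Finite S (S ⊗[k] K) := inferInstance
    haveI : Module.Finite S (K ⊗[k] S) := Module.Finite.equiv
      { (Algebra.TensorProduct.comm k S K).toLinearEquiv with
        map_smul' := fun a x => by
          change Algebra.TensorProduct.comm k S K (a • x) = a • Algebra.TensorProduct.comm k S K x
          rw [Algebra.smul_def, map_mul, Algebra.smul_def]
          simp [RingHom.algebraMap_toAlgebra] }
    infer_instance
  let M := w.primeCompl.map (algebraMap S (K ⊗[k] S))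
  letI : Algebra (K ⊗[k] S) (K ⊗[k] Localization.AtPrime w) :=
    (Algebra.TensorProduct.map (AlgHom.id k K)
      (IsScalarTower.toAlgHom k S (Localization.AtPrime w))).toRingHom.toAlgebra
  haveI : IsScalarTower K (K ⊗[k] S) (K ⊗[k] Localization.AtPrime w) :=
    @IsScalarTower.of_algebraMap_eq K (K ⊗[k] S) (K ⊗[k] Localization.AtPrime w) _ _ _ _ _ _ fun x => by
      show x ⊗ₜ[k] (1 : Localization.AtPrime w) = Algebra.TensorProduct.map (AlgHom.id k K)
        (IsScalarTower.toAlgHom k S (Localization.AtPrime w)) (x ⊗ₜ[k] (1 : S))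
      simp
  haveI := IsLocalization.tensorProduct_tensorProduct_right k K w.primeCompl (Localization.AtPrime w)
    (RingHom.ext fun x => by simp [RingHom.algebraMap_toAlgebra])
  haveI hloc : IsLocalization (w.primeCompl.map
      (Algebra.TensorProduct.includeRight (R := k) (A := K) (B := S)))
      (K ⊗[k] Localization.AtPrime w) := inferInstance
  haveI : IsNoetherianRing (K ⊗[k] Localization.AtPrime w) :=
    IsLocalization.isNoetherianRing (w.primeCompl.map
      (Algebra.TensorProduct.includeRight (R := k) (A := K) (B := S))) _ inferInstance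
  refine isRegularRing_iff.2 fun P _ => ?_
  let Q'' := P.comap (algebraMap (K ⊗[k] S) (K ⊗[k] Localization.AtPrime w))
  obtain ⟨e, -⟩ := CAlgH3.isLocalization_atPrime_under (w.primeCompl.map
      (Algebra.TensorProduct.includeRight (R := k) (A := K) (B := S))) P
  have hw'' : Q''.comap (algebraMap S (K ⊗[k] S)) ≤ w := by
    intro x hx
    by_contra hxw
    exact ‹P.IsPrime›.ne_top (Ideal.eq_top_of_isUnit_mem _ hx
      (IsLocalization.map_units (K ⊗[k] Localization.AtPrime w)
        (⟨_, ⟨x, hxw, rfl⟩⟩ : w.primeCompl.map
          (Algebra.TensorProduct.includeRight (R := k) (A := K) (B := S)))))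
  have hht : Q''.height ≤ n :=
    (height_le_height_comap_of_isIntegral Q'').trans ((Ideal.height_mono hw'').trans hwn)
  obtain ⟨Q, hQQ, hQp, hQq⟩ := Ideal.exists_ideal_over_prime_of_isIntegral q Q''
    (hw''.trans hwq)
  haveI := hQp
  haveI := (hasRk_atPrime_iff n Q).1 (h K hK Q hQq) Q'' hQQ hht
  exact IsRegularLocalRing.of_ringEquiv e

/-- `(S_n)` at a prime is unchanged by an extension of the base field. -/
theorem hasSk_baseChange_iff (n : ℕ) (K : Type u) [Field K] [Algebra k K] (Q : Ideal (K ⊗[k] S))
    [Q.IsPrime] :
    _root_.LocCoh.HasSk n (Localization.AtPrime Q) (Localization.AtPrime Q) ↔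
      _root_.LocCoh.HasSk n (Localization.AtPrime (Q.comap (algebraMap S (K ⊗[k] S))))
        (Localization.AtPrime (Q.comap (algebraMap S (K ⊗[k] S)))) := by
  haveI : IsNoetherianRing S := Algebra.FiniteType.isNoetherianRing k S
  haveI : Algebra.FiniteType K (K ⊗[k] S) := Algebra.FiniteType.baseChange (A := S) K
  haveI : IsNoetherianRing (K ⊗[k] S) := Algebra.FiniteType.isNoetherianRing K _
  let ε : (K ⊗[k] S) ≃ₐ[S] (S ⊗[k] K) := AlgEquiv.ofRingEquiv
    (f := (Algebra.TensorProduct.comm k K S).toRingEquiv) fun x => by
      show Algebra.TensorProduct.comm k K S ((1 : K) ⊗ₜ[k] x) = x ⊗ₜ[k] (1 : K)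
      rfl
  haveI : IsNoetherianRing (S ⊗[k] K) := isNoetherianRing_of_ringEquiv _ ε.toRingEquiv
  haveI : Module.Flat S (K ⊗[k] S) := Module.Flat.of_linearEquiv ε.toLinearEquiv
  refine (CommAlg6.hasSkAt_iff_of_cm_fibres (A := S) (fun p _ => ?_) n Q).symm
  haveI := CommAlg6.isCM_fiber_tensor_field k S K p
  exact CAlgH3.isCohenMacaulayRing_of_ringEquiv
    (Algebra.TensorProduct.congr AlgEquiv.refl ε.symm : p.Fiber (S ⊗[k] K) ≃ₐ[p.ResidueField] _).toRingEquiv

end Groth.Agent.EGA43.FibDepth
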