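import Groth.Prelude.Def_FDesc
import Groth.Agent.EGA43.FibDepth.GeomPoints
import Groth.Agent.EGA43.FibDepth.GeomRing
import Groth.Agent.CommAlg6.GeomFib

/-!
# Geometric `(R_k)`, reducedness and normality at a point of a fibre
-/

set_option autoImplicit false
set_option backward.isDefEq.respectTransparency false
set_option linter.style.haveILetI false

universe u

open CategoryTheory CategoryTheory.Limits AlgebraicGeometry TensorProduct Function

namespace Groth.Agent.EGA43.FibDepth

open Groth.Agent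

attribute [local instance] Algebra.TensorProduct.rightAlgebra

theorem hasRk_congr {R R' : Type u} [CommRing R] [CommRing R'] (e : R ≃+* R') {k : ℕ}
    (h : _root_.LocCoh.HasRk k R) : _root_.LocCoh.HasRk k R' := by
  intro q _ hq
  haveI : (q.comap e.toRingHom).IsPrime := Ideal.comap_isPrime e.toRingHom q
  have e' : Localization.AtPrime (q.comap e.toRingHom) ≃+* Localization.AtPrime q :=
    IsLocalization.ringEquivOfRingEquiv (M := (q.comap e.toRingHom).primeCompl) (T := q.primeCompl)
      _ _ e (by ext x; exact ⟨fun ⟨y, hy, hyx⟩ => hyx ▸ hy, fun hx => ⟨e.symm x, show e (e.symm x) ∉ q by rwa [e.apply_symm_apply], e.apply_symm_apply x⟩⟩)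
  refine @IsRegularLocalRing.of_ringEquiv _ _ (h (q.comap e.toRingHom) ?_) _ _ e'
  rw [← WithBot.coe_le_coe, ← IsLocalization.AtPrime.ringKrullDim_eq_height _
      (Localization.AtPrime (q.comap e.toRingHom)),
    ringKrullDim_eq_of_ringEquiv e', IsLocalization.AtPrime.ringKrullDim_eq_height q
      (Localization.AtPrime q), WithBot.coe_le_coe]
  exact hq

theorem isNormalRing_iff_of_isLocalRing (R : Type u) [CommRing R] [IsLocalRing R] :
    EGA4.IsNormalRing R ↔ IsDomain R ∧ IsIntegrallyClosed R := by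
  let e : R ≃+* Localization.AtPrime (IsLocalRing.maximalIdeal R) :=
    (IsLocalization.atUnits R (IsLocalRing.maximalIdeal R).primeCompl
      (S := Localization.AtPrime (IsLocalRing.maximalIdeal R))
      (fun _ hx => IsLocalRing.notMem_maximalIdeal.1 hx)).toRingEquiv
  constructor
  · intro h
    obtain ⟨_, _⟩ := h (IsLocalRing.maximalIdeal R)
    exact ⟨MulEquiv.isDomain _ e.toMulEquiv, IsIntegrallyClosed.of_equiv e.symm⟩
  · rintro ⟨_, _⟩ p hp
    exact ⟨IsLocalization.isDomain_localization p.primeCompl_le_nonZeroDivisors,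
      isIntegrallyClosed_of_isLocalization _ p.primeCompl p.primeCompl_le_nonZeroDivisors⟩

variable {X Y : Scheme.{u}} (f : X ⟶ Y)

/-- The fibre is smooth at the point. -/
def SmoothP (y : Y) (z : f.fiber y) : Prop :=
  ((f.fiberToSpecResidueField y).stalkMap z).hom.FormallySmooth

/-- The generisations of codimension `≤ k` are smooth points of the fibre. -/
def RkP (k : ℕ) (y : Y) (z : f.fiber y) : Prop :=
  ∀ z', z' ⤳ z → ringKrullDim ((f.fiber y).presheaf.stalk z') ≤ k → SmoothP f y z'

variable [LocallyOfFinitePresentation f]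

theorem exists_fibre_chart (y : Y) (z : f.fiber y) :
    ∃ (S : Type u) (_ : CommRing S) (_ : Algebra (IsLocalRing.ResidueField (Y.presheaf.stalk y)) S)
      (_ : Algebra.FiniteType (IsLocalRing.ResidueField (Y.presheaf.stalk y)) S) (j : Spec (.of S) ⟶ f.fiber y)
      (_ : IsOpenImmersion j) (q : PrimeSpectrum S),
      j ≫ f.fiberToSpecResidueField y =
        Spec.map (CommRingCat.ofHom (algebraMap (IsLocalRing.ResidueField (Y.presheaf.stalk y)) S)) ∧ j q = z := by
  haveI : LocallyOfFiniteType (f.fiberToSpecResidueField y) :=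
    (inferInstanceAs (LocallyOfFiniteType (Limits.pullback.snd f (Y.fromSpecResidueField y))))
  obtain ⟨W, hW, hzW, -⟩ :=
    exists_isAffineOpen_mem_and_subset (X := f.fiber y) (x := z) (U := ⊤) trivial
  obtain ⟨φ, hφ⟩ := Spec.map_surjective (hW.fromSpec ≫ f.fiberToSpecResidueField y)
  let _ : Algebra (IsLocalRing.ResidueField (Y.presheaf.stalk y)) Γ(f.fiber y, W) := φ.hom.toAlgebra
  refine ⟨Γ(f.fiber y, W), inferInstance, inferInstance, ?_, hW.fromSpec, inferInstance,
    hW.primeIdealOf ⟨z, hzW⟩, hφ.symm, hW.fromSpec_primeIdealOf _⟩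
  have h : LocallyOfFiniteType (Spec.map φ) := by rw [hφ]; infer_instance
  exact (HasRingHomProperty.Spec_iff (P := @LocallyOfFiniteType)).1 h

theorem stalk_dim_eq {S : Type u} [CommRing S] {W : Scheme.{u}} (j : Spec (.of S) ⟶ W)
    [IsOpenImmersion j] (w : PrimeSpectrum S) :
    ringKrullDim (W.presheaf.stalk (j w)) = (w.asIdeal.height : WithBot ℕ∞) := by
  obtain ⟨e⟩ := nonempty_stalk_equiv j w
  rw [← ringKrullDim_eq_of_ringEquiv e]
  exact IsLocalization.AtPrime.ringKrullDim_eq_height w.asIdeal _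

omit [LocallyOfFinitePresentation f] in
/-- `RkP` in an affine chart. -/
theorem rkP_iff {y : Y} {S : Type u} [CommRing S] [Algebra (IsLocalRing.ResidueField (Y.presheaf.stalk y)) S]
    [Algebra.FiniteType (IsLocalRing.ResidueField (Y.presheaf.stalk y)) S] (j : Spec (.of S) ⟶ f.fiber y) [IsOpenImmersion j]
    (hj : j ≫ f.fiberToSpecResidueField y =
      Spec.map (CommRingCat.ofHom (algebraMap (IsLocalRing.ResidueField (Y.presheaf.stalk y)) S))) (k : ℕ) (q : PrimeSpectrum S) :
    RkP f k y (j q) ↔ ∀ (w : Ideal S) [w.IsPrime], w ≤ q.asIdeal → w.height ≤ k →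
      Algebra.IsSmoothAt (IsLocalRing.ResidueField (Y.presheaf.stalk y)) w := by
  haveI : Algebra.FinitePresentation (IsLocalRing.ResidueField (Y.presheaf.stalk y)) S :=
    Algebra.FinitePresentation.of_finiteType.1 inferInstance
  constructor
  · intro h w _ hw hk
    refine (formallySmooth_stalkMap_chart_iff j _ hj ⟨w, ‹_›⟩).1 (h _ ?_ ?_)
    · exact ((PrimeSpectrum.le_iff_specializes (⟨w, ‹_›⟩ : PrimeSpectrum S) q).1 hw).map j.continuous
    · rw [stalk_dim_eq]
      exact WithBot.coe_le_coe.2 hk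
  · intro h z' hz' hk
    obtain ⟨w, rfl⟩ : z' ∈ Set.range j := hz'.mem_open j.isOpenEmbedding.isOpen_range ⟨q, rfl⟩
    rw [stalk_dim_eq] at hk
    refine (formallySmooth_stalkMap_chart_iff j _ hj w).2 ?_
    exact @h w.asIdeal w.isPrime ((PrimeSpectrum.le_iff_specializes w q).2
      (j.isOpenEmbedding.isInducing.specializes_iff.1 hz')) (WithBot.coe_le_coe.1 hk)

omit [LocallyOfFinitePresentation f] in
/-- The points over `z` of the base change of the fibre to `K`, in an affine chart. -/
theorem forall_bc_iff {y : Y} {S : Type u} [CommRing S] [Algebra (IsLocalRing.ResidueField (Y.presheaf.stalk y)) S]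
    (j : Spec (.of S) ⟶ f.fiber y) [IsOpenImmersion j]
    (hj : j ≫ f.fiberToSpecResidueField y =
      Spec.map (CommRingCat.ofHom (algebraMap (IsLocalRing.ResidueField (Y.presheaf.stalk y)) S)))
    (K : Type u) [Field K] [Algebra (IsLocalRing.ResidueField (Y.presheaf.stalk y)) K] (Pr : ∀ (R : Type u) [CommRing R], Prop)
    (hPr : ∀ (R R' : Type u) [CommRing R] [CommRing R'], R ≃+* R' → Pr R → Pr R')
    (q : PrimeSpectrum S) :
    (∀ x' : ↥(FBase.bc (f.fiberToSpecResidueField y) K),
        (FBase.bcπ (f.fiberToSpecResidueField y) K).base x' = j q →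
          Pr ((FBase.bc (f.fiberToSpecResidueField y) K).presheaf.stalk x')) ↔
      ∀ (Q : Ideal (K ⊗[IsLocalRing.ResidueField (Y.presheaf.stalk y)] S)) [Q.IsPrime],
        Q.comap (algebraMap S (K ⊗[IsLocalRing.ResidueField (Y.presheaf.stalk y)] S)) = q.asIdeal → Pr (Localization.AtPrime Q) := by
  obtain ⟨j', hj', hrange, h1, -⟩ := exists_chart_baseChange (T := K) (f.fiberToSpecResidueField y)
    (𝟙 _) j (by rw [Category.comp_id]; exact hj)
    (Spec.map (CommRingCat.ofHom (algebraMap (IsLocalRing.ResidueField (Y.presheaf.stalk y)) K))) (Category.comp_id _).symm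
  exact forall_over_iff (FBase.bcπ (f.fiberToSpecResidueField y) K) j j' hrange _ h1 Pr hPr q

/-- Geometric `(R_k)`, tested on all extensions or on finite ones. -/
theorem hasRk_bc (k : ℕ) (y : Y) (z : f.fiber y) :
    (RkP f k y z → ∀ (K : Type u) [Field K] [Algebra (IsLocalRing.ResidueField (Y.presheaf.stalk y)) K]
      (x' : ↥(FBase.bc (f.fiberToSpecResidueField y) K)),
      (FBase.bcπ (f.fiberToSpecResidueField y) K).base x' = z →
        _root_.LocCoh.HasRk k ((FBase.bc (f.fiberToSpecResidueField y) K).presheaf.stalk x')) ∧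
    ((∀ (K : Type u) [Field K] [Algebra (IsLocalRing.ResidueField (Y.presheaf.stalk y)) K], Module.Finite (IsLocalRing.ResidueField (Y.presheaf.stalk y)) K →
      ∀ x' : ↥(FBase.bc (f.fiberToSpecResidueField y) K),
      (FBase.bcπ (f.fiberToSpecResidueField y) K).base x' = z →
        _root_.LocCoh.HasRk k ((FBase.bc (f.fiberToSpecResidueField y) K).presheaf.stalk x')) →
      RkP f k y z) := by
  obtain ⟨S, _, _, _, j, _, q, hj, rfl⟩ := exists_fibre_chart f y z
  haveI : IsNoetherianRing S := Algebra.FiniteType.isNoetherianRing (IsLocalRing.ResidueField (Y.presheaf.stalk y)) S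
  have hiso : ∀ (R R' : Type u) [CommRing R] [CommRing R'], R ≃+* R' →
      _root_.LocCoh.HasRk k R → _root_.LocCoh.HasRk k R' :=
    fun R R' _ _ e h => hasRk_congr e h
  constructor
  · intro h K _ _
    rw [forall_bc_iff f j hj K (fun R _ => _root_.LocCoh.HasRk k R) hiso q]
    intro Q _ hQ
    exact hasRk_of_forall_isSmoothAt (IsLocalRing.ResidueField (Y.presheaf.stalk y)) k q.asIdeal ((rkP_iff f j hj k q).1 h) K Q hQ
  · intro h
    rw [rkP_iff f j hj k q]
    intro w _ hw hk
    refine forall_isSmoothAt_of_hasRk (IsLocalRing.ResidueField (Y.presheaf.stalk y)) k q.asIdeal (fun K _ _ hK => ?_) w hw hk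
    exact (forall_bc_iff f j hj K (fun R _ => _root_.LocCoh.HasRk k R) hiso q).1 (h K hK)

/-- `(S_n)` of the local rings over `z` in a base change of the fibre. -/
theorem hasSk_bc_iff (n : ℕ) (y : Y) (z : f.fiber y) (K : Type u) [Field K]
    [Algebra (IsLocalRing.ResidueField (Y.presheaf.stalk y)) K] (x' : ↥(FBase.bc (f.fiberToSpecResidueField y) K))
    (hx' : (FBase.bcπ (f.fiberToSpecResidueField y) K).base x' = z) :
    _root_.LocCoh.HasSk n ((FBase.bc (f.fiberToSpecResidueField y) K).presheaf.stalk x')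
        ((FBase.bc (f.fiberToSpecResidueField y) K).presheaf.stalk x') ↔
      _root_.LocCoh.HasSk n ((f.fiber y).presheaf.stalk z) ((f.fiber y).presheaf.stalk z) := by
  obtain ⟨S, _, _, _, j, _, q, hj, rfl⟩ := exists_fibre_chart f y z
  haveI : IsNoetherianRing S := Algebra.FiniteType.isNoetherianRing (IsLocalRing.ResidueField (Y.presheaf.stalk y)) S
  haveI : Algebra.FiniteType K (K ⊗[IsLocalRing.ResidueField (Y.presheaf.stalk y)] S) := Algebra.FiniteType.baseChange (A := S) K
  haveI : IsNoetherianRing (K ⊗[IsLocalRing.ResidueField (Y.presheaf.stalk y)] S) := Algebra.FiniteType.isNoetherianRing K _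
  obtain ⟨j', hj', hrange, h1, -⟩ := exists_chart_baseChange (T := K) (f.fiberToSpecResidueField y)
    (𝟙 _) j (by rw [Category.comp_id]; exact hj)
    (Spec.map (CommRingCat.ofHom (algebraMap (IsLocalRing.ResidueField (Y.presheaf.stalk y)) K))) (Category.comp_id _).symm
  obtain ⟨Q, rfl⟩ : x' ∈ Set.range j' := hrange.ge
    (show FBase.bcπ (f.fiberToSpecResidueField y) K x' ∈ Set.range j from hx'.symm ▸ ⟨q, rfl⟩)
  have h' : (j' ≫ pullback.fst _ _) Q = j q := hx'
  rw [h1] at h'
  have hQ := congrArg PrimeSpectrum.asIdeal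
    (j.isOpenEmbedding.injective h' : PrimeSpectrum.comap (algebraMap S (K ⊗[IsLocalRing.ResidueField (Y.presheaf.stalk y)] S)) Q = q)
  obtain ⟨e⟩ := nonempty_stalk_equiv j' Q
  obtain ⟨e₀⟩ := nonempty_stalk_equiv j (PrimeSpectrum.comap (algebraMap S (K ⊗[IsLocalRing.ResidueField (Y.presheaf.stalk y)] S)) Q)
  rw [show j q = j (PrimeSpectrum.comap (algebraMap S (K ⊗[IsLocalRing.ResidueField (Y.presheaf.stalk y)] S)) Q) from
    congrArg j (PrimeSpectrum.ext hQ).symm]
  haveI := isNoetherianRing_of_ringEquiv _ e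
  haveI := isNoetherianRing_of_ringEquiv _ e₀
  refine Iff.trans ?_ ((hasSk_baseChange_iff (IsLocalRing.ResidueField (Y.presheaf.stalk y)) n K Q.asIdeal).trans ?_)
  · exact ⟨CommAlg6.hasSk_of_ringEquiv e.symm, CommAlg6.hasSk_of_ringEquiv e⟩
  · exact ⟨CommAlg6.hasSk_of_ringEquiv e₀, CommAlg6.hasSk_of_ringEquiv e₀.symm⟩

omit [LocallyOfFinitePresentation f] in
theorem exists_bc_over (y : Y) (z : f.fiber y) :
    ∃ x' : ↥(FBase.bc (f.fiberToSpecResidueField y) (IsLocalRing.ResidueField (Y.presheaf.stalk y))),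
      (FBase.bcπ (f.fiberToSpecResidueField y) (IsLocalRing.ResidueField (Y.presheaf.stalk y))).base x' = z := by
  obtain ⟨w, hw, -⟩ := Scheme.Pullback.exists_preimage_pullback (f := f.fiberToSpecResidueField y)
    (g := Spec.map (CommRingCat.ofHom (algebraMap (IsLocalRing.ResidueField (Y.presheaf.stalk y)) (IsLocalRing.ResidueField (Y.presheaf.stalk y)))))
    z (IsLocalRing.closedPoint (IsLocalRing.ResidueField (Y.presheaf.stalk y))) (Subsingleton.elim (α := PrimeSpectrum (IsLocalRing.ResidueField (Y.presheaf.stalk y))) _ _)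
  exact ⟨w, hw⟩

theorem isNoetherianRing_bc_stalk (y : Y) (K : Type u) [Field K] [Algebra (IsLocalRing.ResidueField (Y.presheaf.stalk y)) K]
    (x' : ↥(FBase.bc (f.fiberToSpecResidueField y) K)) :
    IsNoetherianRing ((FBase.bc (f.fiberToSpecResidueField y) K).presheaf.stalk x') := by
  haveI : LocallyOfFiniteType (f.fiberToSpecResidueField y) :=
    (inferInstanceAs (LocallyOfFiniteType (Limits.pullback.snd f (Y.fromSpecResidueField y))))
  haveI : LocallyOfFiniteType (FBase.bcStr (f.fiberToSpecResidueField y) K) :=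
    (inferInstanceAs (LocallyOfFiniteType (Limits.pullback.snd (f.fiberToSpecResidueField y)
      (Spec.map (CommRingCat.ofHom (algebraMap (IsLocalRing.ResidueField (Y.presheaf.stalk y)) K))))))
  have := LocallyOfFiniteType.isLocallyNoetherian (FBase.bcStr (f.fiberToSpecResidueField y) K)
  infer_instance

/-- Geometrically reduced means `(R_0)` geometrically and `(S_1)`. -/
theorem isGeomReducedAt_iff (y : Y) (z : f.fiber y) :
    FBase.IsGeomReducedAt (f.fiberToSpecResidueField y) z ↔
      RkP f 0 y z ∧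
        _root_.LocCoh.HasSk 1 ((f.fiber y).presheaf.stalk z) ((f.fiber y).presheaf.stalk z) := by
  constructor
  · intro h
    refine ⟨(hasRk_bc f 0 y z).2 fun K _ _ _ x' hx' => ?_, ?_⟩
    · haveI := isNoetherianRing_bc_stalk f y K x'
      exact (CommAlg6.isReduced_iff_R0_S1.1 (h K x' hx')).1
    · obtain ⟨x', hx'⟩ := exists_bc_over f y z
      haveI := isNoetherianRing_bc_stalk f y _ x'
      exact (hasSk_bc_iff f 1 y z _ x' hx').1 (CommAlg6.isReduced_iff_R0_S1.1 (h _ x' hx')).2
  · rintro ⟨h1, h2⟩ K _ _ x' hx'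
    haveI := isNoetherianRing_bc_stalk f y K x'
    exact CommAlg6.isReduced_iff_R0_S1.2
      ⟨(hasRk_bc f 0 y z).1 h1 K x' hx', (hasSk_bc_iff f 1 y z K x' hx').2 h2⟩

/-- Geometrically normal on finite extensions implies `(R_1)` geometrically and `(S_2)`. -/
theorem geomNormal_finite (y : Y) (z : f.fiber y)
    (h : ∀ (K : Type u) [Field K] [Algebra (IsLocalRing.ResidueField (Y.presheaf.stalk y)) K], Module.Finite (IsLocalRing.ResidueField (Y.presheaf.stalk y)) K →
      ∀ x' : ↥(FBase.bc (f.fiberToSpecResidueField y) K),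
      (FBase.bcπ (f.fiberToSpecResidueField y) K).base x' = z →
        IsDomain ((FBase.bc (f.fiberToSpecResidueField y) K).presheaf.stalk x') ∧
          IsIntegrallyClosed ((FBase.bc (f.fiberToSpecResidueField y) K).presheaf.stalk x')) :
    RkP f 1 y z ∧
      _root_.LocCoh.HasSk 2 ((f.fiber y).presheaf.stalk z) ((f.fiber y).presheaf.stalk z) := by
  refine ⟨(hasRk_bc f 1 y z).2 fun K _ _ hK x' hx' => ?_, ?_⟩
  · haveI := isNoetherianRing_bc_stalk f y K x'
    exact (CommAlg6.isNormalRing_iff_R1_S2.1 ((isNormalRing_iff_of_isLocalRing _).2 (h K hK x' hx'))).1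
  · obtain ⟨x', hx'⟩ := exists_bc_over f y z
    haveI := isNoetherianRing_bc_stalk f y _ x'
    exact (hasSk_bc_iff f 2 y z _ x' hx').1 (CommAlg6.isNormalRing_iff_R1_S2.1
      ((isNormalRing_iff_of_isLocalRing _).2 (h _ inferInstance x' hx'))).2

theorem geomNormal_of_rkP (y : Y) (z : f.fiber y) (h1 : RkP f 1 y z)
    (h2 : _root_.LocCoh.HasSk 2 ((f.fiber y).presheaf.stalk z) ((f.fiber y).presheaf.stalk z))
    (K : Type u) [Field K] [Algebra (IsLocalRing.ResidueField (Y.presheaf.stalk y)) K]
    (x' : ↥(FBase.bc (f.fiberToSpecResidueField y) K))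
    (hx' : (FBase.bcπ (f.fiberToSpecResidueField y) K).base x' = z) :
    IsDomain ((FBase.bc (f.fiberToSpecResidueField y) K).presheaf.stalk x') ∧
      IsIntegrallyClosed ((FBase.bc (f.fiberToSpecResidueField y) K).presheaf.stalk x') := by
  haveI := isNoetherianRing_bc_stalk f y K x'
  exact (isNormalRing_iff_of_isLocalRing _).1 (CommAlg6.isNormalRing_iff_R1_S2.2
    ⟨(hasRk_bc f 1 y z).1 h1 K x' hx', (hasSk_bc_iff f 2 y z K x' hx').2 h2⟩)

end Groth.Agent.EGA43.FibDepth
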