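import Groth.Agent.EGA43.FibDepth.LociScheme
import Mathlib.Topology.Sober
import Mathlib.RingTheory.Spectrum.Prime.Chevalley

/-!
# EGA IV 12.2.1: dimensions of the components of the support of the fibres
-/

set_option autoImplicit false
set_option backward.isDefEq.respectTransparency false
set_option linter.unusedSectionVars false

universe u

open CategoryTheory CategoryTheory.Limits AlgebraicGeometry TopologicalSpace TensorProduct Function
open Topology

namespace Groth.Agent.EGA43.FibDepth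

open Groth.Agent

attribute [local instance] Algebra.TensorProduct.rightAlgebra

/-- Going down for the support of a flat module. -/
theorem exists_mem_support_of_flat {A P M : Type u} [CommRing A] [CommRing P] [Algebra A P]
    [AddCommGroup M] [Module P M] [Module A M] [IsScalarTower A P M] [Module.Finite P M]
    [Module.Flat A M] {q : PrimeSpectrum P} (hq : q ∈ Module.support P M) (p' : PrimeSpectrum A)
    (hp' : p' ≤ PrimeSpectrum.comap (algebraMap A P) q) :
    ∃ q' ∈ Module.support P M, q' ≤ q ∧ PrimeSpectrum.comap (algebraMap A P) q' = p' := by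
  let I := p'.asIdeal.map (algebraMap A P)
  let K := M ⧸ I • (⊤ : Submodule P M)
  have hqK : q ∈ Module.support P K := by
    rw [Module.support_quotient]
    exact ⟨hq, Ideal.map_le_iff_le_comap.2 hp'⟩
  -- the elements of `A ∖ p'` are regular on `K`
  have hreg : ∀ s ∉ p'.asIdeal, ∀ m : M, algebraMap A P s • m ∈ I • (⊤ : Submodule P M) →
      m ∈ I • (⊤ : Submodule P M) := by
    intro s hs m hm
    rw [algebraMap_smul, InjFibre.mem_map_smul_top_iff] at hm
    rw [InjFibre.mem_map_smul_top_iff]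
    let g : A ⧸ p'.asIdeal →ₗ[A] A ⧸ p'.asIdeal := LinearMap.lsmul A (A ⧸ p'.asIdeal) s
    have hg : Injective g := by
      rw [injective_iff_map_eq_zero]
      intro a ha
      obtain ⟨a, rfl⟩ := Ideal.Quotient.mk_surjective a
      have ha' : Ideal.Quotient.mk p'.asIdeal (s * a) = 0 := ha
      rw [Ideal.Quotient.eq_zero_iff_mem] at ha' ⊢
      exact (p'.isPrime.mem_or_mem ha').resolve_left hs
    have hgM := Module.Flat.rTensor_preserves_injective_linearMap (M := M) g hg
    let ε := TensorProduct.quotTensorEquivQuotSMul M p'.asIdeal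
    have key : ∀ x, ε (g.rTensor M x) = s • ε x := fun x => by
      rw [← map_smul]
      congr 1
    have h0 : ε (g.rTensor M (ε.symm (Submodule.Quotient.mk m))) = 0 := by
      rw [key, LinearEquiv.apply_symm_apply, ← Submodule.Quotient.mk_smul,
        Submodule.Quotient.mk_eq_zero]
      exact hm
    rw [LinearEquiv.map_eq_zero_iff, ← (g.rTensor M).map_zero] at h0
    exact (Submodule.Quotient.mk_eq_zero _).1 (ε.symm.map_eq_zero_iff.1 (hgM h0))
  let T : Submonoid P :=
    p'.asIdeal.primeCompl.map (algebraMap A P : A →* P) ⊔ q.asIdeal.primeCompl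
  have hdisj : Disjoint (Module.annihilator P K : Set P) T := by
    rw [Set.disjoint_left]
    intro x hx hT
    obtain ⟨a, ⟨s, hs, rfl⟩, t, ht, rfl⟩ := Submonoid.mem_sup.1 hT
    refine ht (Module.mem_support_iff_of_finite.1 hqK ?_)
    rw [Module.mem_annihilator]
    intro k
    obtain ⟨m, rfl⟩ := Submodule.Quotient.mk_surjective _ k
    have h := Module.mem_annihilator.1 hx (Submodule.Quotient.mk m)
    rw [← Submodule.Quotient.mk_smul, Submodule.Quotient.mk_eq_zero, mul_smul] at h
    rw [← Submodule.Quotient.mk_smul, Submodule.Quotient.mk_eq_zero]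
    exact hreg s hs _ h
  obtain ⟨r, hr, hJr, hrT⟩ := Ideal.exists_le_prime_disjoint _ T hdisj
  have hrK : (⟨r, hr⟩ : PrimeSpectrum P) ∈ Module.support P K :=
    Module.mem_support_iff_of_finite.2 hJr
  rw [Module.support_quotient] at hrK
  refine ⟨⟨r, hr⟩, hrK.1, fun x hx => ?_, PrimeSpectrum.ext (le_antisymm (fun a ha => ?_) ?_)⟩
  · by_contra hxq
    exact Set.disjoint_left.1 hrT hx (Submonoid.mem_sup_right hxq)
  · by_contra hap
    exact Set.disjoint_left.1 hrT ha (Submonoid.mem_sup_left ⟨a, hap, rfl⟩)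
  · exact Ideal.map_le_iff_le_comap.1 hrK.2

/-- A constructible set containing all generisations of a point is a neighbourhood of it. -/
theorem mem_interior_of_isConstructible {R : Type u} [CommRing R] {s : Set (PrimeSpectrum R)}
    (hs : IsConstructible s) {p : PrimeSpectrum R} (h : ∀ p' ≤ p, p' ∈ s) : p ∈ interior s := by
  rw [interior_eq_compl_closure_compl, Set.mem_compl_iff]
  obtain ⟨S, _, g, hg⟩ := PrimeSpectrum.exists_range_eq_of_isConstructible hs.compl
  rw [← hg, ← Set.image_univ, ← PrimeSpectrum.zeroLocus_bot, PrimeSpectrum.closure_image_comap_zeroLocus]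
  intro hp
  obtain ⟨p₀, hp₀, hle⟩ := Ideal.exists_minimalPrimes_le (J := p.asIdeal) hp
  obtain ⟨P₀, hP₀, -, hP₀p⟩ := Ideal.exists_comap_eq_of_mem_minimalPrimes g _ hp₀
  have hmem : PrimeSpectrum.comap g ⟨P₀, hP₀⟩ ∈ sᶜ := hg.le ⟨_, rfl⟩
  exact hmem (h _ (show Ideal.comap g P₀ ≤ p.asIdeal from hP₀p.le.trans hle))

/-- The components of a closed subspace of a sober space are the closures of its minimal points. -/
theorem mem_irreducibleComponents_iff {Z : Type*} [TopologicalSpace Z] [QuasiSober Z] [T0Space Z]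
    {S : Set Z} (hS : IsClosed S) {C : Set S} :
    C ∈ irreducibleComponents S ↔
      ∃ w : S, (∀ w' : S, w' ⤳ w → w' = w) ∧ C = closure {w} := by
  haveI : QuasiSober S := (hS.isClosedEmbedding_subtypeVal).quasiSober
  constructor
  · intro hC
    obtain ⟨w, hw⟩ := QuasiSober.sober hC.1 (isClosed_of_mem_irreducibleComponents C hC)
    refine ⟨w, fun w' h => ?_, hw.symm⟩
    have h1 : C ⊆ closure {w'} := by
      rw [← hw.def]
      exact closure_minimal (Set.singleton_subset_iff.2 h.mem_closure) isClosed_closure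
    have h2 : closure {w'} ⊆ C := hC.2 isIrreducible_singleton.closure h1
    exact (IsGenericPoint.eq (x := w') (le_antisymm h2 h1) hw)
  · rintro ⟨w, hmin, rfl⟩
    obtain ⟨C, hC, hle⟩ : ∃ C ∈ irreducibleComponents S, closure {w} ⊆ C :=
      ⟨_, irreducibleComponent_mem_irreducibleComponents w,
        closure_minimal (Set.singleton_subset_iff.2 mem_irreducibleComponent) isClosed_irreducibleComponent⟩
    obtain ⟨v, hv⟩ := QuasiSober.sober hC.1 (isClosed_of_mem_irreducibleComponents C hC)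
    have : v = w := hmin v (hv.specializes (hle (subset_closure rfl)))
    rw [← this, hv.def]
    exact hC

/-- The dimension of a point closure in a closed subspace. -/
theorem topologicalKrullDim_closure_subtype {Z : Type*} [TopologicalSpace Z] {S : Set Z}
    (hS : IsClosed S) (w : S) :
    topologicalKrullDim ↥(closure ({w} : Set S)) = topologicalKrullDim ↥(closure ({(w : Z)} : Set Z)) := by
  have h : Subtype.val '' (closure ({w} : Set S)) = closure ({(w : Z)} : Set Z) := by
    rw [← hS.isClosedEmbedding_subtypeVal.closure_image_eq, Set.image_singleton]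
  exact ((Topology.IsEmbedding.subtypeVal.homeomorphImage _).trans
    (Homeomorph.setCongr h)).isHomeomorph.topologicalKrullDim_eq _

variable {X Y : Scheme.{u}} (f : X ⟶ Y) (F : X.Modules)

/-- The support of the restriction of `F` to a fibre. -/
def SuppP (y : Y) (z : f.fiber y) : Prop :=
  Nontrivial (((Scheme.Modules.pullback (f.fiberι y)).obj F).presheaf.stalk z)

/-- A point minimal in the support of the restriction of `F` to its fibre. -/
def MinP (y : Y) (z : f.fiber y) : Prop :=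
  SuppP f F y z ∧ ∀ z', z ∈ closure {z'} → SuppP f F y z' → z' = z

/-- A component of dimension `n` of the support in the fibre passes through the point. -/
def CompP (n : ℕ) (y : Y) (z₀ : f.fiber y) : Prop :=
  ∃ z, z₀ ∈ closure {z} ∧ MinP f F y z ∧
    topologicalKrullDim ↥(closure ({z} : Set ↥(f.fiber y))) = (n : WithBot ℕ∞)

theorem fiber_pred_iff (Pr : ∀ y, f.fiber y → Prop) (y : Y) (z : f.fiber y) :
    Pr y z ↔ Pr (f (f.fiberι y z)) (f.asFiber (f.fiberι y z)) := by
  suffices ∀ x, f.fiberι y z = x → (Pr y z ↔ Pr (f x) (f.asFiber x)) from this _ rfl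
  intro x hxz
  have hx : f x = y := hxz ▸ ((f.range_fiberι y).le ⟨z, rfl⟩ : f (f.fiberι y z) = y)
  subst hx
  rw [(f.fiberι (f x)).isEmbedding.injective (hxz.trans (f.fiberι_asFiber x).symm)]

section Chart

variable {V : Y.Opens} (hV : IsAffineOpen V) {U : X.Opens} (hU : IsAffineOpen U) (e : U ≤ f ⁻¹ᵁ V)
  {P : Type u} [CommRing P] (π : P →+* Γ(X, U)) [Algebra Γ(Y, V) P]
  [Algebra.FinitePresentation Γ(Y, V) P] [Module.Flat Γ(Y, V) P]
  [LocallyOfFinitePresentation f] [Coh.IsQCoh F] (hF : CohB1.IsFP F) (hπ : Surjective π)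
  (hc : π.comp (algebraMap Γ(Y, V) P) = (f.appLE V U e).hom)
  {N : ℕ} (hP : HasAffineSpaceFibres Γ(Y, V) P N)
  [mP : Module P Γ(F, U)] (hmod : ∀ (r : P) (m : Γ(F, U)), r • m = π r • m)
  [Module.FinitePresentation P Γ(F, U)] [Module Γ(Y, V) Γ(F, U)]
  [IsScalarTower Γ(Y, V) P Γ(F, U)]

include hV hπ hc hP hmod hF in
theorem minP_iff {y : Y} {z : f.fiber y} (hz : f.fiberι y z ∈ U) :
    MinP f F y z ↔ chartPt f hU π hz ∈ Module.support P Γ(F, U) ∧
      ∀ q', FibGen Γ(Y, V) q' (chartPt f hU π hz) → q' ∈ Module.support P Γ(F, U) →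
        q' = chartPt f hU π hz := by
  refine and_congr (fibre_point_iffs f F hV hU e π hπ hc hF hP hmod hz).1 ⟨fun h q hgen hs => ?_,
    fun h z' hcl hs => ?_⟩
  · obtain ⟨z', hz', hsp, rfl⟩ := exists_point_of_fibGen f hV hU e π hπ hc hz
      (ker_le_of_mem_support F π hmod hs) hgen
    obtain rfl := h z' hsp.mem_closure ((fibre_point_iffs f F hV hU e π hπ hc hF hP hmod hz').1.2 hs)
    rfl
  · obtain ⟨hz', hgen⟩ := exists_fibGen_of_specializes f hV hU e π hc
      (specializes_iff_mem_closure.2 hcl) hz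
    exact chartPt_injective f hU π hπ hz' hz
      (h _ hgen ((fibre_point_iffs f F hV hU e π hπ hc hF hP hmod hz').1.1 hs))

include hV hπ hc hP hmod hF in
theorem compP_iff (n : ℕ) {y : Y} {z₀ : f.fiber y} (hz₀ : f.fiberι y z₀ ∈ U) :
    CompP f F n y z₀ ↔ chartPt f hU π hz₀ ∈ compSet Γ(Y, V) Γ(F, U) n := by
  constructor
  · rintro ⟨z, hcl, hmin, hd⟩
    obtain ⟨hz, hgen⟩ := exists_fibGen_of_specializes f hV hU e π hc
      (specializes_iff_mem_closure.2 hcl) hz₀
    rw [(fibre_point_iffs f F hV hU e π hπ hc hF hP hmod hz).2.2.2.2] at hd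
    obtain ⟨hs, hm⟩ := (minP_iff f F hV hU e π hF hπ hc hP hmod hz).1 hmin
    exact ⟨_, hgen, hs, Nat.cast_injective hd, hm⟩
  · rintro ⟨w, hgen, hs, rfl, hm⟩
    obtain ⟨z, hz, hsp, rfl⟩ := exists_point_of_fibGen f hV hU e π hπ hc hz₀
      (ker_le_of_mem_support F π hmod hs) hgen
    exact ⟨z, hsp.mem_closure, (minP_iff f F hV hU e π hF hπ hc hP hmod hz).2 ⟨hs, hm⟩,
      (fibre_point_iffs f F hV hU e π hπ hc hF hP hmod hz).2.2.2.2⟩

include hV hU hπ hc hP hmod hF in
theorem isOpen_not_suppP_inter :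
    IsOpen ({x | ¬ SuppP f F (f x) (f.asFiber x)} ∩ (U : Set X)) :=
  isOpen_inter_of_chart f hU π (fun y z => ¬ SuppP f F y z) (Module.support P Γ(F, U))ᶜ
    (Module.isClosed_support.isOpen_compl) fun x hz =>
      not_congr (fibre_point_iffs f F hV hU e π hπ hc hF hP hmod hz).1

include hV hU hπ hc hP hmod hF in
/-- An associated point through which no embedded one passes is minimal in the support. -/
theorem minP_of_mem_ass {y : Y} {z : f.fiber y} (hz : f.fiberι y z ∈ U) (hne : NoEmbP f F y z)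
    (hass : z ∈ AssSch.Ass ((Scheme.Modules.pullback (f.fiberι y)).obj F)) : MinP f F y z := by
  have ha := (fibre_point_iffs f F hV hU e π hπ hc hF hP hmod hz).2.1.1 hass
  exact (minP_iff f F hV hU e π hF hπ hc hP hmod hz).2 ⟨ha.1, minimal_of_mem_assSet hP
    ((noEmbP_iff f F hV hU e π hF hπ hc hP hmod hz).1 hne) (FibGen.refl _) ha⟩

include hV hU hπ hc hP hmod hF in
/-- A minimal point of the support of a fibre is associated. -/
theorem mem_ass_of_minP {y : Y} {z : f.fiber y} (hz : f.fiberι y z ∈ U) (hmin : MinP f F y z) :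
    z ∈ AssSch.Ass ((Scheme.Modules.pullback (f.fiberι y)).obj F) := by
  obtain ⟨hs, hm⟩ := (minP_iff f F hV hU e π hF hπ hc hP hmod hz).1 hmin
  exact (fibre_point_iffs f F hV hU e π hπ hc hF hP hmod hz).2.1.2 (mem_assSet_of_minimal hP hs hm)

include hV hU hπ hc hP hmod hF in
/-- Having a component of dimension `n` is open on the base, for flat modules. -/
theorem mem_interior_compP [Module.Flat Γ(Y, V) Γ(F, U)] (n : ℕ) {y : Y} {z : f.fiber y}
    (hz : f.fiberι y z ∈ U) (hmin : MinP f F y z)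
    (hd : topologicalKrullDim ↥(closure ({z} : Set ↥(f.fiber y))) = (n : WithBot ℕ∞)) :
    y ∈ interior {y : Y | ∃ z, CompP f F n y z} := by
  have hy : y ∈ V := by
    have : f (f.fiberι y z) ∈ V := e hz
    rwa [show f (f.fiberι y z) = y from (f.range_fiberι y).le ⟨z, rfl⟩] at this
  obtain ⟨hs, hm⟩ := (minP_iff f F hV hU e π hF hπ hc hP hmod hz).1 hmin
  rw [(fibre_point_iffs f F hV hU e π hπ hc hF hP hmod hz).2.2.2.2] at hd
  let K : Set (PrimeSpectrum Γ(Y, V)) :=
    PrimeSpectrum.comap (algebraMap Γ(Y, V) P) '' compSet Γ(Y, V) Γ(F, U) n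
  have hK : IsConstructible K := PrimeSpectrum.isConstructible_comap_image
    (RingHom.finitePresentation_algebraMap.2 inferInstance) (isConstructible_compSet (M := Γ(F, U)) hP n)
  have hp : ∀ p' ≤ hV.primeIdealOf ⟨y, hy⟩, p' ∈ K := by
    intro p' hp'
    obtain ⟨q, hqs, hle, rfl⟩ := exists_mem_support_of_flat (M := Γ(F, U)) hs p'
      (hp'.trans (le_of_eq (PrimeSpectrum.ext (comap_chartPt f hV hU e π hc hz hy).symm)))
    obtain ⟨w, hw, hws, hwmin⟩ := exists_minimal_fibGen hP hqs
    refine ⟨w, ⟨w, FibGen.refl w, hws, ?_, hwmin⟩, PrimeSpectrum.ext hw.2⟩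
    rw [trd_eq_of_minimal hP (hw.1.trans hle) hs hws hm hwmin]
    exact Nat.cast_injective hd
  have h1 := mem_interior_of_isConstructible hK hp
  obtain ⟨O, hOK, hO, hpO⟩ := mem_interior.1 h1
  refine mem_interior.2 ⟨hV.fromSpec '' O, ?_, hV.fromSpec.isOpenEmbedding.isOpenMap _ hO,
    ⟨_, hpO, hV.fromSpec_primeIdealOf _⟩⟩
  rintro _ ⟨p, hp, rfl⟩
  obtain ⟨q, hq, rfl⟩ := hOK hp
  obtain ⟨w, hw, hws, hwn, hwmin⟩ := hq
  obtain ⟨b, rfl⟩ : w ∈ Set.range (PrimeSpectrum.comap π) := by
    rw [range_comap_of_surjective _ _ hπ]; exact ker_le_of_mem_support F π hmod hws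
  have hxU : hU.fromSpec b ∈ U := hU.range_fromSpec.le ⟨b, rfl⟩
  have hb : hU.primeIdealOf ⟨_, hxU⟩ = b :=
    hU.fromSpec.isOpenEmbedding.injective (hU.fromSpec_primeIdealOf _)
  have hzU : f.fiberι (f (hU.fromSpec b)) (f.asFiber (hU.fromSpec b)) ∈ U := by
    rwa [f.fiberι_asFiber]
  have hfx : f (hU.fromSpec b) = hV.fromSpec (PrimeSpectrum.comap (algebraMap Γ(Y, V) P) q) := by
    refine (hV.fromSpec_primeIdealOf ⟨_, e hxU⟩).symm.trans
      (congrArg hV.fromSpec (PrimeSpectrum.ext ?_))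
    rw [← comap_primeIdealOf f hV hU e hxU, hb, ← hc, ← Ideal.comap_comap]
    exact hw.2
  rw [← hfx]
  refine ⟨f.asFiber _, (compP_iff f F hV hU e π hF hπ hc hP hmod n hzU).2 ?_⟩
  rw [chartPt_asFiber f hU π hzU hxU, hb]
  exact ⟨_, FibGen.refl _, hws, hwn, hwmin⟩

end Chart

variable [LocallyOfFinitePresentation f]

theorem isClosed_suppP (hF : CohB1.IsFP F) (y : Y) :
    IsClosed {z : ↥(f.fiber y) | SuppP f F y z} := by
  have := isQCoh_of_isFP F hF
  have hX : IsOpen {x | ¬ SuppP f F (f x) (f.asFiber x)} := by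
    rw [isOpen_iff_forall_mem_open]
    intro x hx
    obtain ⟨V, hV, hfx, -⟩ := exists_isAffineOpen_mem_and_subset (x := f x) (U := ⊤) trivial
    obtain ⟨U, hU, hxU, e⟩ := exists_isAffineOpen_mem_and_subset (x := x) (U := f ⁻¹ᵁ V) hfx
    obtain ⟨N, π, hπ, hc⟩ := exists_mvPolynomial_surjective (f.appLE V U e).hom
      (RingHom.FiniteType.of_finitePresentation (f.finitePresentation_appLE hV hU e))
    let _ := Module.compHom Γ(F, U) π
    let _ := QcohFlat.overModule f F V U e
    obtain ⟨h1, h2⟩ := chart_instances f F hF hV hU e π hπ hc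
    exact ⟨_, Set.inter_subset_left, isOpen_not_suppP_inter f F hV hU e π hF hπ hc
      (hasAffineSpaceFibres_mvPolynomial Γ(Y, V) N) (fun _ _ => rfl), hx, hxU⟩
  refine isOpen_compl_iff.1 ?_
  convert (f.fiberι y).continuous.isOpen_preimage _ hX using 1
  ext z
  exact not_congr (fiber_pred_iff f (SuppP f F) y z)

theorem exists_chart_facts (hF : CohB1.IsFP F) (y : Y) (z : f.fiber y) :
    (MinP f F y z → z ∈ AssSch.Ass ((Scheme.Modules.pullback (f.fiberι y)).obj F)) ∧
      (NoEmbP f F y z → z ∈ AssSch.Ass ((Scheme.Modules.pullback (f.fiberι y)).obj F) →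
        MinP f F y z) := by
  have := isQCoh_of_isFP F hF
  obtain ⟨V, hV, hfx, -⟩ :=
    exists_isAffineOpen_mem_and_subset (x := f (f.fiberι y z)) (U := ⊤) trivial
  obtain ⟨U, hU, hxU, e⟩ :=
    exists_isAffineOpen_mem_and_subset (x := f.fiberι y z) (U := f ⁻¹ᵁ V) hfx
  obtain ⟨N, π, hπ, hc⟩ := exists_mvPolynomial_surjective (f.appLE V U e).hom
    (RingHom.FiniteType.of_finitePresentation (f.finitePresentation_appLE hV hU e))
  let _ := Module.compHom Γ(F, U) π
  let _ := QcohFlat.overModule f F V U e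
  obtain ⟨h1, h2⟩ := chart_instances f F hF hV hU e π hπ hc
  exact ⟨mem_ass_of_minP f F hV hU e π hF hπ hc (hasAffineSpaceFibres_mvPolynomial Γ(Y, V) N)
      (fun _ _ => rfl) hxU,
    minP_of_mem_ass f F hV hU e π hF hπ hc (hasAffineSpaceFibres_mvPolynomial Γ(Y, V) N)
      (fun _ _ => rfl) hxU⟩

theorem isOpen_exists_compP (hF : CohB1.IsFP F) (hflat : FlatMod.IsFlatOver f F) (n : ℕ) :
    IsOpen {y : Y | ∃ z, CompP f F n y z} := by
  have := isQCoh_of_isFP F hF
  rw [← subset_interior_iff_isOpen]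
  rintro y ⟨-, z, -, hmin, hd⟩
  obtain ⟨V, hV, hfx, -⟩ :=
    exists_isAffineOpen_mem_and_subset (x := f (f.fiberι y z)) (U := ⊤) trivial
  obtain ⟨U, hU, hxU, e⟩ :=
    exists_isAffineOpen_mem_and_subset (x := f.fiberι y z) (U := f ⁻¹ᵁ V) hfx
  obtain ⟨N, π, hπ, hc⟩ := exists_mvPolynomial_surjective (f.appLE V U e).hom
    (RingHom.FiniteType.of_finitePresentation (f.finitePresentation_appLE hV hU e))
  let _ := Module.compHom Γ(F, U) π
  let _ := QcohFlat.overModule f F V U e
  obtain ⟨h1, h2⟩ := chart_instances f F hF hV hU e π hπ hc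
  have := flat_sections f F hV hU e fun x _ => hflat x
  exact mem_interior_compP f F hV hU e π hF hπ hc (hasAffineSpaceFibres_mvPolynomial Γ(Y, V) N)
    (fun _ _ => rfl) n hxU hmin hd

/-- The components of the support of a fibre are the closures of its minimal points. -/
theorem exists_component_iff_minP (hF : CohB1.IsFP F) (y : Y) (d : WithBot ℕ∞) :
    (∃ Z ∈ irreducibleComponents ↥{z : ↥(f.fiber y) | SuppP f F y z},
      topologicalKrullDim ↥Z = d) ↔
      ∃ z, MinP f F y z ∧ topologicalKrullDim ↥(closure ({z} : Set ↥(f.fiber y))) = d := by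
  have hS := isClosed_suppP f F hF y
  constructor
  · rintro ⟨Z, hZ, hd⟩
    obtain ⟨w, hw, rfl⟩ := (mem_irreducibleComponents_iff hS).1 hZ
    refine ⟨w, ⟨w.2, fun z' hz' hs => congrArg Subtype.val (hw ⟨z', hs⟩
      ((subtype_specializes_iff _ _).2 (specializes_iff_mem_closure.2 hz')))⟩, ?_⟩
    rwa [← topologicalKrullDim_closure_subtype hS w]
  · rintro ⟨z, ⟨hs, hmin⟩, hd⟩
    refine ⟨_, (mem_irreducibleComponents_iff hS).2 ⟨⟨z, hs⟩, fun w' h =>
      Subtype.ext (hmin w' ((subtype_specializes_iff _ _).1 h).mem_closure w'.2), rfl⟩, ?_⟩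
    rwa [topologicalKrullDim_closure_subtype hS]

theorem exists_component_iff (hF : CohB1.IsFP F) (y : Y) (n : ℕ) :
    (∃ Z ∈ irreducibleComponents ↥{z : ↥(f.fiber y) | SuppP f F y z},
      topologicalKrullDim ↥Z = (n : WithBot ℕ∞)) ↔ ∃ z, CompP f F n y z := by
  rw [exists_component_iff_minP f F hF y]
  exact ⟨fun ⟨z, hz, hd⟩ => ⟨z, z, subset_closure rfl, hz, hd⟩, fun ⟨_, z, _, hz, hd⟩ => ⟨z, hz, hd⟩⟩

end Groth.Agent.EGA43.FibDepth
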