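import Groth.Agent.EGA43.FibDepth.GeomChart
import Groth.Agent.CommAlg6.SerreOne

/-!
# EGA IV 9.9, 12.2: geometric `(R_k)`, reducedness and normality on the fibres
-/

set_option autoImplicit false
set_option backward.isDefEq.respectTransparency false
set_option linter.unusedSectionVars false
set_option linter.style.haveILetI false

universe u

open CategoryTheory CategoryTheory.Limits AlgebraicGeometry TopologicalSpace TensorProduct Function
open Topology

namespace Groth.Agent.EGA43.FibDepth

open Groth.Agent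

attribute [local instance] Algebra.TensorProduct.rightAlgebra

section Algebra

theorem isEquidim_iff_isEquidimModule (R : Type u) [CommRing R] :
    EGA4.IsEquidim R ↔ EGA4.IsEquidimModule R R := by
  rw [EGA4.IsEquidim, EGA4.IsEquidimModule, Module.annihilator_eq_bot.2 inferInstance,
    Module.supportDim_self_eq_ringKrullDim]

theorem assPrimes_subset_minimalPrimes_iff (R : Type u) [CommRing R] [IsNoetherianRing R] :
    (∀ p ∈ associatedPrimes R R, p ∈ minimalPrimes R) ↔ _root_.LocCoh.HasSk 1 R R := by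
  rw [CommAlg6.hasSk_one_iff]
  constructor
  · intro h p hp r _ hle
    exact le_antisymm hle ((h _ hp).2 ⟨r.isPrime, bot_le⟩ hle)
  · intro h p hp
    refine ⟨⟨IsAssociatedPrime.isPrime hp, bot_le⟩, fun r hr hle => ?_⟩
    have := h ⟨p, IsAssociatedPrime.isPrime hp⟩ hp ⟨r, hr.1⟩ (Module.mem_support_iff_of_finite.2
      (by rw [Module.annihilator_eq_bot.2 inferInstance]; exact bot_le)) hle
    exact le_of_eq this.symm

theorem isEquidim_of_isDomain (R : Type u) [CommRing R] [IsDomain R] : EGA4.IsEquidim R := by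
  intro p hp
  rw [IsDomain.minimalPrimes_eq_singleton_bot, Set.mem_singleton_iff] at hp
  subst hp
  exact ringKrullDim_eq_of_ringEquiv (RingEquiv.quotientBot R)

end Algebra

variable {X Y : Scheme.{u}} (f : X ⟶ Y) [LocallyOfFinitePresentation f]

theorem hasRk_of_rkP (k : ℕ) (y : Y) (z : f.fiber y) (h : RkP f k y z) :
    _root_.LocCoh.HasRk k ((f.fiber y).presheaf.stalk z) := by
  obtain ⟨S, _, _, _, j, _, q, hj, rfl⟩ := exists_fibre_chart f y z
  obtain ⟨e⟩ := nonempty_stalk_equiv j q
  refine hasRk_congr e ((hasRk_atPrime_iff k q.asIdeal).2 fun w _ hw hk => ?_)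
  haveI := (rkP_iff f j hj k q).1 h w hw hk
  exact isRegularLocalRing_of_isSmoothAt (IsLocalRing.ResidueField (Y.presheaf.stalk y)) w

theorem equiSkP_structureModule_iff (k : ℕ) (y : Y) (z : f.fiber y) :
    EquiSkP f (Coh.structureModule X) k y z ↔ EGA4.IsEquidim ((f.fiber y).presheaf.stalk z) ∧
      _root_.LocCoh.HasSk k ((f.fiber y).presheaf.stalk z) ((f.fiber y).presheaf.stalk z) := by
  let _ : Algebra (X.presheaf.stalk (f.fiberι y z)) ((f.fiber y).presheaf.stalk z) :=
    ((f.fiberι y).stalkMap z).hom.toAlgebra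
  let e1 : ((Scheme.Modules.pullback (f.fiberι y)).obj (Coh.structureModule X)).presheaf.stalk z
      ≃ₗ[(f.fiber y).presheaf.stalk z] (f.fiber y).presheaf.stalk z ⊗[X.presheaf.stalk (f.fiberι y z)]
        (Coh.structureModule X).presheaf.stalk (f.fiberι y z) :=
    ((ModStalk.pullbackStalkIso (f.fiberι y) z).app (Coh.structureModule X)).toLinearEquiv
  rw [EquiSkP, skP_structureModule_iff, isEquidim_iff_isEquidimModule,
    isEquidimModule_congr (tensorUnitEquiv e1 (unitStalkEquiv (f.fiberι y z)))]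

/-- `(R_k)`, equidimensional and no embedded components, in the language of `EquiSkP`. -/
theorem rkP_equidim_ass_iff (k : ℕ) (y : Y) (z : f.fiber y) :
    (RkP f k y z ∧ EquiSkP f (Coh.structureModule X) 1 y z) ↔
      (RkP f k y z ∧ EGA4.IsEquidim ((f.fiber y).presheaf.stalk z) ∧
        ∀ p ∈ associatedPrimes ((f.fiber y).presheaf.stalk z) ((f.fiber y).presheaf.stalk z),
          p ∈ minimalPrimes ((f.fiber y).presheaf.stalk z)) := by
  haveI := isNoetherianRing_fiber_stalk f y z
  rw [equiSkP_structureModule_iff, assPrimes_subset_minimalPrimes_iff]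

/-- `(R_1)` geometrically and `(S_2)` force an equidimensional local ring. -/
theorem equiSkP_two_iff (y : Y) (z : f.fiber y) :
    (RkP f 1 y z ∧ EquiSkP f (Coh.structureModule X) 2 y z) ↔ (RkP f 1 y z ∧
      _root_.LocCoh.HasSk 2 ((f.fiber y).presheaf.stalk z) ((f.fiber y).presheaf.stalk z)) := by
  rw [equiSkP_structureModule_iff]
  refine ⟨fun h => ⟨h.1, h.2.2⟩, fun h => ⟨h.1, ?_, h.2⟩⟩
  haveI := isNoetherianRing_fiber_stalk f y z
  obtain ⟨_, _⟩ := (isNormalRing_iff_of_isLocalRing _).1
    (CommAlg6.isNormalRing_iff_R1_S2.2 ⟨hasRk_of_rkP f 1 y z h.1, h.2⟩)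
  exact isEquidim_of_isDomain _

/-- A chart on which the loci have their expected shape. -/
theorem exists_geom_chart (x : X) :
    ∃ (U : X.Opens) (hU : IsAffineOpen U), x ∈ U ∧
      (∀ k, IsConstructible (hU.fromSpec ⁻¹' {x | RkP f k (f x) (f.asFiber x)})) := by
  have hF := isFP_structureModule X
  have := isQCoh_of_isFP (Coh.structureModule X) hF
  obtain ⟨V, hV, hfx, -⟩ := exists_isAffineOpen_mem_and_subset (x := f x) (U := ⊤) trivial
  obtain ⟨U, hU, hxU, e⟩ := exists_isAffineOpen_mem_and_subset (x := x) (U := f ⁻¹ᵁ V) hfx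
  obtain ⟨N, π, hπ, hc⟩ := exists_mvPolynomial_surjective (f.appLE V U e).hom
    (RingHom.FiniteType.of_finitePresentation (f.finitePresentation_appLE hV hU e))
  let _ := Module.compHom Γ(Coh.structureModule X, U) π
  let _ := QcohFlat.overModule f (Coh.structureModule X) V U e
  obtain ⟨h1, h2⟩ := chart_instances f (Coh.structureModule X) hF hV hU e π hπ hc
  have hP := hasAffineSpaceFibres_mvPolynomial Γ(Y, V) N
  exact ⟨U, hU, hxU, fun k => isConstructible_preimage_of_chart f hU π (RkP f k) _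
    (isConstructible_rkLocus (M := Γ(Coh.structureModule X, U)) hP
      (isConstructible_nsLocus f hV hU e π hπ hc) k)
    fun x hz => rkP_iff_mem f hV hU e π hπ hc hP (fun _ _ => rfl) hz k⟩

theorem isLocallyConstructible_rkP (k : ℕ) :
    IsLocallyConstructible {x | RkP f k (f x) (f.asFiber x)} :=
  Cons.isLocallyConstructible_of_forall_fromSpec fun x =>
    let ⟨U, hU, hx, h⟩ := exists_geom_chart f x; ⟨U, hU, hx, h k⟩

theorem isLocallyConstructible_hasSk (k : ℕ) :
    IsLocallyConstructible {x | _root_.LocCoh.HasSk k ((f.fiber (f x)).presheaf.stalk (f.asFiber x))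
      ((f.fiber (f x)).presheaf.stalk (f.asFiber x))} := by
  convert (isLocallyConstructible_assLoci f (Coh.structureModule X) (isFP_structureModule X) k).1 using 1
  ext x
  exact (skP_structureModule_iff f k (f x) (f.asFiber x)).symm

theorem isLocallyConstructible_smoothP :
    IsLocallyConstructible {x | SmoothP f (f x) (f.asFiber x)} := by
  refine Cons.isLocallyConstructible_of_forall_fromSpec fun x => ?_
  obtain ⟨V, hV, hfx, -⟩ := exists_isAffineOpen_mem_and_subset (x := f x) (U := ⊤) trivial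
  obtain ⟨U, hU, hxU, e⟩ := exists_isAffineOpen_mem_and_subset (x := x) (U := f ⁻¹ᵁ V) hfx
  let _ := (f.appLE V U e).hom.toAlgebra
  have : Algebra.FinitePresentation Γ(Y, V) Γ(X, U) := f.finitePresentation_appLE hV hU e
  refine ⟨U, hU, hxU, isConstructible_preimage_of_chart f hU (RingHom.id Γ(X, U)) (SmoothP f) _
    (isConstructible_fSm (A := Γ(Y, V))) fun x hz => ?_⟩
  rw [smoothP_iff_fSm f hV hU e hz, PrimeSpectrum.comap_id]
  rfl

set_option maxHeartbeats 400000 in
-- one chart serves three loci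
theorem exists_geom_open (x : X) (hx : (f.stalkMap x).hom.Flat) (k j : ℕ) (hj : 1 ≤ j) :
    ∃ U : X.Opens, x ∈ U ∧ (∀ x' ∈ U, (f.stalkMap x').hom.Flat) ∧
      IsOpen ({x | RkP f 0 (f x) (f.asFiber x) ∧
        SkP f (Coh.structureModule X) 1 (f x) (f.asFiber x)} ∩ (U : Set X)) ∧
      IsOpen ({x | RkP f k (f x) (f.asFiber x) ∧
        EquiSkP f (Coh.structureModule X) j (f x) (f.asFiber x)} ∩ (U : Set X)) := by
  have hF := isFP_structureModule X
  have := isQCoh_of_isFP (Coh.structureModule X) hF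
  let W : X.Opens := ⟨_, QcohFlat.isOpen_setOf_isFlatOverAt f (Coh.structureModule X) hF⟩
  have hxW : x ∈ W := (isFlatOverAt_structureModule f x).2 hx
  obtain ⟨V, hV, hfx, -⟩ := exists_isAffineOpen_mem_and_subset (x := f x) (U := ⊤) trivial
  obtain ⟨U, hU, hxU, hle⟩ :=
    exists_isAffineOpen_mem_and_subset (x := x) (U := f ⁻¹ᵁ V ⊓ W) ⟨hfx, hxW⟩
  have e : U ≤ f ⁻¹ᵁ V := fun y hy => (hle hy).1
  obtain ⟨N, π, hπ, hc⟩ := exists_mvPolynomial_surjective (f.appLE V U e).hom
    (RingHom.FiniteType.of_finitePresentation (f.finitePresentation_appLE hV hU e))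
  let _ := Module.compHom Γ(Coh.structureModule X, U) π
  let _ := QcohFlat.overModule f (Coh.structureModule X) V U e
  obtain ⟨h1, h2⟩ := chart_instances f (Coh.structureModule X) hF hV hU e π hπ hc
  have hfl := flat_sections f (Coh.structureModule X) hV hU e fun y hy => (hle hy).2
  have hflat : letI := (f.appLE V U e).hom.toAlgebra; Module.Flat Γ(Y, V) Γ(X, U) := by
    let _ := (f.appLE V U e).hom.toAlgebra
    let l : Γ(X, U) ≃ₗ[Γ(Y, V)] Γ(Coh.structureModule X, U) :=
      { toFun := fun r => r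
        invFun := fun r => r
        map_add' := fun _ _ => rfl
        map_smul' := fun _ _ => rfl
        left_inv := fun _ => rfl
        right_inv := fun _ => rfl }
    exact Module.Flat.of_linearEquiv l
  have hP := hasAffineSpaceFibres_mvPolynomial Γ(Y, V) N
  have hZ := isClosed_nsLocus f hV hU e π hπ hflat
  have hZc := isConstructible_nsLocus f hV hU e π hπ hc
  refine ⟨U, hxU, fun x' hx' => (isFlatOverAt_structureModule f x').1 (hle hx').2, ?_, ?_⟩
  · exact isOpen_inter_of_chart f hU π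
      (fun y z => RkP f 0 y z ∧ SkP f (Coh.structureModule X) 1 y z) _
      (isOpen_rkLocus_zero_inter (M := Γ(Coh.structureModule X, U)) hP hZ hZc) fun x hz =>
      (and_congr (rkP_iff_mem f hV hU e π hπ hc hP (fun _ _ => rfl) hz 0)
        ((fibre_point_iffs f _ hV hU e π hπ hc hF hP (fun _ _ => rfl) hz).2.2.1 1))
  · exact isOpen_inter_of_chart f hU π
      (fun y z => RkP f k y z ∧ EquiSkP f (Coh.structureModule X) j y z) _
      (isOpen_iUnion fun d => isOpen_rkLocus_inter (M := Γ(Coh.structureModule X, U)) hP hZ hZc k j hj d)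
      fun x hz => by
        rw [rkP_iff_mem f hV hU e π hπ hc hP (fun _ _ => rfl) hz k,
          equiSkP_iff f (Coh.structureModule X) hV hU e π hF hπ hc hP (fun _ _ => rfl) hj hz]
        simp only [Set.mem_iUnion, Set.mem_inter_iff, exists_and_left]
        rfl

theorem isOpen_flat_inter (Pr : X → Prop)
    (h : ∀ x, (f.stalkMap x).hom.Flat → ∃ U : X.Opens, x ∈ U ∧
      (∀ x' ∈ U, (f.stalkMap x').hom.Flat) ∧ IsOpen ({x | Pr x} ∩ (U : Set X))) :
    IsOpen {x | (f.stalkMap x).hom.Flat ∧ Pr x} := by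
  rw [isOpen_iff_forall_mem_open]
  intro x hx
  obtain ⟨U, hxU, hflat, hopen⟩ := h x hx.1
  exact ⟨_, fun y hy => ⟨hflat y hy.2, hy.1⟩, hopen, hx.2, hxU⟩

theorem isOpen_flat_rkP_equiSkP (k j : ℕ) (hj : 1 ≤ j) :
    IsOpen {x | (f.stalkMap x).hom.Flat ∧ RkP f k (f x) (f.asFiber x) ∧
      EquiSkP f (Coh.structureModule X) j (f x) (f.asFiber x)} :=
  isOpen_flat_inter f _ fun x hx =>
    let ⟨U, h1, h2, _, h4⟩ := exists_geom_open f x hx k j hj; ⟨U, h1, h2, h4⟩

theorem isOpen_flat_isGeomReducedAt :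
    IsOpen {x | (f.stalkMap x).hom.Flat ∧
      FBase.IsGeomReducedAt (f.fiberToSpecResidueField (f x)) (f.asFiber x)} := by
  convert isOpen_flat_inter f (fun x => RkP f 0 (f x) (f.asFiber x) ∧
      SkP f (Coh.structureModule X) 1 (f x) (f.asFiber x))
    (fun x hx => let ⟨U, h1, h2, h3, _⟩ := exists_geom_open f x hx 0 1 le_rfl; ⟨U, h1, h2, h3⟩) using 1
  ext x
  simp only [Set.mem_ofPred_eq, isGeomReducedAt_iff, skP_structureModule_iff]

theorem isOpen_flat_geomNormal :
    IsOpen {x | (f.stalkMap x).hom.Flat ∧ RkP f 1 (f x) (f.asFiber x) ∧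
      _root_.LocCoh.HasSk 2 ((f.fiber (f x)).presheaf.stalk (f.asFiber x))
        ((f.fiber (f x)).presheaf.stalk (f.asFiber x))} := by
  simp_rw [← equiSkP_two_iff]
  exact isOpen_flat_rkP_equiSkP f 1 2 (by norm_num)

end Groth.Agent.EGA43.FibDepth
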