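import Groth.Agent.EGA43.FibDepth.Loci
import Groth.Agent.CommAlg6.SerreOpen
import Groth.Agent.S4719

/-!
# `(S_k)`, equidimensionality and associated points of the local modules of a fibre

The conditions on `C_Q ⊗ M`, `C` a fibre ring, in terms of the loci of `FibDepth.Loci`.
-/

set_option autoImplicit false
set_option backward.isDefEq.respectTransparency false
set_option linter.style.haveILetI false
set_option linter.unusedSectionVars false

universe u

open TensorProduct Function PrimeSpectrum IsLocalRing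

namespace Groth.Agent.EGA43.FibDepth

open Groth.Agent

attribute [local instance] Algebra.TensorProduct.rightAlgebra

section General

theorem hasSk_congr {R M M' : Type u} [CommRing R] [AddCommGroup M] [Module R M] [AddCommGroup M']
    [Module R M'] (e : M ≃ₗ[R] M') (k : ℕ) :
    _root_.LocCoh.HasSk k R M ↔ _root_.LocCoh.HasSk k R M' := by
  suffices ∀ {M M' : Type u} [AddCommGroup M] [Module R M] [AddCommGroup M'] [Module R M']
      (_ : M ≃ₗ[R] M'), _root_.LocCoh.HasSk k R M → _root_.LocCoh.HasSk k R M' from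
    ⟨this e, this e.symm⟩
  intro M M' _ _ _ _ e h p _
  let f : M →ₗ[R] LocalizedModule p.primeCompl M' :=
    (LocalizedModule.mkLinearMap p.primeCompl M').comp e.toLinearMap
  haveI : IsLocalizedModule p.primeCompl f := IsLocalizedModule.of_linearEquiv_right _ _ e
  let ε : LocalizedModule p.primeCompl M ≃ₗ[Localization.AtPrime p] LocalizedModule p.primeCompl M' :=
    (IsLocalizedModule.linearEquiv p.primeCompl (LocalizedModule.mkLinearMap p.primeCompl M)
      f).extendScalarsOfIsLocalization p.primeCompl (Localization.AtPrime p)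
  rw [← Module.supportDim_eq_of_equiv (M := LocalizedModule p.primeCompl M)
      (N := LocalizedModule p.primeCompl M') ε,
    ← CAlgH3.depth_congr (M := LocalizedModule p.primeCompl M)
      (N := LocalizedModule p.primeCompl M') ε]
  exact h p

theorem isEquidimModule_congr {R M M' : Type u} [CommRing R] [AddCommGroup M] [Module R M]
    [AddCommGroup M'] [Module R M'] (e : M ≃ₗ[R] M') :
    EGA4.IsEquidimModule R M ↔ EGA4.IsEquidimModule R M' := by
  rw [EGA4.IsEquidimModule, EGA4.IsEquidimModule, e.annihilator_eq, Module.supportDim_eq_of_equiv e]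

variable {R S G : Type u} [CommRing R] [CommRing S] [Algebra R S] [AddCommGroup G] [Module S G]
  [Module R G] [IsScalarTower R S G]

/-- `(S_k)` does not see a surjection of rings. -/
theorem hasSk_of_surjective_iff [IsNoetherianRing R] [Module.Finite R G]
    (hf : Surjective (algebraMap R S)) (k : ℕ) :
    _root_.LocCoh.HasSk k R G ↔ _root_.LocCoh.HasSk k S G := by
  haveI := isNoetherianRing_of_surjective R S _ hf
  refine ⟨(Groth.Agent.S4719.result k R S G).1, (Groth.Agent.S4719.result k R S G).2 ?_⟩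
  intro q _ q' _ h
  have : q = q' := PrimeSpectrum.ext (Ideal.comap_injective_of_surjective _ hf h)
  rw [this]

theorem annihilator_eq_comap :
    Module.annihilator R G = (Module.annihilator S G).comap (algebraMap R S) := by
  ext x
  simp only [Ideal.mem_comap, Module.mem_annihilator, algebraMap_smul]

theorem isEquidimModule_of_surjective_iff [Module.Finite S G] (hf : Surjective (algebraMap R S)) :
    EGA4.IsEquidimModule R G ↔ EGA4.IsEquidimModule S G := by
  rw [EGA4.IsEquidimModule, EGA4.IsEquidimModule, annihilator_eq_comap (R := R) (S := S),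
    Ideal.comap_minimalPrimes_eq_of_surjective hf, Set.forall_mem_image,
    CommAlg6.supportDim_of_surjective hf G]
  refine forall₂_congr fun P _ => ?_
  have hg : Surjective ((Ideal.Quotient.mk P).comp (algebraMap R S)) :=
    Ideal.Quotient.mk_surjective.comp hf
  rw [ringKrullDim_eq_of_ringEquiv ((Ideal.quotEquivOfEq (show P.comap (algebraMap R S) =
      RingHom.ker ((Ideal.Quotient.mk P).comp (algebraMap R S)) by
        rw [← RingHom.comap_ker, Ideal.mk_ker])).trans (RingHom.quotientKerEquivOfSurjective hg))]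

/-- Equidimensional means: all minimal primes of the support have the same coheight. -/
theorem isEquidimModule_iff_forall [IsNoetherianRing R] [Module.Finite R G] :
    EGA4.IsEquidimModule R G ↔ ∀ P ∈ (Module.annihilator R G).minimalPrimes,
      ∀ P' ∈ (Module.annihilator R G).minimalPrimes, ringKrullDim (R ⧸ P) = ringKrullDim (R ⧸ P') := by
  refine ⟨fun h P hP P' hP' => (h P hP).trans (h P' hP').symm, fun h P hP => le_antisymm ?_ ?_⟩
  · rw [Module.supportDim_eq_ringKrullDim_quotient_annihilator]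
    exact ringKrullDim_le_of_surjective _ (Ideal.Quotient.factor_surjective hP.1.2)
  · rw [Module.supportDim_eq_ringKrullDim_quotient_annihilator, ringKrullDim_quotient,
      Order.krullDim]
    refine iSup_le fun s => ?_
    obtain ⟨P', hP', hle⟩ := Ideal.exists_minimalPrimes_le (J := s.head.1.asIdeal) s.head.2
    have hmem : ∀ i, (s i).1 ∈ PrimeSpectrum.zeroLocus (P' : Set R) := fun i =>
      hle.trans (show s.head.1 ≤ (s i).1 from s.head_le i)
    let t : LTSeries (PrimeSpectrum.zeroLocus (P' : Set R)) :=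
      ⟨s.length, fun i => ⟨(s i).1, hmem i⟩, s.step⟩
    rw [h P hP P' hP', ringKrullDim_quotient]
    exact Order.LTSeries.length_le_krullDim t

end General

variable {A P : Type u} [CommRing A] [CommRing P] [Algebra A P] [Algebra.FinitePresentation A P]
  [Module.Flat A P] {N : ℕ} (hP : HasAffineSpaceFibres A P N)
  {M : Type u} [AddCommGroup M] [Module P M] [Module.FinitePresentation P M] [Module A M]
  [IsScalarTower A P M]
  {p : Ideal A} [p.IsPrime] {C : Type u} [CommRing C] [Algebra p.ResidueField C]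
  [Algebra P C] [Algebra A C] [IsScalarTower A p.ResidueField C] [IsScalarTower A P C]
  [Algebra.IsPushout A p.ResidueField P C] [IsRegularRing C] (hC : HeightFormula A P N C)

omit [Module A M] [IsScalarTower A P M] in
theorem nontrivial_fibMod_iff (Q : PrimeSpectrum C) :
    Nontrivial (Localization.AtPrime Q.asIdeal ⊗[P] M) ↔
      comap (algebraMap P C) Q ∈ Module.support P M := by
  rw [← not_subsingleton_iff_nontrivial, subsingleton_fibMod_iff M Q, not_not,
    Module.mem_support_iff_of_finite]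

include hP hC p in
/-- The maximal ideal is associated to `C_Q ⊗ M` iff `rect = trd` at a point of the support. -/
theorem maximalIdeal_mem_ass_iff (Q : PrimeSpectrum C) :
    maximalIdeal (Localization.AtPrime Q.asIdeal) ∈ associatedPrimes (Localization.AtPrime Q.asIdeal)
        (Localization.AtPrime Q.asIdeal ⊗[P] M) ↔
      comap (algebraMap P C) Q ∈ assSet A M := by
  by_cases hn : Nontrivial (Localization.AtPrime Q.asIdeal ⊗[P] M)
  · rw [← CAlgH3.depth_eq_zero_iff]
    simp only [assSet, Set.mem_ofPred_eq, (nontrivial_fibMod_iff Q).1 hn, true_and,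
      rect_comap (p := p) hP hC]
    constructor
    · intro h; rw [h, zero_add]
    · intro h
      exact (WithTop.add_right_inj (ENat.coe_ne_top _)).1 (h.trans (zero_add _).symm)
  · haveI := not_nontrivial_iff_subsingleton.1 hn
    rw [associatedPrimes.eq_empty_of_subsingleton]
    simp only [Set.mem_empty_iff_false, false_iff, assSet, Set.mem_ofPred_eq]
    exact fun h => hn ((nontrivial_fibMod_iff Q).2 h.1)

include hP hC p in
/-- `(S_k)` for `C_Q ⊗ M`. -/
theorem hasSk_fibMod_iff (k : ℕ) (Q : PrimeSpectrum C) :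
    _root_.LocCoh.HasSk k (Localization.AtPrime Q.asIdeal) (Localization.AtPrime Q.asIdeal ⊗[P] M) ↔
      comap (algebraMap P C) Q ∈ skLocus A M k := by
  rw [← hasSk_congr (M := LocalizedModule Q.asIdeal.primeCompl (C ⊗[P] M))
    (M' := Localization.AtPrime Q.asIdeal ⊗[P] M) (fibModEquiv M Q) k]
  change EGA4.HasSkAt k C (C ⊗[P] M) Q.asIdeal ↔ _
  rw [CommAlg6.hasSkAt_iff]
  have hp : ∀ Q' : PrimeSpectrum C, (comap (algebraMap P C) Q').asIdeal.comap (algebraMap A P) = p :=
    fun Q' => (comap_algebraMap_eq (R := P) p Q').symm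
  have key : ∀ Q' : PrimeSpectrum C,
      min (k : WithBot ℕ∞) (Module.supportDim (Localization.AtPrime Q'.asIdeal)
          (LocalizedModule Q'.asIdeal.primeCompl (C ⊗[P] M))) ≤
        ((_root_.LocCoh.depth (Localization.AtPrime Q'.asIdeal)
          (LocalizedModule Q'.asIdeal.primeCompl (C ⊗[P] M)) : ℕ∞) : WithBot ℕ∞) ↔
      comap (algebraMap P C) Q' ∉ badSet A M k := by
    intro Q'
    rw [Module.supportDim_eq_of_equiv (M := LocalizedModule Q'.asIdeal.primeCompl (C ⊗[P] M))
        (N := Localization.AtPrime Q'.asIdeal ⊗[P] M) (fibModEquiv M Q'),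
      CAlgH3.depth_congr (M := LocalizedModule Q'.asIdeal.primeCompl (C ⊗[P] M))
        (N := Localization.AtPrime Q'.asIdeal ⊗[P] M) (fibModEquiv M Q')]
    by_cases hs : comap (algebraMap P C) Q' ∈ Module.support P M
    · rw [min_le_iff, supportDim_le_depth_iff (p := p) hP hC hs]
      simp only [badSet, Set.mem_ofPred_eq, hs, true_and, not_and, not_exists, not_lt]
      rw [rect_comap (p := p) hP hC Q']
      generalize _root_.LocCoh.depth (Localization.AtPrime Q'.asIdeal)
        (Localization.AtPrime Q'.asIdeal ⊗[P] M) = δ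
      generalize trd A (comap (algebraMap P C) Q') = t
      show ((k : ℕ∞) : WithBot ℕ∞) ≤ _ ∨ _ ↔ _
      rw [WithBot.coe_le_coe, add_comm δ (t : ℕ∞)]
      have hk : (k : ℕ∞) ≤ δ ↔ ¬ (t : ℕ∞) + δ < t + k := by
        rw [not_lt]
        exact (WithTop.add_le_add_iff_left (ENat.coe_ne_top t)).symm
      rw [hk]
      tauto
    · haveI : Subsingleton (Localization.AtPrime Q'.asIdeal ⊗[P] M) :=
        not_nontrivial_iff_subsingleton.1 fun h => hs ((nontrivial_fibMod_iff Q').1 h)
      rw [Module.supportDim_eq_bot_of_subsingleton]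
      simp only [min_le_iff, bot_le, or_true, true_iff]
      exact fun h => hs h.1
  constructor
  · intro h q hgen
    obtain ⟨Q', rfl⟩ := exists_prime_over (A := A) (p := p) C q (hgen.2.trans (hp Q)).symm
    exact (key Q').1 (h Q'.asIdeal (le_of_comap_le (R := P) p hgen.1))
  · intro h P' hP' hle
    exact (key ⟨P', hP'⟩).2 (h _ ⟨fun x hx => hle hx, (hp _).trans (hp Q).symm⟩)

theorem comap_localization_eq (Q : PrimeSpectrum C) (P₁ : PrimeSpectrum (Localization.AtPrime Q.asIdeal)) :
    comap (algebraMap P (Localization.AtPrime Q.asIdeal)) P₁ =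
      comap (algebraMap P C) (comap (algebraMap C (Localization.AtPrime Q.asIdeal)) P₁) := by
  rw [← PrimeSpectrum.comap_comp_apply, ← IsScalarTower.algebraMap_eq]

omit [Module A M] [IsScalarTower A P M] in
include hC p in
/-- Coheights in `C_Q`. -/
theorem minimal_dim (Q : PrimeSpectrum C) {P₁ : Ideal (Localization.AtPrime Q.asIdeal)}
    (hP₁ : P₁.IsPrime) :
    ringKrullDim (Localization.AtPrime Q.asIdeal ⧸ P₁) +
        (trd A (comap (algebraMap P C) Q) : WithBot ℕ∞) =
      (trd A (comap (algebraMap P (Localization.AtPrime Q.asIdeal)) ⟨P₁, hP₁⟩) : WithBot ℕ∞) := by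
  haveI : IsRegularLocalRing (Localization.AtPrime Q.asIdeal) :=
    IsRegularRing.isRegularLocalRing_localization _
  haveI := CAlgH3.isCohenMacaulayLocalRing_of_regular (Localization.AtPrime Q.asIdeal)
  obtain ⟨a, ha, ha'⟩ := hC (comap (algebraMap C (Localization.AtPrime Q.asIdeal)) ⟨P₁, hP₁⟩)
  obtain ⟨b, hb, hb'⟩ := hC Q
  rw [← comap_localization_eq] at ha'
  have h1 := CAlgH3.height_add_ringKrullDim_quotient P₁
  rw [IsLocalization.AtPrime.ringKrullDim_eq_height Q.asIdeal (Localization.AtPrime Q.asIdeal), hb,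
    ← IsLocalization.height_under Q.asIdeal.primeCompl P₁] at h1
  change ((Ideal.height (comap (algebraMap C (Localization.AtPrime Q.asIdeal)) ⟨P₁, hP₁⟩).asIdeal : ℕ∞) :
    WithBot ℕ∞) + _ = _ at h1
  rw [ha] at h1
  haveI : Nontrivial (Localization.AtPrime Q.asIdeal ⧸ P₁) := Ideal.Quotient.nontrivial_iff.2 hP₁.ne_top
  haveI : IsLocalRing (Localization.AtPrime Q.asIdeal ⧸ P₁) := .of_surjective' _ Ideal.Quotient.mk_surjective
  obtain ⟨d, hd⟩ := CommAlg6.exists_nat_ringKrullDim_eq (Localization.AtPrime Q.asIdeal ⧸ P₁)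
  rw [hd] at h1 ⊢
  have h2 : a + d = b := by exact_mod_cast h1
  exact_mod_cast (show d + trd A (comap (algebraMap P C) Q) =
    trd A (comap (algebraMap P (Localization.AtPrime Q.asIdeal)) ⟨P₁, hP₁⟩) by omega)

omit [Module A M] [IsScalarTower A P M] in
include hC p in
/-- The minimal primes of the support of `C_Q ⊗ M` and their coheights. -/
theorem minimalPrimes_fibMod (Q : PrimeSpectrum C) (w : PrimeSpectrum P) :
    (FibGen A w (comap (algebraMap P C) Q) ∧ w ∈ Module.support P M ∧
      ∀ q', FibGen A q' w → q' ∈ Module.support P M → q' = w) ↔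
    ∃ P₁ ∈ (Module.annihilator (Localization.AtPrime Q.asIdeal)
        (Localization.AtPrime Q.asIdeal ⊗[P] M)).minimalPrimes, ∃ _ : P₁.IsPrime,
      P₁.comap (algebraMap P (Localization.AtPrime Q.asIdeal)) = w.asIdeal ∧
      ringKrullDim (Localization.AtPrime Q.asIdeal ⧸ P₁) + (trd A (comap (algebraMap P C) Q) : WithBot ℕ∞) =
        (trd A w : WithBot ℕ∞) := by
  haveI : IsRegularLocalRing (Localization.AtPrime Q.asIdeal) :=
    IsRegularRing.isRegularLocalRing_localization _
  haveI := CAlgH3.isCohenMacaulayLocalRing_of_regular (Localization.AtPrime Q.asIdeal)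
  have hp : ∀ Q' : PrimeSpectrum C, (comap (algebraMap P C) Q').asIdeal.comap (algebraMap A P) = p :=
    fun Q' => (comap_algebraMap_eq (R := P) p Q').symm
  have hsupp : ∀ P₁ : PrimeSpectrum (Localization.AtPrime Q.asIdeal),
      Module.annihilator (Localization.AtPrime Q.asIdeal) (Localization.AtPrime Q.asIdeal ⊗[P] M) ≤
          P₁.asIdeal ↔
        comap (algebraMap P (Localization.AtPrime Q.asIdeal)) P₁ ∈ Module.support P M := fun P₁ => by
    rw [← Module.mem_support_iff_of_finite]
    exact FlatCrit.mem_support_baseChange_iff M P₁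
  have hcomap := fun P₁ => comap_localization_eq (P := P) Q P₁
  have hdim := fun P₁ : PrimeSpectrum (Localization.AtPrime Q.asIdeal) =>
    minimal_dim (p := p) hC Q P₁.isPrime
  constructor
  · rintro ⟨hgen, hw, hmin⟩
    obtain ⟨Q', rfl⟩ := exists_prime_over (A := A) (p := p) C w (hgen.2.trans (hp Q)).symm
    obtain ⟨P₁, hP₁, hPQ⟩ := CommAlg6.exists_under_eq Q.asIdeal Q'.asIdeal
      (le_of_comap_le (R := P) p hgen.1)
    have hc : comap (algebraMap P (Localization.AtPrime Q.asIdeal)) ⟨P₁, hP₁⟩ =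
        comap (algebraMap P C) Q' := by
      rw [hcomap]; exact congrArg _ (PrimeSpectrum.ext hPQ)
    refine ⟨P₁, ⟨⟨hP₁, (hsupp ⟨P₁, hP₁⟩).2 (by rw [hc]; exact hw)⟩, fun J hJ hJle => ?_⟩, hP₁,
      congrArg PrimeSpectrum.asIdeal hc, (hdim ⟨P₁, hP₁⟩).trans (by rw [hc])⟩
    obtain ⟨hJp, hJann⟩ := hJ
    have hq' := hmin (comap (algebraMap P (Localization.AtPrime Q.asIdeal)) ⟨J, hJp⟩)
      ⟨by rw [← hc]; exact Ideal.comap_mono hJle, by rw [hcomap, hp, hp]⟩ ((hsupp ⟨J, hJp⟩).1 hJann)
    rw [← hc, hcomap, hcomap] at hq'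
    have h3 := le_of_comap_le (R := P) p
      (Q' := comap (algebraMap C (Localization.AtPrime Q.asIdeal)) ⟨P₁, hP₁⟩)
      (Q := comap (algebraMap C (Localization.AtPrime Q.asIdeal)) ⟨J, hJp⟩)
      (congrArg PrimeSpectrum.asIdeal hq').ge
    have h4 : P₁ = (P₁.under C).map (algebraMap C _) :=
      (IsLocalization.map_under Q.asIdeal.primeCompl (Localization.AtPrime Q.asIdeal) P₁).symm
    rw [h4, ← IsLocalization.map_under Q.asIdeal.primeCompl (Localization.AtPrime Q.asIdeal) J]
    exact Ideal.map_mono h3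
  · rintro ⟨P₁, hmin, hP₁, hc, -⟩
    have hw : w = comap (algebraMap P (Localization.AtPrime Q.asIdeal)) ⟨P₁, hP₁⟩ :=
      PrimeSpectrum.ext hc.symm
    subst hw
    refine ⟨⟨?_, by rw [hcomap, hp, hp]⟩, (hsupp ⟨P₁, hP₁⟩).1 hmin.1.2, fun q' hgen hs => ?_⟩
    · rw [hcomap]
      exact Ideal.comap_mono (CommAlg6.under_le Q.asIdeal P₁)
    · obtain ⟨Q', rfl⟩ := exists_prime_over (A := A) (p := p) C q'
        (hgen.2.trans (by rw [hcomap, hp])).symm
      have hle : Q'.asIdeal ≤ (comap (algebraMap C (Localization.AtPrime Q.asIdeal)) ⟨P₁, hP₁⟩).asIdeal :=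
        le_of_comap_le (R := P) p (by rw [← hcomap]; exact hgen.1)
      obtain ⟨P₂, hP₂, hPQ⟩ := CommAlg6.exists_under_eq Q.asIdeal Q'.asIdeal
        (hle.trans (CommAlg6.under_le Q.asIdeal P₁))
      have hc₂ : comap (algebraMap P (Localization.AtPrime Q.asIdeal)) ⟨P₂, hP₂⟩ =
          comap (algebraMap P C) Q' := by
        rw [hcomap]; exact congrArg _ (PrimeSpectrum.ext hPQ)
      have hle' : P₂ ≤ P₁ := by
        rw [← IsLocalization.map_under Q.asIdeal.primeCompl (Localization.AtPrime Q.asIdeal) P₂, hPQ,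
          ← IsLocalization.map_under Q.asIdeal.primeCompl (Localization.AtPrime Q.asIdeal) P₁]
        exact Ideal.map_mono hle
      have : P₁ = P₂ := le_antisymm (hmin.2 ⟨hP₂, (hsupp ⟨P₂, hP₂⟩).2 (by rw [hc₂]; exact hs)⟩ hle') hle'
      rw [← hc₂]
      exact PrimeSpectrum.ext (congrArg (Ideal.comap _) this.symm)

omit [Module A M] [IsScalarTower A P M] in
include hC p in
/-- Equidimensionality of `C_Q ⊗ M`. -/
theorem isEquidimModule_fibMod_iff (Q : PrimeSpectrum C) :
    EGA4.IsEquidimModule (Localization.AtPrime Q.asIdeal) (Localization.AtPrime Q.asIdeal ⊗[P] M) ↔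
      ∀ n m : ℕ, comap (algebraMap P C) Q ∈ compSet A M n → comap (algebraMap P C) Q ∈ compSet A M m →
        n = m := by
  rw [isEquidimModule_iff_forall]
  constructor
  · rintro h n m ⟨w, hw, hws, rfl, hwmin⟩ ⟨v, hv, hvs, rfl, hvmin⟩
    obtain ⟨P₁, hP₁, -, -, h₁⟩ := (minimalPrimes_fibMod (p := p) hC Q w).1 ⟨hw, hws, hwmin⟩
    obtain ⟨P₂, hP₂, -, -, h₂⟩ := (minimalPrimes_fibMod (p := p) hC Q v).1 ⟨hv, hvs, hvmin⟩
    rw [h P₁ hP₁ P₂ hP₂] at h₁
    exact_mod_cast h₁.symm.trans h₂
  · intro h P₁ hP₁ P₂ hP₂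
    have key : ∀ P' ∈ (Module.annihilator (Localization.AtPrime Q.asIdeal)
        (Localization.AtPrime Q.asIdeal ⊗[P] M)).minimalPrimes, ∃ n : ℕ,
        comap (algebraMap P C) Q ∈ compSet A M n ∧
          ringKrullDim (Localization.AtPrime Q.asIdeal ⧸ P') +
            (trd A (comap (algebraMap P C) Q) : WithBot ℕ∞) = (n : WithBot ℕ∞) := by
      intro P' hP'
      let w := comap (algebraMap P (Localization.AtPrime Q.asIdeal)) ⟨P', hP'.1.1⟩
      -- the dimension is the one of the criterion
      obtain ⟨hw, hws, hwmin⟩ := (minimalPrimes_fibMod (p := p) hC Q w).2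
        ⟨P', hP', hP'.1.1, rfl, minimal_dim (p := p) hC Q hP'.1.1⟩
      exact ⟨_, ⟨w, hw, hws, rfl, hwmin⟩, minimal_dim (p := p) hC Q hP'.1.1⟩
    obtain ⟨n, hn, h₁⟩ := key P₁ hP₁
    obtain ⟨m, hm, h₂⟩ := key P₂ hP₂
    rw [h n m hn hm] at h₁
    haveI := hP₁.1.1
    haveI := hP₂.1.1
    haveI : Nontrivial (Localization.AtPrime Q.asIdeal ⧸ P₁) := Ideal.Quotient.nontrivial_iff.2 hP₁.1.1.ne_top
    haveI : IsLocalRing (Localization.AtPrime Q.asIdeal ⧸ P₁) := .of_surjective' _ Ideal.Quotient.mk_surjective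
    obtain ⟨d₁, hd₁⟩ := CommAlg6.exists_nat_ringKrullDim_eq (Localization.AtPrime Q.asIdeal ⧸ P₁)
    haveI : Nontrivial (Localization.AtPrime Q.asIdeal ⧸ P₂) := Ideal.Quotient.nontrivial_iff.2 hP₂.1.1.ne_top
    haveI : IsLocalRing (Localization.AtPrime Q.asIdeal ⧸ P₂) := .of_surjective' _ Ideal.Quotient.mk_surjective
    obtain ⟨d₂, hd₂⟩ := CommAlg6.exists_nat_ringKrullDim_eq (Localization.AtPrime Q.asIdeal ⧸ P₂)
    rw [hd₁] at h₁ ⊢
    rw [hd₂] at h₂ ⊢
    have e₁ : d₁ + trd A (comap (algebraMap P C) Q) = m := by exact_mod_cast h₁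
    have e₂ : d₂ + trd A (comap (algebraMap P C) Q) = m := by exact_mod_cast h₂
    rw [show d₁ = d₂ by omega]

end Groth.Agent.EGA43.FibDepth
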