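import Groth.Agent.DimLib.Points
import Mathlib.RingTheory.LocalRing.ResidueField.Fiber
import Mathlib.RingTheory.SurjectiveOnStalks
import Mathlib.RingTheory.FiniteType
import Mathlib.RingTheory.IsTensorProduct

/-!
# Rings of fibres

`C` is a pushout of `κ(p)` and an `A`-algebra `R`: primes, residue fields and dimensions.
`trd A q` is the transcendence degree of `κ(q)` over `κ(q ∩ A)`.
-/

set_option autoImplicit false
set_option backward.isDefEq.respectTransparency false

universe u

open TensorProduct Function

namespace Groth.Agent.EGA43.FibDepth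

/-- The transcendence degree of `κ(q)` over `κ(q ∩ A)`. -/
noncomputable def trd (A : Type u) {R : Type u} [CommRing A] [CommRing R] [Algebra A R]
    (q : PrimeSpectrum R) : ℕ :=
  DimLib.trdegHom
    (Ideal.ResidueField.map (q.asIdeal.comap (algebraMap A R)) q.asIdeal (algebraMap A R) rfl)

variable {A R : Type u} [CommRing A] [CommRing R] [Algebra A R]

theorem trd_eq_trdegHom (q : PrimeSpectrum R) {p : Ideal A} [p.IsPrime]
    (hp : p = q.asIdeal.comap (algebraMap A R)) :
    trd A q = DimLib.trdegHom (Ideal.ResidueField.map p q.asIdeal (algebraMap A R) hp) := by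
  subst hp; rfl

/-- `trd` is insensitive to maps surjective on stalks. -/
theorem trd_comap_of_surjectiveOnStalks {R' : Type u} [CommRing R'] [Algebra A R'] (φ : R →ₐ[A] R')
    (hφ : φ.toRingHom.SurjectiveOnStalks) (q : PrimeSpectrum R') :
    trd A (PrimeSpectrum.comap φ.toRingHom q) = trd A q := by
  let q₀ := PrimeSpectrum.comap φ.toRingHom q
  have hp : q.asIdeal.comap (algebraMap A R') = q₀.asIdeal.comap (algebraMap A R) := by
    show _ = Ideal.comap (algebraMap A R) (Ideal.comap φ.toRingHom q.asIdeal)
    rw [Ideal.comap_comap, ← φ.comp_algebraMap]; rfl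
  rw [trd_eq_trdegHom q hp.symm]
  let e := RingEquiv.ofBijective _ (hφ.residueFieldMap_bijective q₀.asIdeal q.asIdeal rfl)
  rw [trd_eq_trdegHom q₀ (rfl : q₀.asIdeal.comap (algebraMap A R) = _),
    ← DimLib.trdegHom_comp_ringEquiv _ e]
  congr 1
  refine Ideal.ResidueField.ringHom_ext (RingHom.ext fun a => ?_)
  simp [e, Ideal.ResidueField.map_algebraMap, φ.commutes]

section Pushout

variable {p : Ideal A} [p.IsPrime] {C : Type u} [CommRing C] [Algebra p.ResidueField C]
  [Algebra R C] [Algebra A C] [IsScalarTower A p.ResidueField C] [IsScalarTower A R C]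
  [Algebra.IsPushout A p.ResidueField R C]

omit [Algebra R C] [IsScalarTower A R C] [Algebra.IsPushout A p.ResidueField R C] in
theorem isUnit_algebraMap {r : A} (hr : r ∉ p) : IsUnit (algebraMap A C r) := by
  rw [IsScalarTower.algebraMap_apply A p.ResidueField C]
  exact (IsUnit.mk0 _ fun h => hr (Ideal.algebraMap_residueField_eq_zero.1 h)).map _

omit [Algebra R C] [IsScalarTower A R C] [Algebra.IsPushout A p.ResidueField R C] in
theorem algebraMap_eq_zero {r : A} (hr : r ∈ p) : algebraMap A C r = 0 := by
  rw [IsScalarTower.algebraMap_apply A p.ResidueField C, Ideal.algebraMap_residueField_eq_zero.2 hr,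
    map_zero]

variable (R p) in
/-- Every element of the fibre ring is a fraction with denominator in `A - p`. -/
theorem exists_smul_eq_map (c : C) :
    ∃ r ∉ p, ∃ b : R, algebraMap A C r * c = algebraMap R C b := by
  let e := Algebra.IsPushout.equiv A p.ResidueField R C
  obtain ⟨r, hr, b, h⟩ := Ideal.Fiber.exists_smul_eq_one_tmul (p := p) (e.symm c)
  refine ⟨r, hr, b, ?_⟩
  have := congrArg e h
  rw [LinearMapClass.map_smul_of_tower, e.apply_symm_apply, Algebra.IsPushout.equiv_tmul,
    map_one, one_mul, Algebra.smul_def] at this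
  exact this

variable (p) in
include p in
theorem surjectiveOnStalks_algebraMap : (algebraMap R C).SurjectiveOnStalks := by
  refine RingHom.surjectiveOnStalks_of_exists_div fun c => ?_
  obtain ⟨r, hr, b, h⟩ := exists_smul_eq_map R p c
  exact ⟨b, algebraMap A R r, by rw [← IsScalarTower.algebraMap_apply]; exact isUnit_algebraMap hr,
    by rw [← IsScalarTower.algebraMap_apply]; exact h⟩

variable (p) in
include p in
theorem comap_algebraMap_eq (Q : PrimeSpectrum C) :
    p = (PrimeSpectrum.comap (algebraMap R C) Q).asIdeal.comap (algebraMap A R) := by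
  ext a
  rw [PrimeSpectrum.comap_asIdeal, Ideal.mem_comap, Ideal.mem_comap,
    ← IsScalarTower.algebraMap_apply]
  refine ⟨fun h => by rw [algebraMap_eq_zero h]; exact zero_mem _, fun h => ?_⟩
  by_contra ha
  exact Q.isPrime.ne_top (Ideal.eq_top_of_isUnit_mem _ h (isUnit_algebraMap ha))

variable (p) in
include p in
theorem le_of_comap_le {Q' Q : PrimeSpectrum C}
    (h : (PrimeSpectrum.comap (algebraMap R C) Q').asIdeal ≤
      (PrimeSpectrum.comap (algebraMap R C) Q).asIdeal) : Q'.asIdeal ≤ Q.asIdeal := by
  intro c hc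
  obtain ⟨r, hr, b, hb⟩ := exists_smul_eq_map R p c
  have : algebraMap R C b ∈ Q.asIdeal := h (show algebraMap R C b ∈ Q'.asIdeal by
    rw [← hb]; exact Ideal.mul_mem_left _ _ hc)
  rw [← hb] at this
  exact (Q.isPrime.mem_or_mem this).resolve_left fun h' =>
    Q.isPrime.ne_top (Ideal.eq_top_of_isUnit_mem _ h' (isUnit_algebraMap hr))

variable (C) in
/-- Every prime of `R` over `p` comes from the fibre ring. -/
theorem exists_prime_over (q : PrimeSpectrum R) (hq : p = q.asIdeal.comap (algebraMap A R)) :
    ∃ Q : PrimeSpectrum C, PrimeSpectrum.comap (algebraMap R C) Q = q := by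
  let g : p.ResidueField →ₐ[A] q.asIdeal.ResidueField :=
    Ideal.ResidueField.mapₐ p q.asIdeal (Algebra.ofId A R) hq
  let l : p.ResidueField ⊗[A] R →ₐ[A] q.asIdeal.ResidueField :=
    Algebra.TensorProduct.lift g (IsScalarTower.toAlgHom A R q.asIdeal.ResidueField)
      fun _ _ => Commute.all _ _
  let φ : C →+* q.asIdeal.ResidueField :=
    l.toRingHom.comp (Algebra.IsPushout.equiv A p.ResidueField R C).symm.toRingEquiv.toRingHom
  refine ⟨⟨RingHom.ker φ, RingHom.ker_isPrime _⟩, PrimeSpectrum.ext (Ideal.ext fun b => ?_)⟩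
  show φ (algebraMap R C b) = 0 ↔ b ∈ q.asIdeal
  have : φ (algebraMap R C b) = algebraMap R q.asIdeal.ResidueField b := by
    show l ((Algebra.IsPushout.equiv A p.ResidueField R C).symm (algebraMap R C b)) = _
    rw [Algebra.IsPushout.equiv_symm_algebraMap_right]
    simp [l]
  rw [this, Ideal.algebraMap_residueField_eq_zero]

variable (p C) in
theorem finiteType_fibre [Algebra.FiniteType A R] : Algebra.FiniteType p.ResidueField C :=
  Algebra.FiniteType.equiv inferInstance (Algebra.IsPushout.equiv A p.ResidueField R C)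

variable (p) in
include p in
/-- In the fibre ring, `dim C/Q` is the transcendence degree. -/
theorem ringKrullDim_quotient_eq_trd [Algebra.FiniteType A R] (Q : PrimeSpectrum C) :
    ringKrullDim (C ⧸ Q.asIdeal) =
      (trd A (PrimeSpectrum.comap (algebraMap R C) Q) : WithBot ℕ∞) := by
  have := finiteType_fibre (A := A) (R := R) p C
  let q := PrimeSpectrum.comap (algebraMap R C) Q
  rw [DimLib.ringKrullDim_eq_trdeg (k := p.ResidueField),
    trd_eq_trdegHom q (comap_algebraMap_eq p Q)]
  let e := RingEquiv.ofBijective _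
    ((surjectiveOnStalks_algebraMap (R := R) p).residueFieldMap_bijective q.asIdeal Q.asIdeal rfl)
  rw [← DimLib.trdegHom_comp_ringEquiv _ e, show (e : _ →+* _).comp (Ideal.ResidueField.map p
      q.asIdeal (algebraMap A R) (comap_algebraMap_eq p Q)) =
      algebraMap p.ResidueField Q.asIdeal.ResidueField from ?_, DimLib.trdegHom_algebraMap]
  · have h0 : Algebra.trdeg (C ⧸ Q.asIdeal) Q.asIdeal.ResidueField = 0 := by
      have : Algebra.IsAlgebraic (C ⧸ Q.asIdeal) Q.asIdeal.ResidueField :=
        IsLocalization.isAlgebraic _ (nonZeroDivisors (C ⧸ Q.asIdeal))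
      exact trdeg_eq_zero
    have := trdeg_add_eq p.ResidueField (C ⧸ Q.asIdeal) (A := Q.asIdeal.ResidueField)
    rw [h0, add_zero] at this
    rw [this]
  · refine Ideal.ResidueField.ringHom_ext (RingHom.ext fun a => ?_)
    simp only [RingHom.comp_apply, Ideal.ResidueField.map_algebraMap, RingHom.coe_coe]
    show Ideal.ResidueField.map q.asIdeal Q.asIdeal (algebraMap R C) rfl
      (algebraMap R q.asIdeal.ResidueField (algebraMap A R a)) = _
    rw [Ideal.ResidueField.map_algebraMap, ← IsScalarTower.algebraMap_apply A R C,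
      IsScalarTower.algebraMap_apply A p.ResidueField C, ← IsScalarTower.algebraMap_apply]

end Pushout

end Groth.Agent.EGA43.FibDepth
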