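import Groth.Agent.EGA43.FibDepth.ConsAffine
import Groth.Agent.CommAlg6.SerreOne

/-!
# Rectified depth on the fibres of an affine space, as a function on `Spec P`

`rect q = depth + trd` at `q` in its fibre.  Level sets are constructible; `rect ≥ n` is open when
the module is flat.  Serre's conditions and the associated points of the fibres are expressed with
`rect`, `trd` and the support, and their loci are open under flatness.
-/

set_option autoImplicit false
set_option backward.isDefEq.respectTransparency false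
set_option linter.style.haveILetI false

universe u

open TensorProduct Function PrimeSpectrum Topology

namespace Groth.Agent.EGA43.FibDepth

open Groth.Agent

attribute [local instance] Algebra.TensorProduct.rightAlgebra

section Def

variable (A : Type u) {P : Type u} [CommRing A] [CommRing P] [Algebra A P] (M : Type u)
  [AddCommGroup M] [Module P M]

/-- The prime of the fibre ring over `q`. -/
noncomputable def fibPoint (q : PrimeSpectrum P) :
    PrimeSpectrum ((q.asIdeal.comap (algebraMap A P)).Fiber P) :=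
  (exists_prime_over (A := A) (p := q.asIdeal.comap (algebraMap A P))
    ((q.asIdeal.comap (algebraMap A P)).Fiber P) q rfl).choose

theorem comap_fibPoint (q : PrimeSpectrum P) :
    comap (algebraMap P ((q.asIdeal.comap (algebraMap A P)).Fiber P)) (fibPoint A q) = q :=
  (exists_prime_over (A := A) (p := q.asIdeal.comap (algebraMap A P))
    ((q.asIdeal.comap (algebraMap A P)).Fiber P) q rfl).choose_spec

/-- The rectified depth `depth + trd` of the fibre of `M` at `q`. -/
noncomputable def rect (q : PrimeSpectrum P) : ℕ∞ :=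
  _root_.LocCoh.depth (Localization.AtPrime (fibPoint A q).asIdeal)
    (Localization.AtPrime (fibPoint A q).asIdeal ⊗[P] M) + (trd A q : ℕ∞)

/-- Generisations in the fibre. -/
def FibGen (q' q : PrimeSpectrum P) : Prop :=
  q'.asIdeal ≤ q.asIdeal ∧ q'.asIdeal.comap (algebraMap A P) = q.asIdeal.comap (algebraMap A P)

variable {A M}

theorem FibGen.refl (q : PrimeSpectrum P) : FibGen A q q := ⟨le_rfl, rfl⟩

theorem FibGen.trans {q₁ q₂ q₃ : PrimeSpectrum P} (h : FibGen A q₁ q₂) (h' : FibGen A q₂ q₃) :
    FibGen A q₁ q₃ := ⟨h.1.trans h'.1, h.2.trans h'.2⟩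

variable (A)

/-- The primes having a generisation in their fibre in `W` with `trd ≥ c`. -/
def trdGE (W : Set (PrimeSpectrum P)) (c : ℕ) : Set (PrimeSpectrum P) :=
  {x | ∃ q, FibGen A q x ∧ q ∈ W ∧ c ≤ trd A q}

theorem isConstructible_trdGE [Algebra.FinitePresentation A P] {W : Set (PrimeSpectrum P)}
    (hW : IsConstructible W) (c : ℕ) : IsConstructible (trdGE A W c) := by
  cases c with
  | zero =>
    convert Cons.isConstructible_fibreClosure (A := A) hW using 1
    ext x
    exact ⟨fun ⟨q, h, hq, _⟩ => ⟨q, hq, h.1, PrimeSpectrum.ext h.2⟩,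
      fun ⟨q, hq, h₁, h₂⟩ => ⟨q, ⟨h₁, congrArg PrimeSpectrum.asIdeal h₂⟩, hq, Nat.zero_le _⟩⟩
  | succ c =>
    convert (isConstructible_trdLocus (A := A) hW c).compl using 1
    ext x
    simp only [trdGE, trdLocus, Set.mem_compl_iff, Set.mem_ofPred_eq]
    push Not
    exact ⟨fun ⟨q, h, hq, hc⟩ => ⟨q, h.1, h.2, hq, by omega⟩,
      fun ⟨q, h₁, h₂, hq, hc⟩ => ⟨q, ⟨h₁, h₂⟩, hq, by omega⟩⟩

end Def

variable {A P : Type u} [CommRing A] [CommRing P] [Algebra A P] [Algebra.FinitePresentation A P]
  [Module.Flat A P] {N : ℕ} (hP : HasAffineSpaceFibres A P N)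
  {M : Type u} [AddCommGroup M] [Module P M] [Module.FinitePresentation P M] [Module A M]
  [IsScalarTower A P M]

section AnyFibre

variable {p : Ideal A} [p.IsPrime] {C : Type u} [CommRing C] [Algebra p.ResidueField C]
  [Algebra P C] [Algebra A C] [IsScalarTower A p.ResidueField C] [IsScalarTower A P C]
  [Algebra.IsPushout A p.ResidueField P C] [IsRegularRing C] (hC : HeightFormula A P N C)

include p hP hC in
/-- `rect` is computed by any fibre ring. -/
theorem rect_comap (Q : PrimeSpectrum C) :
    rect A M (comap (algebraMap P C) Q) =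
      _root_.LocCoh.depth (Localization.AtPrime Q.asIdeal) (Localization.AtPrime Q.asIdeal ⊗[P] M) +
        (trd A (comap (algebraMap P C) Q) : ℕ∞) := by
  let q := comap (algebraMap P C) Q
  refine ENat.eq_of_forall_natCast_le_iff fun n => ?_
  obtain ⟨W, -, hiff⟩ := exists_isConstructible_rectifiedDepth A P N M n
  let p' := q.asIdeal.comap (algebraMap A P)
  haveI := isRegularRing_fiber hP p'
  have h1 := hiff p' (p'.Fiber P) (heightFormula_fiber hP p') (fibPoint A q)
  have h2 := hiff p C hC Q
  rw [ringKrullDim_quotient_eq_trd (R := P) p' (fibPoint A q), comap_fibPoint] at h1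
  rw [ringKrullDim_quotient_eq_trd (R := P) p Q] at h2
  rw [rect]
  have key : ∀ x y : ℕ∞, (n : ℕ∞) ≤ x + y ↔ (n : WithBot ℕ∞) ≤ (x : WithBot ℕ∞) + (y : WithBot ℕ∞) :=
    fun x y => by
      show _ ↔ (((n : ℕ∞)) : WithBot ℕ∞) ≤ _
      rw [← WithBot.coe_add, WithBot.coe_le_coe]
  rw [key, key]
  exact (h1.trans h2.symm)

include hC in
/-- `trd` strictly decreases along strict inclusions in a fibre. -/
theorem trd_lt_of_lt {Q' Q : PrimeSpectrum C} (h : Q' < Q) :
    trd A (comap (algebraMap P C) Q) < trd A (comap (algebraMap P C) Q') := by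
  obtain ⟨a, ha, ha'⟩ := hC Q'
  obtain ⟨b, hb, hb'⟩ := hC Q
  have hlt : Q'.asIdeal < Q.asIdeal := h
  have : Q'.asIdeal.FiniteHeight := ⟨Or.inr (by rw [ha]; exact ENat.coe_ne_top a)⟩
  have := Ideal.height_strict_mono_of_isPrime hlt
  rw [ha, hb, Nat.cast_lt] at this
  omega

end AnyFibre

omit [Module.FinitePresentation P M] [Module A M] [IsScalarTower A P M] in
include hP in
theorem FibGen.trd_lt {q' q : PrimeSpectrum P} (h : FibGen A q' q) (hne : q' ≠ q) :
    trd A q < trd A q' := by
  let p := q.asIdeal.comap (algebraMap A P)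
  haveI := isRegularRing_fiber hP p
  obtain ⟨Q, hQ⟩ := exists_prime_over (A := A) (p := p) (p.Fiber P) q rfl
  obtain ⟨Q', hQ'⟩ := exists_prime_over (A := A) (p := p) (p.Fiber P) q' h.2.symm
  have := trd_lt_of_lt (heightFormula_fiber hP p) (lt_of_le_of_ne
    (show Q' ≤ Q from le_of_comap_le (R := P) p (by rw [hQ, hQ']; exact h.1))
    (fun e => hne (by rw [← hQ, ← hQ', e])))
  rwa [hQ, hQ'] at this

variable (A M) in
omit [Algebra.FinitePresentation A P] [Module.Flat A P] [Module.FinitePresentation P M] [Module A M]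
  [IsScalarTower A P M] in
theorem trd_le_rect (q : PrimeSpectrum P) : (trd A q : ℕ∞) ≤ rect A M q := le_add_self

include hP in
theorem rect_le_of_mem_support {q : PrimeSpectrum P} (hq : q ∈ Module.support P M) :
    rect A M q ≤ N := by
  let p := q.asIdeal.comap (algebraMap A P)
  haveI := isRegularRing_fiber hP p
  have h := natCast_le_depth_add_iff M p (fibPoint A q) (heightFormula_fiber hP p) (N + 1)
  rw [ringKrullDim_quotient_eq_trd (R := P) p (fibPoint A q), comap_fibPoint,
    subsingleton_fibMod_iff M (fibPoint A q), comap_fibPoint,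
    ← Module.mem_support_iff_of_finite] at h
  refine ENat.lt_natCast_add_one_iff.1 (not_le.1 fun hle => ?_)
  have h' := h.1 (by
    rw [← WithBot.coe_natCast (N + 1), ← WithBot.coe_natCast (trd A q), ← WithBot.coe_add,
      WithBot.coe_le_coe, Nat.cast_add, Nat.cast_one]
    exact hle)
  rcases h' with h' | ⟨h', -⟩
  · exact h' hq
  · omega

include hP in
theorem exists_rect_eq {q : PrimeSpectrum P} (hq : q ∈ Module.support P M) :
    ∃ r : ℕ, rect A M q = r ∧ trd A q ≤ r ∧ r ≤ N := by
  have h1 := rect_le_of_mem_support hP hq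
  obtain ⟨r, hr⟩ := ENat.ne_top_iff_exists.1 (ne_top_of_le_ne_top (ENat.coe_ne_top N) h1)
  rw [← hr] at h1
  refine ⟨r, hr.symm, ?_, Nat.cast_le.1 h1⟩
  have := trd_le_rect A M q
  rw [← hr] at this
  exact Nat.cast_le.1 this

include hP in
theorem isConstructible_setOf_natCast_le_rect (n : ℕ) :
    IsConstructible {q : PrimeSpectrum P | (n : ℕ∞) ≤ rect A M q} := by
  obtain ⟨W, hW, hiff⟩ := exists_isConstructible_rectifiedDepth A P N M n
  convert hW using 1
  ext q
  let p := q.asIdeal.comap (algebraMap A P)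
  haveI := isRegularRing_fiber hP p
  have h := hiff p (p.Fiber P) (heightFormula_fiber hP p) (fibPoint A q)
  rw [ringKrullDim_quotient_eq_trd (R := P) p (fibPoint A q), comap_fibPoint,
    ← WithBot.coe_natCast n, ← WithBot.coe_natCast (trd A q), ← WithBot.coe_add,
    WithBot.coe_le_coe] at h
  exact h

include hP in
theorem isClosed_setOf_rect_le [Module.Flat A M] (n : ℕ) :
    IsClosed {q : PrimeSpectrum P | rect A M q ≤ n} := by
  obtain ⟨W, hW, hiff⟩ := exists_isOpen_rectifiedDepth A P N M (n + 1)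
  convert hW.isClosed_compl using 1
  ext q
  let p := q.asIdeal.comap (algebraMap A P)
  haveI := isRegularRing_fiber hP p
  have h := hiff p (p.Fiber P) (heightFormula_fiber hP p) (fibPoint A q)
  rw [ringKrullDim_quotient_eq_trd (R := P) p (fibPoint A q), comap_fibPoint,
    ← WithBot.coe_natCast (n + 1), ← WithBot.coe_natCast (trd A q), ← WithBot.coe_add,
    WithBot.coe_le_coe] at h
  rw [Set.mem_ofPred_eq, Set.mem_compl_iff, ← h, not_le, Nat.cast_add, Nat.cast_one]
  exact ENat.lt_natCast_add_one_iff.symm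

include hP in
/-- The support level set `rect = r`. -/
theorem isConstructible_levelSet (r : ℕ) :
    IsConstructible {q : PrimeSpectrum P | q ∈ Module.support P M ∧ rect A M q = r} := by
  convert ((isConstructible_support M).inter (isConstructible_setOf_natCast_le_rect hP (M := M) r)).inter
    (isConstructible_setOf_natCast_le_rect hP (M := M) (r + 1)).compl using 1
  ext q
  simp only [Set.mem_inter_iff, Set.mem_compl_iff, Set.mem_ofPred_eq, Nat.cast_add, Nat.cast_one,
    not_le, ENat.lt_natCast_add_one_iff]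
  rw [and_assoc]
  exact and_congr_right fun _ => ⟨fun h => ⟨h.ge, h.le⟩, fun h => le_antisymm h.2 h.1⟩

section AnyFibreCM

variable {p : Ideal A} [p.IsPrime] {C : Type u} [CommRing C] [Algebra p.ResidueField C]
  [Algebra P C] [Algebra A C] [IsScalarTower A p.ResidueField C] [IsScalarTower A P C]
  [Algebra.IsPushout A p.ResidueField P C] [IsRegularRing C] (hC : HeightFormula A P N C)

include p hP hC in
/-- Cohen–Macaulayness at `q`: all generisations in the support of the fibre have `trd ≤ rect`. -/
theorem supportDim_le_depth_iff {Q : PrimeSpectrum C}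
    (hq : comap (algebraMap P C) Q ∈ Module.support P M) :
    Module.supportDim (Localization.AtPrime Q.asIdeal) (Localization.AtPrime Q.asIdeal ⊗[P] M) ≤
      ((_root_.LocCoh.depth (Localization.AtPrime Q.asIdeal)
        (Localization.AtPrime Q.asIdeal ⊗[P] M) : ℕ∞) : WithBot ℕ∞) ↔
      ∀ q', FibGen A q' (comap (algebraMap P C) Q) → q' ∈ Module.support P M →
        (trd A q' : ℕ∞) ≤ rect A M (comap (algebraMap P C) Q) := by
  have hns : ¬ Subsingleton (Localization.AtPrime Q.asIdeal ⊗[P] M) := by
    rw [subsingleton_fibMod_iff M Q, not_not]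
    exact Module.mem_support_iff_of_finite.1 hq
  haveI := not_subsingleton_iff_nontrivial.1 hns
  haveI : IsRegularLocalRing (Localization.AtPrime Q.asIdeal) :=
    IsRegularRing.isRegularLocalRing_localization _
  obtain ⟨e, δ, hδ, hdim, hpd⟩ := exists_pd_depth (R := Localization.AtPrime Q.asIdeal)
    (Localization.AtPrime Q.asIdeal ⊗[P] M)
  obtain ⟨h, hh, hsum⟩ := hC Q
  rw [IsLocalization.AtPrime.ringKrullDim_eq_height Q.asIdeal, hh, WithBot.coe_inj,
    Nat.cast_inj] at hdim
  have h0 := supportDim_le_depth_add_iff M p Q hC 0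
  rw [Nat.cast_zero, add_zero] at h0
  have hp : (comap (algebraMap P C) Q).asIdeal.comap (algebraMap A P) = p :=
    (comap_algebraMap_eq (R := P) p Q).symm
  rw [h0, rect_comap (p := p) hP hC, hδ]
  constructor
  · rintro ⟨e', he', hall⟩ q' hgen hs
    have := hall q' hgen.1 (hgen.2.trans hp) (Module.mem_support_iff_of_finite.1 hs)
    have := (hpd e').1 he'
    rw [← Nat.cast_add, Nat.cast_le]
    omega
  · intro hall
    refine ⟨e, (hpd e).2 le_rfl, fun q' hle hp' hJ => ?_⟩
    have := hall q' ⟨hle, hp'.trans hp.symm⟩ (Module.mem_support_iff_of_finite.2 hJ)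
    rw [← Nat.cast_add, Nat.cast_le] at this
    omega

omit [Module A M] [IsScalarTower A P M] in
include p hC in
theorem supportDim_le_zero_of_minimal {Q : PrimeSpectrum C}
    (hmin : ∀ q', FibGen A q' (comap (algebraMap P C) Q) → q' ∈ Module.support P M →
      q' = comap (algebraMap P C) Q) :
    Module.supportDim (Localization.AtPrime Q.asIdeal) (Localization.AtPrime Q.asIdeal ⊗[P] M) ≤ 0 := by
  have : Module.supportDim (Localization.AtPrime Q.asIdeal)
      (LocalizedModule Q.asIdeal.primeCompl (C ⊗[P] M)) ≤ 0 := by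
    rw [CommAlg6.supportDim_localized_le_zero_iff]
    intro r hr hle
    have hr' := (FlatCrit.mem_support_baseChange_iff M r).1 hr
    have := hmin (comap (algebraMap P C) r) ⟨fun x hx => hle hx,
      ((comap_algebraMap_eq (R := P) p r).symm).trans (comap_algebraMap_eq (R := P) p Q)⟩ hr'
    by_contra hne
    have hlt : r < Q := lt_of_le_of_ne hle fun e => hne (congrArg PrimeSpectrum.asIdeal e)
    have h' := trd_lt_of_lt hC hlt
    rw [this] at h'
    exact lt_irrefl _ h'
  rwa [Module.supportDim_eq_of_equiv (M := LocalizedModule Q.asIdeal.primeCompl (C ⊗[P] M))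
    (N := Localization.AtPrime Q.asIdeal ⊗[P] M) (fibModEquiv M Q)] at this

end AnyFibreCM

include hP in
/-- A minimal point of the support of a fibre is associated: `rect = trd`. -/
theorem rect_eq_trd_of_minimal {q : PrimeSpectrum P} (hq : q ∈ Module.support P M)
    (hmin : ∀ q', FibGen A q' q → q' ∈ Module.support P M → q' = q) :
    rect A M q = (trd A q : ℕ∞) := by
  let p := q.asIdeal.comap (algebraMap A P)
  haveI := isRegularRing_fiber hP p
  have hns : ¬ Subsingleton (Localization.AtPrime (fibPoint A q).asIdeal ⊗[P] M) := by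
    rw [subsingleton_fibMod_iff M (fibPoint A q), comap_fibPoint, not_not]
    exact Module.mem_support_iff_of_finite.1 hq
  haveI := not_subsingleton_iff_nontrivial.1 hns
  haveI : IsRegularLocalRing (Localization.AtPrime (fibPoint A q).asIdeal) :=
    IsRegularRing.isRegularLocalRing_localization _
  have h0 : ((_root_.LocCoh.depth (Localization.AtPrime (fibPoint A q).asIdeal)
      (Localization.AtPrime (fibPoint A q).asIdeal ⊗[P] M) : ℕ∞) : WithBot ℕ∞) ≤ ((0 : ℕ∞) : WithBot ℕ∞) :=
    CAlgH3.depth_le_supportDim.trans (supportDim_le_zero_of_minimal (p := p) (heightFormula_fiber hP p)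
      (Q := fibPoint A q) (by rwa [comap_fibPoint]))
  rw [rect, nonpos_iff_eq_zero.1 (WithBot.coe_le_coe.1 h0), zero_add]

include hP in
/-- Below a point of the support of a fibre there is a minimal one. -/
theorem exists_minimal_fibGen {q : PrimeSpectrum P} (hq : q ∈ Module.support P M) :
    ∃ w, FibGen A w q ∧ w ∈ Module.support P M ∧
      ∀ q', FibGen A q' w → q' ∈ Module.support P M → q' = w := by
  classical
  let S : Set ℕ := {n | ∃ w, FibGen A w q ∧ w ∈ Module.support P M ∧ trd A w = n}
  have hS : S.Nonempty := ⟨_, q, FibGen.refl q, hq, rfl⟩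
  have hb : BddAbove S := ⟨N, by
    rintro _ ⟨w, -, hw, rfl⟩
    obtain ⟨r, -, h1, h2⟩ := exists_rect_eq hP hw
    omega⟩
  obtain ⟨w, hw, hws, htw⟩ := Nat.sSup_mem hS hb
  refine ⟨w, hw, hws, fun q' h hs => ?_⟩
  by_contra hne
  have hlt := h.trd_lt hP hne
  have : trd A q' ≤ sSup S := le_csSup hb ⟨q', h.trans hw, hs, rfl⟩
  omega

/-! ## The loci -/

variable (A M)

/-- The points where `(S_k)` fails: `depth < k` and `depth < dim`. -/
def badSet (k : ℕ) : Set (PrimeSpectrum P) :=
  {q | q ∈ Module.support P M ∧ rect A M q < (trd A q : ℕ∞) + (k : ℕ∞) ∧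
    ∃ q', FibGen A q' q ∧ q' ∈ Module.support P M ∧ rect A M q < (trd A q' : ℕ∞)}

/-- The locus of `(S_k)`. -/
def skLocus (k : ℕ) : Set (PrimeSpectrum P) := {x | ∀ q, FibGen A q x → q ∉ badSet A M k}

/-- The associated points of the fibres. -/
def assSet : Set (PrimeSpectrum P) :=
  {q | q ∈ Module.support P M ∧ rect A M q = (trd A q : ℕ∞)}

/-- A component of the support of the fibre of dimension `n` passes through `x`. -/
def compSet (n : ℕ) : Set (PrimeSpectrum P) :=
  {x | ∃ w, FibGen A w x ∧ w ∈ Module.support P M ∧ trd A w = n ∧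
    ∀ q', FibGen A q' w → q' ∈ Module.support P M → q' = w}

/-- All associated points of the fibre through `x` have dimension in `Φ`. -/
def assLocus (Φ : Set ℕ) : Set (PrimeSpectrum P) :=
  {x | ∀ q, FibGen A q x → q ∈ assSet A M → trd A q ∈ Φ}

variable {A M}

include hP in
theorem isConstructible_skLocus (k : ℕ) : IsConstructible
    (skLocus A M k : Set (PrimeSpectrum P)) := by
  let W : Fin (N + 1) → Set (PrimeSpectrum P) := fun r =>
    {q | q ∈ Module.support P M ∧ rect A M q = (r : ℕ)} ∩ (trdLocus A (Module.support P M) r)ᶜ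
  have hW : ∀ r, IsConstructible (W r) := fun r =>
    (isConstructible_levelSet hP r).inter (isConstructible_trdLocus (isConstructible_support M) _).compl
  convert (IsConstructible.iUnion fun r : Fin (N + 1) =>
    isConstructible_trdGE A (hW r) ((r : ℕ) + 1 - k)).compl using 1
  ext x
  simp only [skLocus, Set.mem_compl_iff, Set.mem_iUnion, not_exists, Set.mem_ofPred_eq]
  constructor
  · rintro h r ⟨q, hgen, ⟨⟨hs, hr⟩, hmax⟩, hc⟩
    simp only [trdLocus, Set.mem_compl_iff, Set.mem_ofPred_eq] at hmax
    push Not at hmax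
    obtain ⟨q', hle, hp, hs', hlt⟩ := hmax
    refine h q hgen ⟨hs, ?_, q', ⟨hle, hp⟩, hs', by rw [hr, Nat.cast_lt]; omega⟩
    rw [hr, ← Nat.cast_add, Nat.cast_lt]
    obtain ⟨r', hr', hle', -⟩ := exists_rect_eq hP hs
    rw [hr', Nat.cast_inj] at hr
    omega
  · rintro h q hgen ⟨hs, hk, q', hgen', hs', hlt⟩
    obtain ⟨r, hr, -, hrN⟩ := exists_rect_eq hP hs
    rw [hr, ← Nat.cast_add, Nat.cast_lt] at hk
    rw [hr, Nat.cast_lt] at hlt
    refine h ⟨r, Nat.lt_succ_of_le hrN⟩ ⟨q, hgen, ⟨⟨hs, hr⟩, ?_⟩, by simp only; omega⟩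
    simp only [trdLocus, Set.mem_compl_iff, Set.mem_ofPred_eq]
    push Not
    exact ⟨q', hgen'.1, hgen'.2, hs', hlt⟩

include hP in
theorem isConstructible_assLocus (Φ : Set ℕ) : IsConstructible
    (assLocus A M Φ : Set (PrimeSpectrum P)) := by
  classical
  let W : Fin (N + 1) → Set (PrimeSpectrum P) := fun r =>
    if (r : ℕ) ∈ Φ then ∅ else trdGE A {q | q ∈ Module.support P M ∧ rect A M q = (r : ℕ)} r
  have hW : ∀ r, IsConstructible (W r) := fun r => by
    simp only [W]
    split_ifs
    · exact .empty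
    · exact isConstructible_trdGE A (isConstructible_levelSet hP r) _
  convert (IsConstructible.iUnion hW).compl using 1
  ext x
  simp only [assLocus, assSet, Set.mem_compl_iff, Set.mem_iUnion, not_exists, Set.mem_ofPred_eq]
  constructor
  · intro h r hx
    by_cases hr : (r : ℕ) ∈ Φ
    · simp only [W, if_pos hr, Set.mem_empty_iff_false] at hx
    simp only [W, if_neg hr] at hx
    obtain ⟨q, hgen, ⟨hs, hq⟩, hc⟩ := hx
    have h1 := trd_le_rect A M q
    rw [hq, Nat.cast_le] at h1
    have h2 : trd A q = (r : ℕ) := le_antisymm h1 hc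
    exact hr (h2 ▸ h q hgen ⟨hs, by rw [hq, h2]⟩)
  · intro h q hgen hass
    by_contra hnot
    obtain ⟨r, hr, -, hrN⟩ := exists_rect_eq hP hass.1
    have h2 : r = trd A q := Nat.cast_inj.1 (hr.symm.trans hass.2)
    refine h ⟨trd A q, Nat.lt_succ_of_le (h2 ▸ hrN)⟩ ?_
    simp only [W, if_neg hnot]
    exact ⟨q, hgen, hass, le_rfl⟩

include hP in
theorem isConstructible_compSet (n : ℕ) : IsConstructible (compSet A M n : Set (PrimeSpectrum P)) := by
  have h := isConstructible_trdGE A ((isConstructible_support (P := P) M).inter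
    (isConstructible_trdLocus (A := A) (isConstructible_support (P := P) M) n)) n
  convert h using 1
  ext x
  simp only [compSet, trdGE, trdLocus, Set.mem_inter_iff, Set.mem_ofPred_eq]
  constructor
  · rintro ⟨w, hw, hws, ht, hmin⟩
    exact ⟨w, hw, ⟨hws, fun q' h₁ h₂ hs => by rw [hmin q' ⟨h₁, h₂⟩ hs, ht]⟩, ht.ge⟩
  · rintro ⟨w, hw, ⟨hws, hmax⟩, hn⟩
    refine ⟨w, hw, hws, le_antisymm (hmax w le_rfl rfl hws) hn, fun q' hgen hs => ?_⟩
    by_contra hne
    have := hgen.trd_lt hP hne
    have := hmax q' hgen.1 hgen.2 hs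
    omega

theorem skLocus_anti {j k : ℕ} (h : j ≤ k) :
    (skLocus A M k : Set (PrimeSpectrum P)) ⊆ skLocus A M j :=
  fun x hx q hq hbad => hx q hq ⟨hbad.1, hbad.2.1.trans_le (add_le_add le_rfl (Nat.cast_le.2 h)), hbad.2.2⟩

include hP in
/-- A minimal point of the support of a fibre is associated. -/
theorem mem_assSet_of_minimal {w : PrimeSpectrum P} (hw : w ∈ Module.support P M)
    (hmin : ∀ q', FibGen A q' w → q' ∈ Module.support P M → q' = w) : w ∈ assSet A M :=
  ⟨hw, rect_eq_trd_of_minimal hP hw hmin⟩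

include hP in
/-- `(S_1)`: no embedded associated points. -/
theorem mem_skLocus_one_iff {x : PrimeSpectrum P} :
    x ∈ skLocus A M 1 ↔ ∀ q, FibGen A q x → q ∈ assSet A M →
      ∀ w, FibGen A w q → w ∈ assSet A M → w = q := by
  constructor
  · intro h q hq hass w hw hwass
    by_contra hne
    refine h q hq ⟨hass.1, ?_, w, hw, hwass.1, ?_⟩
    · rw [hass.2, ← Nat.cast_add, Nat.cast_lt]; omega
    · rw [hass.2, Nat.cast_lt]; exact hw.trd_lt hP hne
  · rintro h q hq ⟨hqs, hk, v, hv, hvs, hlt⟩
    obtain ⟨r, hr, htr, -⟩ := exists_rect_eq hP hqs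
    rw [hr, ← Nat.cast_add, Nat.cast_lt] at hk
    rw [hr, Nat.cast_lt] at hlt
    have hass : q ∈ assSet A M := ⟨hqs, by rw [hr, Nat.cast_inj]; omega⟩
    obtain ⟨w, hw, hws, hwmin⟩ := exists_minimal_fibGen hP hvs
    have hwq := h q hq hass w (hw.trans hv) (mem_assSet_of_minimal hP hws hwmin)
    by_cases hvw : v = w
    · rw [hvw, hwq] at hlt; omega
    · have := hw.trd_lt hP (Ne.symm hvw)
      rw [hwq] at this
      omega

include hP in
/-- Under `(S_1)` the associated points are the minimal ones. -/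
theorem minimal_of_mem_assSet {x q : PrimeSpectrum P} (hx : x ∈ skLocus A M 1) (hq : FibGen A q x)
    (hass : q ∈ assSet A M) : ∀ q', FibGen A q' q → q' ∈ Module.support P M → q' = q := by
  intro q' h hs
  by_contra hne
  refine hx q hq ⟨hass.1, ?_, q', h, hs, ?_⟩
  · rw [hass.2, ← Nat.cast_add, Nat.cast_lt]; omega
  · rw [hass.2, Nat.cast_lt]; exact h.trd_lt hP hne

include hP in
/-- Equidimensional and `(S_k)`, `k ≥ 1`: the associated points have one dimension. -/
theorem mem_skLocus_and_compSet_iff {k : ℕ} (hk : 1 ≤ k) {x : PrimeSpectrum P} :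
    ((∀ n m : ℕ, x ∈ compSet A M n → x ∈ compSet A M m → n = m) ∧ x ∈ skLocus A M k) ↔
      x ∈ skLocus A M k ∧ ∃ d, x ∈ assLocus A M {d} := by
  constructor
  · rintro ⟨h, hx⟩
    refine ⟨hx, ?_⟩
    by_cases he : ∃ q, FibGen A q x ∧ q ∈ assSet A M
    · obtain ⟨q₀, h₀, ha₀⟩ := he
      have hm : ∀ q, FibGen A q x → q ∈ assSet A M → x ∈ compSet A M (trd A q) := fun q hq hass =>
        ⟨q, hq, hass.1, rfl, minimal_of_mem_assSet hP (skLocus_anti hk hx) hq hass⟩
      exact ⟨trd A q₀, fun q hq hass => h _ _ (hm q hq hass) (hm q₀ h₀ ha₀)⟩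
    · exact ⟨0, fun q hq hass => absurd ⟨q, hq, hass⟩ he⟩
  · rintro ⟨hx, d, hd⟩
    refine ⟨?_, hx⟩
    rintro n m ⟨w, hw, hws, rfl, hwmin⟩ ⟨v, hv, hvs, rfl, hvmin⟩
    exact (hd w hw (mem_assSet_of_minimal hP hws hwmin)).trans
      (hd v hv (mem_assSet_of_minimal hP hvs hvmin)).symm

section Flat

omit [Module.Flat A P] in
/-- A generisation has, in the fibre of any specialisation, a specialisation of at least the same
dimension. -/
theorem exists_component {q' x : PrimeSpectrum P} (hle : q'.asIdeal ≤ x.asIdeal) :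
    ∃ q, q'.asIdeal ≤ q.asIdeal ∧ FibGen A q x ∧ trd A q' ≤ trd A q := by
  rcases Nat.eq_zero_or_pos (trd A q') with h | h
  · exact ⟨x, hle, FibGen.refl x, by omega⟩
  · have hopen := isOpen_support_trd_le A (P := P) (P ⧸ q'.asIdeal) (trd A q' - 1) 0 0
    rw [Ideal.annihilator_quotient] at hopen
    by_contra hcon
    push Not at hcon
    have hq' := (PrimeSpectrum.le_iff_specializes q' x).1 hle |>.mem_open hopen ?_
    · have := hq' q' le_rfl rfl le_rfl
      omega
    · intro r hr hp hJ
      have := hcon r hJ ⟨hr, hp⟩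
      omega

variable [Module.Flat A M]

include hP in
theorem rect_le_of_le {q' q : PrimeSpectrum P} (hle : q'.asIdeal ≤ q.asIdeal) {n : ℕ}
    (h : rect A M q' ≤ n) : rect A M q ≤ n :=
  ((PrimeSpectrum.le_iff_specializes q' q).1 hle).mem_closed (isClosed_setOf_rect_le hP n) h

omit [Module.Flat A M] [Module A M] [IsScalarTower A P M] [Algebra.FinitePresentation A P]
  [Module.Flat A P] [Algebra A P] in
theorem mem_support_of_le {q' q : PrimeSpectrum P} (hle : q'.asIdeal ≤ q.asIdeal)
    (h : q' ∈ Module.support P M) : q ∈ Module.support P M :=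
  Module.mem_support_mono hle h

include hP in
/-- `(S_k)` on the fibres is an open condition under flatness. -/
theorem isOpen_skLocus (k : ℕ) : IsOpen (skLocus A M k : Set (PrimeSpectrum P)) := by
  refine PrimeSpectrum.isOpen_of_stableUnderGeneralization_of_isConstructible ?_
    (isConstructible_skLocus hP k)
  rintro x x' hs hx q' hgen' ⟨hs', hk, w', hwgen, hws, hlt⟩
  have hle : x'.asIdeal ≤ x.asIdeal := (PrimeSpectrum.le_iff_specializes x' x).2 hs
  obtain ⟨r, hr, -, -⟩ := exists_rect_eq hP hs'
  rw [hr, ← Nat.cast_add, Nat.cast_lt] at hk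
  rw [hr, Nat.cast_lt] at hlt
  obtain ⟨q, hq'q, hqx, htq⟩ := exists_component (A := A) (hgen'.1.trans hle)
  obtain ⟨w, hw'w, hwq, htw⟩ := exists_component (A := A) (hwgen.1.trans hq'q)
  have hrq := rect_le_of_le hP hq'q hr.le
  refine hx q hqx ⟨mem_support_of_le hq'q hs', hrq.trans_lt ?_, w, hwq, mem_support_of_le hw'w hws,
    hrq.trans_lt ?_⟩
  · rw [← Nat.cast_add, Nat.cast_lt]; omega
  · rw [Nat.cast_lt]; omega

include hP in
/-- An associated point specialises to one of the same dimension. -/
theorem exists_assSet_component {q' x : PrimeSpectrum P} (hle : q'.asIdeal ≤ x.asIdeal)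
    (h : q' ∈ assSet A M) :
    ∃ q, q'.asIdeal ≤ q.asIdeal ∧ FibGen A q x ∧ q ∈ assSet A M ∧ trd A q = trd A q' := by
  obtain ⟨q, hq'q, hqx, ht⟩ := exists_component (A := A) hle
  have hr := rect_le_of_le hP hq'q h.2.le
  have h1 := (trd_le_rect A M q).trans hr
  rw [Nat.cast_le] at h1
  have he : trd A q = trd A q' := le_antisymm h1 ht
  exact ⟨q, hq'q, hqx, ⟨mem_support_of_le hq'q h.1,
    le_antisymm (by rw [he]; exact hr) (trd_le_rect A M q)⟩, he⟩

include hP in
/-- The dimensions of the associated points of the fibres: an open condition under flatness. -/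
theorem isOpen_assLocus (Φ : Set ℕ) : IsOpen (assLocus A M Φ : Set (PrimeSpectrum P)) := by
  refine PrimeSpectrum.isOpen_of_stableUnderGeneralization_of_isConstructible ?_
    (isConstructible_assLocus hP Φ)
  intro x x' hs hx q' hgen' hq'
  have hle : x'.asIdeal ≤ x.asIdeal := (PrimeSpectrum.le_iff_specializes x' x).2 hs
  obtain ⟨q, -, hqx, hass, ht⟩ := exists_assSet_component hP (hgen'.1.trans hle) hq'
  exact ht ▸ hx q hqx hass

include hP in
/-- A point of the support specialising to a minimal one of a fibre specialises to it with a minimal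
one of the same dimension. -/
theorem trd_eq_of_minimal {w' w : PrimeSpectrum P} (hle : w'.asIdeal ≤ w.asIdeal)
    (hws : w ∈ Module.support P M) (hw's : w' ∈ Module.support P M)
    (hmin : ∀ q', FibGen A q' w → q' ∈ Module.support P M → q' = w)
    (hmin' : ∀ q', FibGen A q' w' → q' ∈ Module.support P M → q' = w') :
    trd A w' = trd A w := by
  obtain ⟨q, hq, hqw, ht⟩ := exists_component (A := A) hle
  rw [hmin q hqw (mem_support_of_le hq hw's)] at ht
  have h := rect_le_of_le hP hle (rect_eq_trd_of_minimal hP hw's hmin').le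
  rw [rect_eq_trd_of_minimal hP hws hmin, Nat.cast_le] at h
  omega

end Flat

end Groth.Agent.EGA43.FibDepth
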