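import Groth.Agent.EGA43.FibDepth.PdOpen
import Groth.Agent.EGA43.FibDepth.FibreDim
import Groth.Agent.CommAlg6.CodepthOpen

/-!
# Depth on the fibres of an affine space

`M` a finitely presented module over `A[T₁, …, T_N]`.  On the fibres (polynomial rings over fields)
the rectified depth is `N - pd` (Auslander–Buchsbaum) and the codepth is governed by the projective
dimension and the dimensions of the components of the support.
-/

set_option autoImplicit false
set_option backward.isDefEq.respectTransparency false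

universe u

open TensorProduct Function MvPolynomial IsLocalRing

namespace Groth.Agent.EGA43.FibDepth

open Groth.Agent

/-- Auslander–Buchsbaum over a regular local ring. -/
theorem exists_pd_depth {R : Type u} [CommRing R] [IsRegularLocalRing R] (N : Type u)
    [AddCommGroup N] [Module R N] [Module.Finite R N] [Nontrivial N] :
    ∃ e δ : ℕ, _root_.LocCoh.depth R N = δ ∧ ringKrullDim R = (((e + δ : ℕ) : ℕ∞) : WithBot ℕ∞) ∧
      ∀ j, CommAlg6.PdLE R N j ↔ e ≤ j := by
  haveI := CAlgH3.isRegularRing_of_isRegularLocalRing (R := R)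
  haveI := CAlgH3.isCohenMacaulayRing_of_isRegularRing (R := R)
  haveI : _root_.LocCoh.IsCohenMacaulayLocalRing R :=
    CAlgH3.isCohenMacaulayLocalRing_of_ringEquiv
      (h := _root_.LocCoh.IsCohenMacaulayRing.isCohenMacaulayLocalRing_localization (maximalIdeal R))
      (IsLocalization.atUnits R (maximalIdeal R).primeCompl (S := Localization.AtPrime (maximalIdeal R))
        (fun _ hx => IsLocalRing.notMem_maximalIdeal.1 hx)).symm.toRingEquiv
  obtain ⟨e, -, he, hne⟩ := CAlgH3.exists_pd_index (CAlgH3.pd_all (R := R) N)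
  obtain ⟨δ, hδ⟩ := CAlgH3.exists_depth_eq_natCast (R := R) (M := N)
  refine ⟨e, δ, hδ, ?_, fun j => ⟨fun h => ?_, fun h => CAlgH3.pd_mono (by omega) he⟩⟩
  · rw [(CAlgH3.isCohenMacaulayLocalRing_iff_depth R).1 inferInstance,
      CAlgH3.depth_add_of_pd e N he hne, hδ]
    push_cast
    rfl
  · by_contra hlt
    exact hne (CAlgH3.pd_mono (show j + 1 ≤ e by omega) h)

section Abstract

variable {A P : Type u} [CommRing A] [CommRing P] [Algebra A P] {N : ℕ}
  {M : Type u} [AddCommGroup M] [Module P M]
  {p : Ideal A} [p.IsPrime] {C : Type u} [CommRing C] [Algebra p.ResidueField C] [Algebra P C]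
  [Algebra A C] [IsScalarTower A p.ResidueField C] [IsScalarTower A P C]
  [Algebra.IsPushout A p.ResidueField P C] (Q : PrimeSpectrum C)

variable (A P) in
/-- `C` behaves like the coordinate ring of affine `N`-space: `ht Q + trd = N`. -/
def HeightFormula (N : ℕ) (C : Type u) [CommRing C] [Algebra P C] : Prop :=
  ∀ Q : PrimeSpectrum C, ∃ h : ℕ, Q.asIdeal.height = h ∧
    h + trd A (PrimeSpectrum.comap (algebraMap P C) Q) = N

variable (M)

variable (p) in
include p in
/-- The rectified depth on a fibre is `N - pd`. -/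
theorem natCast_le_depth_add_iff [Algebra.FiniteType A P] [IsRegularRing C] [Module.Finite P M]
    (hC : HeightFormula A P N C) (n : ℕ) :
    (n : WithBot ℕ∞) ≤ ((_root_.LocCoh.depth (Localization.AtPrime Q.asIdeal)
          (Localization.AtPrime Q.asIdeal ⊗[P] M) : ℕ∞) : WithBot ℕ∞) +
        ringKrullDim (C ⧸ Q.asIdeal) ↔
      Subsingleton (Localization.AtPrime Q.asIdeal ⊗[P] M) ∨ n ≤ N ∧
        CommAlg6.PdLE (Localization.AtPrime Q.asIdeal)
          (Localization.AtPrime Q.asIdeal ⊗[P] M) (N - n) := by
  rw [ringKrullDim_quotient_eq_trd (R := P) p Q]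
  set t := trd A (PrimeSpectrum.comap (algebraMap P C) Q) with ht
  rcases subsingleton_or_nontrivial (Localization.AtPrime Q.asIdeal ⊗[P] M) with hs | hs
  · simp only [hs, true_or, iff_true]
    rw [CAlgH3.depth_eq_top_of_subsingleton]
    have : ((⊤ : ℕ∞) : WithBot ℕ∞) + (t : WithBot ℕ∞) = ((⊤ : ℕ∞) : WithBot ℕ∞) := by
      rw [← WithBot.coe_natCast t, ← WithBot.coe_add, top_add]
    rw [this, ← WithBot.coe_natCast n, WithBot.coe_le_coe]
    exact le_top
  · haveI : IsRegularLocalRing (Localization.AtPrime Q.asIdeal) :=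
      IsRegularRing.isRegularLocalRing_localization _
    obtain ⟨e, δ, hδ, hdim, hpd⟩ := exists_pd_depth (R := Localization.AtPrime Q.asIdeal)
      (Localization.AtPrime Q.asIdeal ⊗[P] M)
    obtain ⟨h, hh, hsum⟩ := hC Q
    rw [IsLocalization.AtPrime.ringKrullDim_eq_height Q.asIdeal, hh, WithBot.coe_inj,
      Nat.cast_inj] at hdim
    have hns : ¬ Subsingleton (Localization.AtPrime Q.asIdeal ⊗[P] M) := not_subsingleton _
    simp only [hns, false_or, hpd, hδ]
    rw [← WithBot.coe_natCast n, ← WithBot.coe_natCast t, ← WithBot.coe_add, WithBot.coe_le_coe,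
      ← Nat.cast_add, Nat.cast_le]
    rw [← ht] at hsum
    omega

/-- The local module on a fibre as a localisation. -/
noncomputable def fibModEquiv :
    LocalizedModule Q.asIdeal.primeCompl (C ⊗[P] M) ≃ₗ[Localization.AtPrime Q.asIdeal]
      Localization.AtPrime Q.asIdeal ⊗[P] M :=
  (LocalizedModule.equivTensorProduct Q.asIdeal.primeCompl _).trans
    (AlgebraTensorModule.cancelBaseChange P C (Localization.AtPrime Q.asIdeal)
      (Localization.AtPrime Q.asIdeal) M)

theorem subsingleton_fibMod_iff [Module.Finite P M] :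
    Subsingleton (Localization.AtPrime Q.asIdeal ⊗[P] M) ↔
      ¬ Module.annihilator P M ≤ (PrimeSpectrum.comap (algebraMap P C) Q).asIdeal := by
  rw [← Module.mem_support_iff_of_finite, ← FlatCrit.mem_support_baseChange_iff,
    ← (fibModEquiv M Q).toEquiv.subsingleton_congr]
  exact Module.notMem_support_iff.symm

variable (p) in
include p in
/-- The codepth on a fibre. -/
theorem supportDim_le_depth_add_iff [IsRegularRing C] [Module.Finite P M]
    (hC : HeightFormula A P N C) (k : ℕ) :
    Module.supportDim (Localization.AtPrime Q.asIdeal) (Localization.AtPrime Q.asIdeal ⊗[P] M) ≤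
        ((_root_.LocCoh.depth (Localization.AtPrime Q.asIdeal)
          (Localization.AtPrime Q.asIdeal ⊗[P] M) : ℕ∞) : WithBot ℕ∞) + k ↔
      ∃ e, CommAlg6.PdLE (Localization.AtPrime Q.asIdeal)
          (Localization.AtPrime Q.asIdeal ⊗[P] M) e ∧
        ∀ q' : PrimeSpectrum P,
          q'.asIdeal ≤ (PrimeSpectrum.comap (algebraMap P C) Q).asIdeal →
          q'.asIdeal.comap (algebraMap A P) = p →
          Module.annihilator P M ≤ q'.asIdeal → e + trd A q' ≤ N + k := by
  have h1 : Module.supportDim (Localization.AtPrime Q.asIdeal)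
      (LocalizedModule Q.asIdeal.primeCompl (C ⊗[P] M)) =
      Module.supportDim (Localization.AtPrime Q.asIdeal) (Localization.AtPrime Q.asIdeal ⊗[P] M) :=
    Module.supportDim_eq_of_equiv (M := LocalizedModule Q.asIdeal.primeCompl (C ⊗[P] M))
      (N := Localization.AtPrime Q.asIdeal ⊗[P] M) (fibModEquiv M Q)
  have h2 : _root_.LocCoh.depth (Localization.AtPrime Q.asIdeal)
      (LocalizedModule Q.asIdeal.primeCompl (C ⊗[P] M)) =
      _root_.LocCoh.depth (Localization.AtPrime Q.asIdeal)
        (Localization.AtPrime Q.asIdeal ⊗[P] M) :=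
    CAlgH3.depth_congr (M := LocalizedModule Q.asIdeal.primeCompl (C ⊗[P] M))
      (N := Localization.AtPrime Q.asIdeal ⊗[P] M) (fibModEquiv M Q)
  rw [← h1, ← h2, CommAlg6.codepth_le_iff]
  refine exists_congr fun e => and_congr (CommAlg6.pdLE_congr (fibModEquiv M Q) e) ⟨?_, ?_⟩
  · intro h q' hle hp hJ
    obtain ⟨Q', rfl⟩ := exists_prime_over (A := A) (p := p) C q' hp.symm
    have h' := h Q' ((FlatCrit.mem_support_baseChange_iff M Q').2
      (Module.mem_support_iff_of_finite.2 hJ)) (le_of_comap_le (R := P) p hle)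
    obtain ⟨ht, hht, hsum⟩ := hC Q'
    rw [hht] at h'
    have h'' : e ≤ ht + k := by exact_mod_cast h'
    omega
  · intro h P' hP' hle
    obtain ⟨ht, hht, hsum⟩ := hC P'
    have h' := h (PrimeSpectrum.comap (algebraMap P C) P') (fun x hx => hle hx)
      (comap_algebraMap_eq (R := P) p P').symm
      (Module.mem_support_iff_of_finite.1 ((FlatCrit.mem_support_baseChange_iff M P').1 hP'))
    rw [hht]
    exact_mod_cast (show e ≤ ht + k by omega)

omit Q in
variable (A) in
/-- The locus attached to the dimension of the support on the fibres is open. -/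
theorem isOpen_support_trd_le [Algebra.FiniteType A P] (N e k : ℕ) :
    IsOpen {q : PrimeSpectrum P | ∀ q' : PrimeSpectrum P, q'.asIdeal ≤ q.asIdeal →
        q'.asIdeal.comap (algebraMap A P) = q.asIdeal.comap (algebraMap A P) →
        Module.annihilator P M ≤ q'.asIdeal → e + trd A q' ≤ N + k} := by
  let J := Module.annihilator P M
  rcases le_or_gt e (N + k) with he | he
  · let φ := Ideal.Quotient.mkₐ A J
    have hφ : Surjective φ := Ideal.Quotient.mkₐ_surjective A J
    have : Algebra.FiniteType A (P ⧸ J) := Algebra.FiniteType.of_surjective φ hφ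
    have hso := RingHom.surjectiveOnStalks_of_surjective (f := φ.toRingHom) hφ
    have hG := isOpen_trd_le (A := A) (R := P ⧸ J) (N + k - e)
    have hclosed := (PrimeSpectrum.isClosedEmbedding_comap_of_surjective _ φ.toRingHom hφ).isClosedMap
      _ hG.isClosed_compl
    convert hclosed.isOpen_compl using 1
    ext q
    simp only [Set.mem_compl_iff, Set.mem_image, not_exists, not_and]
    constructor
    · rintro h q₁ hbad rfl
      apply hbad
      intro q₂ hle hp
      have h1 := h (PrimeSpectrum.comap φ.toRingHom q₂) (fun x hx => hle hx) ?_ (fun x hx => ?_)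
      · rw [trd_comap_of_surjectiveOnStalks φ hso q₂] at h1
        omega
      · show Ideal.comap _ (Ideal.comap φ.toRingHom q₂.asIdeal) =
          Ideal.comap _ (Ideal.comap φ.toRingHom q₁.asIdeal)
        rw [Ideal.comap_comap, Ideal.comap_comap,
          show φ.toRingHom.comp (algebraMap A P) = algebraMap A (P ⧸ J) from φ.comp_algebraMap]
        exact hp
      · show φ x ∈ q₂.asIdeal
        rw [show φ x = 0 from Ideal.Quotient.eq_zero_iff_mem.2 hx]
        exact zero_mem _
    · intro h q' hle hp hJ
      have hrange : ∀ z : PrimeSpectrum P, J ≤ z.asIdeal →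
          z ∈ Set.range (PrimeSpectrum.comap φ.toRingHom) := fun z hz => by
        rw [range_comap_of_surjective _ _ hφ]
        intro x hx
        exact hz (Ideal.Quotient.eq_zero_iff_mem.1 hx)
      obtain ⟨q₁, rfl⟩ := hrange q (hJ.trans hle)
      obtain ⟨q₂, rfl⟩ := hrange q' hJ
      rw [trd_comap_of_surjectiveOnStalks φ hso q₂]
      by_contra hlt
      refine h q₁ (fun hG' => hlt ?_) rfl
      have h2 := hG' q₂ (fun x hx => ?_) ?_
      · omega
      · obtain ⟨y, rfl⟩ := hφ x
        exact hle hx
      · rw [show algebraMap A (P ⧸ J) = φ.toRingHom.comp (algebraMap A P) from φ.comp_algebraMap.symm,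
          ← Ideal.comap_comap, ← Ideal.comap_comap]
        exact hp
  · convert (PrimeSpectrum.isClosed_zeroLocus (J : Set P)).isOpen_compl using 1
    ext q
    constructor
    · intro h hq
      have := h q le_rfl rfl hq
      omega
    · intro h q' hle _ hJ
      exact absurd (fun x hx => hle (hJ hx)) h

end Abstract

section Open

variable (A P : Type u) [CommRing A] [CommRing P] [Algebra A P] [Algebra.FinitePresentation A P]
  [Module.Flat A P] (N : ℕ) (M : Type u) [AddCommGroup M] [Module P M]
  [Module.FinitePresentation P M] [Module A M] [IsScalarTower A P M] [Module.Flat A M]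

/-- `depth + dim closure ≥ n` on the fibres is an open condition. -/
theorem exists_isOpen_rectifiedDepth (n : ℕ) :
    ∃ U : Set (PrimeSpectrum P), IsOpen U ∧
      ∀ (p : Ideal A) [p.IsPrime] (C : Type u) [CommRing C] [Algebra p.ResidueField C] [Algebra P C]
        [Algebra A C] [IsScalarTower A p.ResidueField C] [IsScalarTower A P C]
        [Algebra.IsPushout A p.ResidueField P C] [IsRegularRing C] (_ : HeightFormula A P N C)
        (Q : PrimeSpectrum C),
        (n : WithBot ℕ∞) ≤ ((_root_.LocCoh.depth (Localization.AtPrime Q.asIdeal)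
              (Localization.AtPrime Q.asIdeal ⊗[P] M) : ℕ∞) : WithBot ℕ∞) +
            ringKrullDim (C ⧸ Q.asIdeal) ↔
          PrimeSpectrum.comap (algebraMap P C) Q ∈ U := by
  obtain ⟨U, hU, -, hiff⟩ := exists_pdLocus A (P := P) (N - n) M
  refine ⟨{q | ¬ Module.annihilator P M ≤ q.asIdeal} ∪ (if n ≤ N then U else ∅), ?_,
    fun p _ C _ _ _ _ _ _ _ _ hC Q => ?_⟩
  · refine IsOpen.union ?_ ?_
    · exact (PrimeSpectrum.isClosed_zeroLocus _).isOpen_compl
    · split_ifs
      · exact hU
      · exact isOpen_empty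
  · rw [natCast_le_depth_add_iff M p Q hC n, subsingleton_fibMod_iff M Q,
      hiff p.ResidueField C Q]
    by_cases hn : n ≤ N <;> simp [hn]

/-- `codepth ≤ k` on the fibres is an open condition. -/
theorem exists_isOpen_codepth (k : ℕ) :
    ∃ U : Set (PrimeSpectrum P), IsOpen U ∧
      ∀ (p : Ideal A) [p.IsPrime] (C : Type u) [CommRing C] [Algebra p.ResidueField C] [Algebra P C]
        [Algebra A C] [IsScalarTower A p.ResidueField C] [IsScalarTower A P C]
        [Algebra.IsPushout A p.ResidueField P C] [IsRegularRing C] (_ : HeightFormula A P N C)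
        (Q : PrimeSpectrum C),
        Module.supportDim (Localization.AtPrime Q.asIdeal) (Localization.AtPrime Q.asIdeal ⊗[P] M) ≤
            ((_root_.LocCoh.depth (Localization.AtPrime Q.asIdeal)
              (Localization.AtPrime Q.asIdeal ⊗[P] M) : ℕ∞) : WithBot ℕ∞) + k ↔
          PrimeSpectrum.comap (algebraMap P C) Q ∈ U := by
  choose U hU _ hiff using fun e => exists_pdLocus A (P := P) e M
  refine ⟨⋃ e, U e ∩ {q | ∀ q' : PrimeSpectrum P, q'.asIdeal ≤ q.asIdeal →
        q'.asIdeal.comap (algebraMap A P) = q.asIdeal.comap (algebraMap A P) →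
        Module.annihilator P M ≤ q'.asIdeal → e + trd A q' ≤ N + k},
    isOpen_iUnion fun e => (hU e).inter (isOpen_support_trd_le A M N e k),
    fun p _ C _ _ _ _ _ _ _ _ hC Q => ?_⟩
  rw [supportDim_le_depth_add_iff M p Q hC k, Set.mem_iUnion]
  refine exists_congr fun e => and_congr (hiff e p.ResidueField C Q) ?_
  rw [Set.mem_setOf_eq, ← comap_algebraMap_eq (R := P) p Q]

end Open

section AffineSpace

attribute [local instance] Algebra.TensorProduct.rightAlgebra

variable (A P : Type u) [CommRing A] [CommRing P] [Algebra A P] (N : ℕ)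

/-- The fibres of `Spec P / Spec A` are affine `N`-spaces. -/
def HasAffineSpaceFibres : Prop :=
  ∀ (p : Ideal A) [p.IsPrime],
    Nonempty (p.Fiber P ≃ₐ[p.ResidueField] MvPolynomial (Fin N) p.ResidueField)

theorem hasAffineSpaceFibres_mvPolynomial :
    HasAffineSpaceFibres A (MvPolynomial (Fin N) A) N :=
  fun p _ => ⟨MvPolynomial.algebraTensorAlgEquiv A p.ResidueField⟩

variable {A P N} (hP : HasAffineSpaceFibres A P N) (p : Ideal A) [p.IsPrime]

include hP in
theorem isRegularRing_fiber : IsRegularRing (p.Fiber P) :=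
  IsRegularRing.of_ringEquiv (hP p).some.toRingEquiv.symm

include hP in
theorem heightFormula_fiber [Algebra.FiniteType A P] : HeightFormula A P N (p.Fiber P) := by
  intro Q
  let e := (hP p).some
  have : IsDomain (p.Fiber P) := MulEquiv.isDomain (MvPolynomial (Fin N) p.ResidueField) e.toMulEquiv
  have : Algebra.FiniteType p.ResidueField (p.Fiber P) :=
    Algebra.FiniteType.equiv inferInstance e.symm
  have : IsNoetherianRing (p.Fiber P) := Algebra.FiniteType.isNoetherianRing p.ResidueField _
  obtain ⟨h, hh⟩ := ENat.ne_top_iff_exists.1 (Ideal.height_ne_top (I := Q.asIdeal) Q.2.ne_top)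
  refine ⟨h, hh.symm, ?_⟩
  have h1 := DimLib.height_add_ringKrullDim_quotient (k := p.ResidueField) Q.asIdeal
  rw [ringKrullDim_quotient_eq_trd (R := P) p Q, ← hh,
    ringKrullDim_eq_of_ringEquiv e.toRingEquiv] at h1
  simp [ringKrullDim_eq_zero_of_field] at h1
  exact_mod_cast h1

end AffineSpace

end Groth.Agent.EGA43.FibDepth
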