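import Groth.Agent.EGA43.FibDepth.Affine
import Groth.Agent.EGA43.InjFibre.StalkBridge
import Groth.Agent.EGA43.Cons.FibFlatScheme
import Groth.Agent.DimLib.Morphism
import Groth.Agent.DimLib.Components
import Groth.Agent.Props12.Stalks
import Groth.Agent.ModStalk.Pullback
import Groth.Agent.CommAlg6.SupportDimSurj
import Groth.Agent.EGA43.FibDepth.LociLocal

/-!
# Fibres of morphisms in terms of fibres of affine spaces
-/

set_option autoImplicit false
set_option backward.isDefEq.respectTransparency false

universe u

open CategoryTheory CategoryTheory.Limits AlgebraicGeometry TopologicalSpace TensorProduct Function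

namespace Groth.Agent.EGA43.FibDepth

open Groth.Agent

attribute [local instance] Algebra.TensorProduct.rightAlgebra

section Algebra

variable {A P O S : Type u} [CommRing A] [CommRing P] [Algebra A P] [CommRing O] [IsLocalRing O]
  [Algebra P O] [CommRing S] [IsLocalRing S] [Algebra O S]
  {M F : Type u} [AddCommGroup M] [Module P M] [AddCommGroup F] [Module O F] [Module P F]
  [IsScalarTower P O F]

/-- The local ring and module of a fibre, compared with those of the fibre of `Spec P / Spec A`. -/
theorem exists_fibre_prime [Algebra.FiniteType A P] [Module.Finite P M] (q : PrimeSpectrum P) (p : Ideal A) [p.IsPrime]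
    (hp : p = q.asIdeal.comap (algebraMap A P))
    (hq : (IsLocalRing.maximalIdeal O).comap (algebraMap P O) = q.asIdeal)
    (hfrac : ∀ o : O, ∃ r s : P, s ∉ q.asIdeal ∧ algebraMap P O s * o = algebraMap P O r)
    (hsurj : Surjective (algebraMap O S))
    (hker : RingHom.ker (algebraMap O S) = (p.map (algebraMap A P)).map (algebraMap P O))
    (φ : M →ₗ[P] F) [IsLocalizedModule q.asIdeal.primeCompl φ] :
    ∃ Q : PrimeSpectrum (p.Fiber P), PrimeSpectrum.comap (algebraMap P (p.Fiber P)) Q = q ∧
      _root_.LocCoh.depth S (S ⊗[O] F) =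
        _root_.LocCoh.depth (Localization.AtPrime Q.asIdeal)
          (Localization.AtPrime Q.asIdeal ⊗[P] M) ∧
      Module.supportDim S (S ⊗[O] F) =
        Module.supportDim (Localization.AtPrime Q.asIdeal)
          (Localization.AtPrime Q.asIdeal ⊗[P] M) ∧
      (∀ k, _root_.LocCoh.HasSk k S (S ⊗[O] F) ↔
        _root_.LocCoh.HasSk k (Localization.AtPrime Q.asIdeal)
          (Localization.AtPrime Q.asIdeal ⊗[P] M)) ∧
      (EGA4.IsEquidimModule S (S ⊗[O] F) ↔
        EGA4.IsEquidimModule (Localization.AtPrime Q.asIdeal)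
          (Localization.AtPrime Q.asIdeal ⊗[P] M)) := by
  subst hp
  let p := q.asIdeal.comap (algebraMap A P)
  let C := p.Fiber P
  let _ : Algebra P S := ((algebraMap O S).comp (algebraMap P O)).toAlgebra
  have : IsScalarTower P O S := .of_algebraMap_eq' rfl
  let _ : Algebra A S := ((algebraMap P S).comp (algebraMap A P)).toAlgebra
  have : IsScalarTower A P S := .of_algebraMap_eq' rfl
  have : IsLocalHom (algebraMap O S) := IsLocalHom.of_surjective _ hsurj
  have hunit : ∀ s ∉ q.asIdeal, IsUnit (algebraMap P O s) := fun s hs => by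
    rw [← IsLocalRing.notMem_maximalIdeal]
    exact fun h => hs (hq.le h)
  let κ : p.ResidueField →ₐ[A] S := Ideal.ResidueField.liftₐ p (Algebra.ofId A S)
    (fun a ha => by
      show algebraMap O S (algebraMap P O (algebraMap A P a)) = 0
      rw [← RingHom.mem_ker, hker]
      exact Ideal.mem_map_of_mem _ (Ideal.mem_map_of_mem _ ha))
    (fun a ha => (hunit _ fun h => ha h).map (algebraMap O S))
  let l : C →ₐ[A] S :=
    Algebra.TensorProduct.lift κ (IsScalarTower.toAlgHom A P S) fun _ _ => Commute.all _ _
  have hl : ∀ b : P, l (algebraMap P C b) = algebraMap P S b := fun b => by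
    show l ((1 : p.ResidueField) ⊗ₜ[A] b) = _
    rw [Algebra.TensorProduct.lift_tmul, map_one, one_mul]
    rfl
  let Q : PrimeSpectrum C :=
    ⟨(IsLocalRing.maximalIdeal S).comap l.toRingHom, Ideal.IsPrime.comap _⟩
  have hQ : PrimeSpectrum.comap (algebraMap P C) Q = q := by
    ext b
    show l (algebraMap P C b) ∈ IsLocalRing.maximalIdeal S ↔ _
    rw [hl, ← hq, Ideal.mem_comap, IsLocalRing.mem_maximalIdeal, IsLocalRing.mem_maximalIdeal]
    exact not_congr (isUnit_map_iff (algebraMap O S) (algebraMap P O b))
  refine ⟨Q, hQ, ?_⟩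
  let L := Localization.AtPrime Q.asIdeal
  let ψ : L →+* S := IsLocalization.lift (M := Q.asIdeal.primeCompl) (g := l.toRingHom) fun y =>
    IsLocalRing.notMem_maximalIdeal.1 y.2
  let _ : Algebra L S := ψ.toAlgebra
  have : IsScalarTower P L S := .of_algebraMap_eq fun b => by
    show _ = ψ (algebraMap P L b)
    rw [IsScalarTower.algebraMap_apply P C L, IsLocalization.lift_eq]
    exact (hl b).symm
  have hψ : Surjective (algebraMap L S) := fun z => by
    obtain ⟨o, rfl⟩ := hsurj z
    obtain ⟨r, s, hs, h⟩ := hfrac o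
    have hsQ : algebraMap P C s ∈ Q.asIdeal.primeCompl := fun h' => hs ((congrArg PrimeSpectrum.asIdeal hQ).le h')
    refine ⟨IsLocalization.mk' L (algebraMap P C r) ⟨_, hsQ⟩, ?_⟩
    show ψ _ = _
    rw [IsLocalization.lift_mk'_spec]
    show l (algebraMap P C r) = l (algebraMap P C s) * _
    rw [hl, hl, IsScalarTower.algebraMap_apply P O S r, IsScalarTower.algebraMap_apply P O S s,
      ← map_mul, h]
  let G := S ⊗[O] F
  let _ : Module L G := Module.compHom G ψ
  have : IsScalarTower L S G := .of_algebraMap_smul fun _ _ => rfl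
  let _ : Module P G := Module.compHom G (algebraMap P S)
  have : IsScalarTower P S G := .of_algebraMap_smul fun _ _ => rfl
  have : IsScalarTower P L G := .of_algebraMap_smul fun b g => by
    show ψ (algebraMap P L b) • g = algebraMap P S b • g
    rw [show ψ (algebraMap P L b) = algebraMap P S b from
      (IsScalarTower.algebraMap_apply P L S b).symm]
  let ι : M →ₗ[P] G :=
    { toFun := fun m => (1 : S) ⊗ₜ[O] φ m
      map_add' := fun a b => by rw [map_add, tmul_add]
      map_smul' := fun c m => by
        show _ = algebraMap P S c • ((1 : S) ⊗ₜ[O] φ m)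
        rw [map_smul, ← algebraMap_smul O c (φ m), tmul_smul,
          IsScalarTower.algebraMap_apply P O S, algebraMap_smul]
        rfl }
  let Φ : L ⊗[P] M →ₗ[L] G := ι.liftBaseChange L
  have hΦ1 : ∀ m, Φ ((1 : L) ⊗ₜ[P] m) = (1 : S) ⊗ₜ[O] φ m := fun m => by
    rw [LinearMap.liftBaseChange_tmul, one_smul]; rfl
  have hsurjΦ : Surjective Φ := fun g => by
    induction g using TensorProduct.induction_on with
    | zero => exact ⟨0, map_zero _⟩
    | add u v hu hv =>
      obtain ⟨a, rfl⟩ := hu; obtain ⟨b, rfl⟩ := hv; exact ⟨a + b, map_add _ _ _⟩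
    | tmul z x =>
      obtain ⟨l₁, hl₁⟩ := hψ z
      obtain ⟨⟨m, s⟩, hm⟩ := IsLocalizedModule.surj q.asIdeal.primeCompl φ x
      obtain ⟨u, hu⟩ := (hunit s.1 s.2).map (algebraMap O S)
      obtain ⟨l₂, hl₂⟩ := hψ (↑u⁻¹ : S)
      refine ⟨(l₁ * l₂) • ((1 : L) ⊗ₜ[P] m), ?_⟩
      rw [map_smul, hΦ1, ← hm, Submonoid.smul_def, ← algebraMap_smul O (s : P) x, tmul_smul,
        ← algebraMap_smul S (algebraMap P O s), show ∀ w : G, (l₁ * l₂) • w = algebraMap L S (l₁ * l₂) • w
          from fun _ => rfl, smul_smul, map_mul, hl₁, hl₂, ← hu,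
        mul_assoc, Units.inv_mul, mul_one, TensorProduct.smul_tmul', smul_eq_mul, mul_one]
  have hinjΦ : Injective Φ := by
    rw [injective_iff_map_eq_zero]
    intro z hz
    -- `z` is a fraction of some `1 ⊗ m`
    obtain ⟨s, hs, m, hm⟩ : ∃ s ∉ q.asIdeal, ∃ m : M, s • z = (1 : L) ⊗ₜ[P] m := by
      clear hz
      induction z using TensorProduct.induction_on with
      | zero => exact ⟨1, fun h => q.isPrime.ne_top ((Ideal.eq_top_iff_one _).2 h), 0, by simp⟩
      | add u v hu hv =>
        obtain ⟨s, hs, m, hm⟩ := hu
        obtain ⟨t, ht, n, hn⟩ := hv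
        refine ⟨t * s, q.asIdeal.primeCompl.mul_mem ht hs, t • m + s • n, ?_⟩
        rw [smul_add, mul_smul, hm, mul_comm t s, mul_smul, hn, tmul_add, tmul_smul, tmul_smul]
      | tmul l₀ m =>
        obtain ⟨c, ⟨d, hd⟩, rfl⟩ := IsLocalization.exists_mk'_eq Q.asIdeal.primeCompl l₀
        obtain ⟨a, ha, b, hb⟩ := exists_smul_eq_map P p c
        obtain ⟨a', ha', b', hb'⟩ := exists_smul_eq_map P p d
        have hb'q : b' ∉ q.asIdeal := fun h => by
          have : algebraMap P C b' ∈ Q.asIdeal := (congrArg PrimeSpectrum.asIdeal hQ).ge h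
          rw [← hb'] at this
          exact (Q.isPrime.mem_or_mem this).elim
            (fun h' => Q.isPrime.ne_top (Ideal.eq_top_of_isUnit_mem _ h' (isUnit_algebraMap ha')))
            hd
        refine ⟨algebraMap A P a * b',
          q.asIdeal.primeCompl.mul_mem (fun h => ha h) hb'q, (algebraMap A P a' * b) • m, ?_⟩
        rw [TensorProduct.smul_tmul', tmul_smul, TensorProduct.smul_tmul', Algebra.smul_def,
          Algebra.smul_def, mul_one]
        congr 1
        rw [IsScalarTower.algebraMap_apply P C L, IsScalarTower.algebraMap_apply P C L,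
          IsLocalization.mul_mk'_eq_mk'_of_mul, IsLocalization.mk'_eq_iff_eq_mul, ← map_mul]
        congr 1
        simp only [map_mul, ← IsScalarTower.algebraMap_apply, ← hb, ← hb']
        ring
    have hm0 : (1 : L) ⊗ₜ[P] m = 0 := by
      have h1 : (1 : S) ⊗ₜ[O] φ m = 0 := by
        rw [← hΦ1, ← hm, LinearMap.map_smul_of_tower, hz, smul_zero]
      have h2 : φ m ∈ RingHom.ker (algebraMap O S) • (⊤ : Submodule O F) := by
        let q₁ : (O ⧸ RingHom.ker (algebraMap O S)) ≃ₗ[O] S :=
          (Ideal.quotientKerAlgEquivOfSurjective (f := Algebra.ofId O S) hsurj).toLinearEquiv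
        let e := (TensorProduct.congr q₁.symm (LinearEquiv.refl O F)).trans
          (TensorProduct.quotTensorEquivQuotSMul F (RingHom.ker (algebraMap O S)))
        have := congrArg e h1
        rw [map_zero] at this
        have hq1 : q₁.symm 1 = Ideal.Quotient.mk _ 1 := by
          rw [LinearEquiv.symm_apply_eq]; simp [q₁]
        simp only [e, LinearEquiv.trans_apply, TensorProduct.congr_tmul, LinearEquiv.refl_apply,
          hq1] at this
        simp at this
        exact this
      let _ : Algebra A O := ((algebraMap P O).comp (algebraMap A P)).toAlgebra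
      have : IsScalarTower A P O := .of_algebraMap_eq' rfl
      let _ : Module A F := Module.compHom F (algebraMap A O)
      have : IsScalarTower A O F := .of_algebraMap_smul fun _ _ => rfl
      rw [hker, Ideal.map_map, ← IsScalarTower.algebraMap_eq A P O,
        InjFibre.mem_map_smul_top_iff] at h2
      let Ψ : F →ₗ[P] L ⊗[P] M := IsLocalizedModule.lift q.asIdeal.primeCompl φ
        (TensorProduct.mk P L M 1) fun x => by
          have hx : IsUnit (algebraMap P L x) := by
            rw [IsScalarTower.algebraMap_apply P C L]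
            exact IsLocalization.map_units L ⟨algebraMap P C x,
              show algebraMap P C x ∈ Q.asIdeal.primeCompl from fun h => x.2 ((congrArg PrimeSpectrum.asIdeal hQ).le h)⟩
          rw [Module.End.isUnit_iff]
          have : ∀ w : L ⊗[P] M, algebraMap P (Module.End P (L ⊗[P] M)) x w =
              algebraMap P L x • w := fun w => by
            rw [Module.algebraMap_end_apply, algebraMap_smul]
          refine ⟨fun u v huv => ?_, fun w => ⟨(↑hx.unit⁻¹ : L) • w, ?_⟩⟩
          · exact hx.smul_left_cancel.1 (by rw [← this, ← this]; exact huv)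
          · rw [this, smul_smul, IsUnit.mul_val_inv, one_smul]
      have h3 : ∀ x ∈ (p • (⊤ : Submodule A F)), Ψ x = 0 := fun x hx => by
        refine Submodule.smul_induction_on hx (fun a ha w _ => ?_) fun u v hu hv => by
          rw [map_add, hu, hv, add_zero]
        show Ψ (algebraMap A O a • w) = 0
        rw [IsScalarTower.algebraMap_apply A P O, algebraMap_smul, map_smul,
          ← algebraMap_smul L, IsScalarTower.algebraMap_apply P C L]
        have : algebraMap P C (algebraMap A P a) = 0 := by
          rw [← IsScalarTower.algebraMap_apply]; exact algebraMap_eq_zero ha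
        rw [this, map_zero, zero_smul]
      have := h3 _ h2
      rwa [IsLocalizedModule.lift_apply] at this
    rw [hm0] at hm
    have hsu : IsUnit (algebraMap P L s) := by
      rw [IsScalarTower.algebraMap_apply P C L]
      exact IsLocalization.map_units L ⟨algebraMap P C s,
        show algebraMap P C s ∈ Q.asIdeal.primeCompl from fun h => hs ((congrArg PrimeSpectrum.asIdeal hQ).le h)⟩
    rwa [← algebraMap_smul L s z, hsu.smul_eq_zero] at hm
  let e : L ⊗[P] M ≃ₗ[L] G := LinearEquiv.ofBijective Φ ⟨hinjΦ, hsurjΦ⟩
  have : Module.Finite L G := Module.Finite.equiv e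
  have : Module.Finite S G := Module.Finite.of_restrictScalars_finite L S G
  have : Algebra.FiniteType p.ResidueField C := finiteType_fibre (R := P) p C
  have : IsNoetherianRing C := Algebra.FiniteType.isNoetherianRing p.ResidueField C
  have : IsNoetherianRing L := IsLocalization.isNoetherianRing Q.asIdeal.primeCompl L inferInstance
  refine ⟨?_, ?_, fun k => ?_, ?_⟩
  · rw [CAlgH3.depth_congr (M := L ⊗[P] M) (N := G) e, ← CAlgH3.depth_of_surjective (R := L) (S := S) hψ G]
  · rw [Module.supportDim_eq_of_equiv (M := L ⊗[P] M) (N := G) e,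
      ← CommAlg6.supportDim_of_surjective (R := L) (S := S) hψ G]
  · rw [hasSk_congr (M := L ⊗[P] M) (M' := G) e k,
      hasSk_of_surjective_iff (R := L) (S := S) (G := G) hψ k]
  · rw [isEquidimModule_congr (M := L ⊗[P] M) (M' := G) e,
      isEquidimModule_of_surjective_iff (R := L) (S := S) (G := G) hψ]

end Algebra

end Groth.Agent.EGA43.FibDepth
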