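import Groth.Agent.EGA43.FibDepth.Components

/-!
# EGA IV 9.9: constructibility of `(S_k)` and of equidimensionality on the fibres
-/

set_option autoImplicit false
set_option backward.isDefEq.respectTransparency false
set_option linter.unusedSectionVars false

universe u

open CategoryTheory CategoryTheory.Limits AlgebraicGeometry TopologicalSpace TensorProduct Function
open Topology

namespace Groth.Agent.EGA43.FibDepth

open Groth.Agent

attribute [local instance] Algebra.TensorProduct.rightAlgebra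

variable {X Y : Scheme.{u}} (f : X ⟶ Y) (F : X.Modules)

/-- All components of the support of the fibre through a point have one dimension. -/
def EquiP (y : Y) (z : f.fiber y) : Prop :=
  ∀ n m : ℕ, CompP f F n y z → CompP f F m y z → n = m

section Chart

variable {V : Y.Opens} (hV : IsAffineOpen V) {U : X.Opens} (hU : IsAffineOpen U) (e : U ≤ f ⁻¹ᵁ V)
  {P : Type u} [CommRing P] (π : P →+* Γ(X, U)) [Algebra Γ(Y, V) P]
  [Algebra.FinitePresentation Γ(Y, V) P] [Module.Flat Γ(Y, V) P]
  [LocallyOfFinitePresentation f] [Coh.IsQCoh F] (hF : CohB1.IsFP F) (hπ : Surjective π)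
  (hc : π.comp (algebraMap Γ(Y, V) P) = (f.appLE V U e).hom)
  {N : ℕ} (hP : HasAffineSpaceFibres Γ(Y, V) P N)
  [mP : Module P Γ(F, U)] (hmod : ∀ (r : P) (m : Γ(F, U)), r • m = π r • m)
  [Module.FinitePresentation P Γ(F, U)] [Module Γ(Y, V) Γ(F, U)]
  [IsScalarTower Γ(Y, V) P Γ(F, U)]

include hP in
theorem isConstructible_equiSet :
    IsConstructible {x : PrimeSpectrum P | ∀ n m : ℕ, x ∈ compSet Γ(Y, V) Γ(F, U) n →
      x ∈ compSet Γ(Y, V) Γ(F, U) m → n = m} := by
  let W : Fin (N + 1) × Fin (N + 1) → Set (PrimeSpectrum P) := fun a =>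
    if a.1 = a.2 then ∅ else compSet Γ(Y, V) Γ(F, U) a.1 ∩ compSet Γ(Y, V) Γ(F, U) a.2
  have hW : ∀ a, IsConstructible (W a) := fun a => by
    simp only [W]
    split_ifs
    · exact .empty
    · exact (isConstructible_compSet (M := Γ(F, U)) hP a.1).inter
        (isConstructible_compSet (M := Γ(F, U)) hP a.2)
  have hN : ∀ (x : PrimeSpectrum P) (n : ℕ), x ∈ compSet Γ(Y, V) Γ(F, U) n → n < N + 1 := by
    rintro x n ⟨w, -, hws, rfl, -⟩
    obtain ⟨r, -, h1, h2⟩ := exists_rect_eq (M := Γ(F, U)) hP hws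
    omega
  convert (IsConstructible.iUnion hW).compl using 1
  ext x
  simp only [Set.mem_compl_iff, Set.mem_iUnion, not_exists, Set.mem_ofPred_eq]
  constructor
  · intro h a ha
    by_cases hab : a.1 = a.2
    · simp only [W, if_pos hab, Set.mem_empty_iff_false] at ha
    · simp only [W, if_neg hab] at ha
      exact hab (Fin.ext (h _ _ ha.1 ha.2))
  · intro h n m hn hm
    by_contra hne
    refine h (⟨n, hN x n hn⟩, ⟨m, hN x m hm⟩) ?_
    simp only [W, Fin.ext_iff, if_neg hne]
    exact ⟨hn, hm⟩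

include hV hU hπ hc hP hmod hF in
theorem isConstructible_assLoci_preimage (k : ℕ) :
    IsConstructible (hU.fromSpec ⁻¹' {x | SkP f F k (f x) (f.asFiber x)}) ∧
      IsConstructible (hU.fromSpec ⁻¹' {x | EquiP f F (f x) (f.asFiber x)}) := by
  refine ⟨isConstructible_preimage_of_chart f hU π (SkP f F k) _
      (isConstructible_skLocus (M := Γ(F, U)) hP k) fun x hz =>
        (fibre_point_iffs f F hV hU e π hπ hc hF hP hmod hz).2.2.1 k,
    isConstructible_preimage_of_chart f hU π (EquiP f F) _
      (isConstructible_equiSet (U := U) F hP) fun x hz => ?_⟩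
  simp only [EquiP, Set.mem_ofPred_eq]
  exact forall₂_congr fun n m => imp_congr (compP_iff f F hV hU e π hF hπ hc hP hmod n hz)
    (imp_congr (compP_iff f F hV hU e π hF hπ hc hP hmod m hz) Iff.rfl)

end Chart

theorem isLocallyConstructible_assLoci [LocallyOfFinitePresentation f] (hF : CohB1.IsFP F) (k : ℕ) :
    IsLocallyConstructible {x | SkP f F k (f x) (f.asFiber x)} ∧
      IsLocallyConstructible {x | EquiP f F (f x) (f.asFiber x)} := by
  have := isQCoh_of_isFP F hF
  have key : ∀ x : X, ∃ (U : X.Opens) (hU : IsAffineOpen U), x ∈ U ∧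
      IsConstructible (hU.fromSpec ⁻¹' {x | SkP f F k (f x) (f.asFiber x)}) ∧
      IsConstructible (hU.fromSpec ⁻¹' {x | EquiP f F (f x) (f.asFiber x)}) := fun x => by
    obtain ⟨V, hV, hfx, -⟩ := exists_isAffineOpen_mem_and_subset (x := f x) (U := ⊤) trivial
    obtain ⟨U, hU, hxU, e⟩ := exists_isAffineOpen_mem_and_subset (x := x) (U := f ⁻¹ᵁ V) hfx
    obtain ⟨N, π, hπ, hc⟩ := exists_mvPolynomial_surjective (f.appLE V U e).hom
      (RingHom.FiniteType.of_finitePresentation (f.finitePresentation_appLE hV hU e))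
    let _ := Module.compHom Γ(F, U) π
    let _ := QcohFlat.overModule f F V U e
    obtain ⟨h1, h2⟩ := chart_instances f F hF hV hU e π hπ hc
    exact ⟨U, hU, hxU, isConstructible_assLoci_preimage f F hV hU e π hF hπ hc
      (hasAffineSpaceFibres_mvPolynomial Γ(Y, V) N) (fun _ _ => rfl) k⟩
  exact ⟨Cons.isLocallyConstructible_of_forall_fromSpec fun x =>
      let ⟨U, hU, hx, h, _⟩ := key x; ⟨U, hU, hx, h⟩,
    Cons.isLocallyConstructible_of_forall_fromSpec fun x =>
      let ⟨U, hU, hx, _, h⟩ := key x; ⟨U, hU, hx, h⟩⟩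

theorem suppP_structureModule (y : Y) (z : f.fiber y) : SuppP f (Coh.structureModule X) y z := by
  let _ : Algebra (X.presheaf.stalk (f.fiberι y z)) ((f.fiber y).presheaf.stalk z) :=
    ((f.fiberι y).stalkMap z).hom.toAlgebra
  let e1 : ((Scheme.Modules.pullback (f.fiberι y)).obj (Coh.structureModule X)).presheaf.stalk z
      ≃ₗ[(f.fiber y).presheaf.stalk z] (f.fiber y).presheaf.stalk z ⊗[X.presheaf.stalk (f.fiberι y z)]
        (Coh.structureModule X).presheaf.stalk (f.fiberι y z) :=
    ((ModStalk.pullbackStalkIso (f.fiberι y) z).app (Coh.structureModule X)).toLinearEquiv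
  exact (tensorUnitEquiv e1 (unitStalkEquiv (f.fiberι y z))).toEquiv.nontrivial

/-- Equidimensionality of a fibre at a point, in terms of its irreducible components. -/
theorem equiP_structureModule_iff [LocallyOfFinitePresentation f] (y : Y) (z₀ : f.fiber y) :
    (∃ e : ℕ, ∀ Z ∈ irreducibleComponents (↥(f.fiber y) : Type u), z₀ ∈ Z →
      topologicalKrullDim (↥Z : Type u) = e) ↔ EquiP f (Coh.structureModule X) y z₀ := by
  have hcomp : ∀ z, MinP f (Coh.structureModule X) y z →
      closure {z} ∈ irreducibleComponents ↥(f.fiber y) := fun z hz => by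
    obtain ⟨w, hw⟩ := QuasiSober.sober
      (isIrreducible_irreducibleComponent (x := z)) isClosed_irreducibleComponent
    have : w = z := hz.2 w (hw.specializes mem_irreducibleComponent).mem_closure (suppP_structureModule f y w)
    rw [← this, hw.def]
    exact irreducibleComponent_mem_irreducibleComponents z
  have hdim : ∀ z : f.fiber y, ∃ d : ℕ,
      topologicalKrullDim ↥(closure ({z} : Set ↥(f.fiber y))) = (d : WithBot ℕ∞) := fun z => by
    obtain ⟨V, hV, hfx, -⟩ :=
      exists_isAffineOpen_mem_and_subset (x := f (f.fiberι y z)) (U := ⊤) trivial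
    obtain ⟨U, hU, hxU, e⟩ :=
      exists_isAffineOpen_mem_and_subset (x := f.fiberι y z) (U := f ⁻¹ᵁ V) hfx
    exact ⟨_, topologicalKrullDim_closure_eq f hV hU e y z hxU⟩
  constructor
  · rintro ⟨e, he⟩ n m ⟨z, hcl, hz, hn⟩ ⟨z', hcl', hz', hm⟩
    have h1 := hn.symm.trans (he _ (hcomp z hz) hcl)
    have h2 := hm.symm.trans (he _ (hcomp z' hz') hcl')
    exact (Nat.cast_injective (R := WithBot ℕ∞) h1).trans (Nat.cast_injective (R := WithBot ℕ∞) h2).symm
  · intro h
    have key : ∀ Z ∈ irreducibleComponents ↥(f.fiber y), z₀ ∈ Z → ∃ n : ℕ,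
        CompP f (Coh.structureModule X) n y z₀ ∧ topologicalKrullDim ↥Z = (n : WithBot ℕ∞) := by
      intro Z hZ hz₀
      obtain ⟨w, hw⟩ := QuasiSober.sober hZ.1 (isClosed_of_mem_irreducibleComponents Z hZ)
      obtain ⟨n, hn⟩ := hdim w
      refine ⟨n, ⟨w, by rwa [hw.def], ⟨suppP_structureModule f y w, fun w' hcl _ => ?_⟩, hn⟩, ?_⟩
      · have h1 : Z ⊆ closure {w'} := by
          rw [← hw.def]
          exact closure_minimal (Set.singleton_subset_iff.2 hcl) isClosed_closure
        exact IsGenericPoint.eq (x := w') (le_antisymm (hZ.2 isIrreducible_singleton.closure h1) h1) hw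
      · rw [← hw.def]; exact hn
    obtain ⟨n, hn, -⟩ := key _ (irreducibleComponent_mem_irreducibleComponents z₀) mem_irreducibleComponent
    refine ⟨n, fun Z hZ hz₀ => ?_⟩
    obtain ⟨m, hm, hd⟩ := key Z hZ hz₀
    rw [hd, h n m hn hm]

end Groth.Agent.EGA43.FibDepth
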