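import Groth.Agent.EGA43.FibDepth.Scheme
import Mathlib.RingTheory.FiniteType

/-!
# EGA IV 12.1.1, 12.2.1: openness of depth and codepth conditions on the fibres
-/

set_option autoImplicit false
set_option backward.isDefEq.respectTransparency false
set_option linter.style.haveILetI false

universe u

open CategoryTheory CategoryTheory.Limits AlgebraicGeometry TopologicalSpace TensorProduct Function

namespace Groth.Agent.EGA43.FibDepth

open Groth.Agent

attribute [local instance] Algebra.TensorProduct.rightAlgebra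

variable {X Y : Scheme.{u}} (f : X ⟶ Y) (F : X.Modules)

/-- `depth + dim closure ≥ n` at a point of a fibre. -/
def RectifiedDepthGE (n : ℕ) (y : Y) (z : f.fiber y) : Prop :=
  (n : WithBot ℕ∞) ≤
    ((_root_.LocCoh.depth ((f.fiber y).presheaf.stalk z)
        (((Scheme.Modules.pullback (f.fiberι y)).obj F).presheaf.stalk z) : ℕ∞) : WithBot ℕ∞) +
      topologicalKrullDim ↥(closure ({z} : Set ↥(f.fiber y)))

/-- `codepth ≤ k` at a point of a fibre. -/
def CodepthLE (k : ℕ) (y : Y) (z : f.fiber y) : Prop :=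
  Module.supportDim ((f.fiber y).presheaf.stalk z)
      (((Scheme.Modules.pullback (f.fiberι y)).obj F).presheaf.stalk z) ≤
    ((_root_.LocCoh.depth ((f.fiber y).presheaf.stalk z)
        (((Scheme.Modules.pullback (f.fiberι y)).obj F).presheaf.stalk z) : ℕ∞) : WithBot ℕ∞) + k

section Chart

variable {V : Y.Opens} (hV : IsAffineOpen V) {U : X.Opens} (hU : IsAffineOpen U) (e : U ≤ f ⁻¹ᵁ V)
  {P : Type u} [CommRing P] (π : P →+* Γ(X, U))

include hU in
theorem isOpen_inter_of_chart (Pr : ∀ y, f.fiber y → Prop) (W : Set (PrimeSpectrum P))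
    (hW : IsOpen W)
    (h : ∀ (x : X) (hz : f.fiberι (f x) (f.asFiber x) ∈ U), Pr (f x) (f.asFiber x) ↔
      PrimeSpectrum.comap π (hU.primeIdealOf ⟨f.fiberι (f x) (f.asFiber x), hz⟩) ∈ W) :
    IsOpen ({x | Pr (f x) (f.asFiber x)} ∩ (U : Set X)) := by
  have h' : ∀ (x : X) (hx : x ∈ U), Pr (f x) (f.asFiber x) ↔
      PrimeSpectrum.comap π (hU.primeIdealOf ⟨x, hx⟩) ∈ W := fun x hx => by
    have hz : f.fiberι (f x) (f.asFiber x) ∈ U := by rwa [f.fiberι_asFiber]
    rw [h x hz]
    exact iff_of_eq (congrArg (fun w => PrimeSpectrum.comap π (hU.primeIdealOf w) ∈ W)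
      (Subtype.ext (f.fiberι_asFiber x)))
  convert hU.fromSpec.isOpenEmbedding.isOpenMap _ ((PrimeSpectrum.continuous_comap π).isOpen_preimage _ hW)
    using 1
  ext x
  constructor
  · exact fun ⟨hP, hx⟩ => ⟨_, (h' x hx).1 hP, hU.fromSpec_primeIdealOf ⟨x, hx⟩⟩
  · rintro ⟨w, hw, rfl⟩
    have hx : hU.fromSpec w ∈ U := hU.range_fromSpec.le ⟨w, rfl⟩
    refine ⟨(h' _ hx).2 ?_, hx⟩
    rwa [show hU.primeIdealOf ⟨_, hx⟩ = w from
      hU.fromSpec.isOpenEmbedding.injective (hU.fromSpec_primeIdealOf _)]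

variable [Algebra Γ(Y, V) P] [Algebra.FinitePresentation Γ(Y, V) P] [Module.Flat Γ(Y, V) P]

set_option maxHeartbeats 1000000 in
-- instance chains on fibres
include hV hU in
theorem isOpen_loci_inter [LocallyOfFinitePresentation f] [Coh.IsQCoh F] (hF : CohB1.IsFP F)
    (hflat : ∀ x ∈ U, FlatMod.IsFlatOverAt f F x) (N : ℕ) (hP : HasAffineSpaceFibres Γ(Y, V) P N)
    (hπ : Surjective π) (hc : π.comp (algebraMap Γ(Y, V) P) = (f.appLE V U e).hom) (n : ℕ) :
    IsOpen ({x | RectifiedDepthGE f F n (f x) (f.asFiber x)} ∩ (U : Set X)) ∧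
      IsOpen ({x | CodepthLE f F n (f x) (f.asFiber x)} ∩ (U : Set X)) := by
  let _ := (f.appLE V U e).hom.toAlgebra
  let _ : Algebra P Γ(X, U) := π.toAlgebra
  have : IsScalarTower Γ(Y, V) P Γ(X, U) := .of_algebraMap_eq' hc.symm
  let _ := Module.compHom Γ(F, U) π
  have : IsScalarTower P Γ(X, U) Γ(F, U) := IsScalarTower.of_algebraMap_smul fun _ _ => rfl
  let _ := QcohFlat.overModule f F V U e
  have : IsScalarTower Γ(Y, V) P Γ(F, U) := IsScalarTower.of_algebraMap_smul fun a m => by
    show π (algebraMap Γ(Y, V) P a) • m = (f.appLE V U e).hom a • m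
    rw [← hc]; rfl
  have : Algebra.FinitePresentation Γ(Y, V) Γ(X, U) := f.finitePresentation_appLE hV hU e
  have := QcohFP.finitePresentation_sections F hF hU
  have hfp : Module.FinitePresentation P Γ(F, U) :=
    finitePresentation_of_surjective (A := Γ(Y, V)) hπ Γ(F, U)
  have hfin : Module.Finite P Γ(F, U) := inferInstance
  have := flat_sections f F hV hU e hflat
  constructor
  · obtain ⟨W, hW, hiff⟩ := exists_isOpen_rectifiedDepth Γ(Y, V) P N Γ(F, U) n
    refine isOpen_inter_of_chart f hU π (RectifiedDepthGE f F n) W hW fun x hz => ?_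
    obtain ⟨Q, hQ, hdepth, hdim, hcl, -⟩ := exists_fibre_point f F hV hU e π hπ hc hfin _ _ hz
    let p := (PrimeSpectrum.comap π (hU.primeIdealOf ⟨f.fiberι (f x) (f.asFiber x), hz⟩)).asIdeal.comap
      (algebraMap Γ(Y, V) P)
    haveI := isRegularRing_fiber hP p
    rw [RectifiedDepthGE, hdepth, hcl, hiff p (p.Fiber P) (heightFormula_fiber hP p) Q, hQ]
  · obtain ⟨W, hW, hiff⟩ := exists_isOpen_codepth Γ(Y, V) P N Γ(F, U) n
    refine isOpen_inter_of_chart f hU π (CodepthLE f F n) W hW fun x hz => ?_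
    obtain ⟨Q, hQ, hdepth, hdim, hcl, -⟩ := exists_fibre_point f F hV hU e π hπ hc hfin _ _ hz
    let p := (PrimeSpectrum.comap π (hU.primeIdealOf ⟨f.fiberι (f x) (f.asFiber x), hz⟩)).asIdeal.comap
      (algebraMap Γ(Y, V) P)
    haveI := isRegularRing_fiber hP p
    rw [CodepthLE, hdepth, hdim, hiff p (p.Fiber P) (heightFormula_fiber hP p) Q, hQ]

end Chart

theorem exists_mvPolynomial_surjective {A B : Type u} [CommRing A] [CommRing B] (φ : A →+* B)
    (h : φ.FiniteType) : ∃ (N : ℕ) (π : MvPolynomial (Fin N) A →+* B),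
      Surjective π ∧ π.comp (algebraMap A (MvPolynomial (Fin N) A)) = φ := by
  algebraize [φ]
  obtain ⟨N, π, hπ⟩ := Algebra.FiniteType.iff_quotient_mvPolynomial''.1 (inferInstance : Algebra.FiniteType A B)
  exact ⟨N, π.toRingHom, hπ, π.comp_algebraMap⟩

/-- Openness where `F` is flat. -/
theorem isOpen_flat_loci [LocallyOfFinitePresentation f] (hF : CohB1.IsFP F) (n : ℕ) :
    IsOpen {x | FlatMod.IsFlatOverAt f F x ∧ RectifiedDepthGE f F n (f x) (f.asFiber x)} ∧
      IsOpen {x | FlatMod.IsFlatOverAt f F x ∧ CodepthLE f F n (f x) (f.asFiber x)} := by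
  have : Coh.IsQCoh F := by
    haveI : SheafOfModules.IsFinitePresentation (R := X.ringCatSheaf) F := hF
    infer_instance
  let W : X.Opens := ⟨_, QcohFlat.isOpen_setOf_isFlatOverAt f F hF⟩
  have key : ∀ x ∈ W, ∃ U : X.Opens, x ∈ U ∧ U ≤ W ∧
      IsOpen ({x | RectifiedDepthGE f F n (f x) (f.asFiber x)} ∩ (U : Set X)) ∧
      IsOpen ({x | CodepthLE f F n (f x) (f.asFiber x)} ∩ (U : Set X)) := fun x hxW => by
    obtain ⟨V, hV, hfx, -⟩ := exists_isAffineOpen_mem_and_subset (x := f x) (U := ⊤) trivial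
    obtain ⟨U, hU, hxU, hle⟩ :=
      exists_isAffineOpen_mem_and_subset (x := x) (U := f ⁻¹ᵁ V ⊓ W) ⟨hfx, hxW⟩
    have e : U ≤ f ⁻¹ᵁ V := fun y hy => (hle hy).1
    obtain ⟨N, π, hπ, hc⟩ := exists_mvPolynomial_surjective (f.appLE V U e).hom
      (RingHom.FiniteType.of_finitePresentation (f.finitePresentation_appLE hV hU e))
    exact ⟨U, hxU, fun y hy => (hle hy).2, isOpen_loci_inter f F hV hU e π hF
      (fun y hy => (hle hy).2) N (hasAffineSpaceFibres_mvPolynomial Γ(Y, V) N) hπ hc n⟩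
  constructor <;>
  · rw [isOpen_iff_forall_mem_open]
    intro x hx
    obtain ⟨U, hxU, hle, h₁, h₂⟩ := key x hx.1
    first
      | exact ⟨_, fun y hy => ⟨hle hy.2, hy.1⟩, h₁, hx.2, hxU⟩
      | exact ⟨_, fun y hy => ⟨hle hy.2, hy.1⟩, h₂, hx.2, hxU⟩

theorem isOpen_loci [LocallyOfFinitePresentation f] (hF : CohB1.IsFP F)
    (hflat : FlatMod.IsFlatOver f F) (n : ℕ) :
    IsOpen {x | RectifiedDepthGE f F n (f x) (f.asFiber x)} ∧
      IsOpen {x | CodepthLE f F n (f x) (f.asFiber x)} := by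
  have h := isOpen_flat_loci f F hF n
  simpa only [hflat _, true_and] using h

theorem forall_fiber_iff (Pr : ∀ y, f.fiber y → Prop) (y : Y) :
    (∀ z, Pr y z) ↔ ∀ x, f x = y → Pr (f x) (f.asFiber x) := by
  constructor
  · rintro h x rfl
    exact h _
  · intro h z
    suffices ∀ x, f.fiberι y z = x → Pr y z from this _ rfl
    intro x hxz
    have hx : f x = y := hxz ▸ ((f.range_fiberι y).le ⟨z, rfl⟩ : f (f.fiberι y z) = y)
    subst hx
    have : z = f.asFiber x :=
      (f.fiberι (f x)).isEmbedding.injective (hxz.trans (f.fiberι_asFiber x).symm)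
    rw [this]
    exact h x rfl

theorem isOpen_forall_fiber [UniversallyClosed f] (Pr : ∀ y, f.fiber y → Prop)
    (h : IsOpen {x | Pr (f x) (f.asFiber x)}) : IsOpen {y | ∀ z, Pr y z} := by
  have hc := f.isClosedMap _ h.isClosed_compl
  convert hc.isOpen_compl using 1
  ext y
  simp only [Set.mem_compl_iff, Set.mem_image, not_exists, not_and]
  rw [Set.mem_ofPred_eq, forall_fiber_iff f Pr y]
  exact forall_congr' fun x => ⟨fun h' hx hxy => hx (h' hxy),
    fun h' hxy => by_contra fun hx => h' hx hxy⟩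

section CM

/-- Cohen–Macaulay or zero is codepth `≤ 0`. -/
theorem subsingleton_or_isCohenMacaulayModule_iff {R M : Type u} [CommRing R] [IsLocalRing R]
    [IsNoetherianRing R] [AddCommGroup M] [Module R M] [Module.Finite R M] :
    (Subsingleton M ∨ _root_.LocCoh.IsCohenMacaulayModule R M) ↔
      Module.supportDim R M ≤ ((_root_.LocCoh.depth R M : ℕ∞) : WithBot ℕ∞) + ((0 : ℕ) : WithBot ℕ∞) := by
  rw [Nat.cast_zero, add_zero]
  constructor
  · rintro (h | h)
    · rw [Module.supportDim_eq_bot_of_subsingleton]; exact bot_le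
    · exact le_of_eq h
  · intro h
    rcases subsingleton_or_nontrivial M with hM | hM
    · exact .inl hM
    · exact .inr (le_antisymm h CAlgH3.depth_le_supportDim)

variable [LocallyOfFinitePresentation f]

theorem isNoetherianRing_fiber_stalk (y : Y) (z : f.fiber y) :
    IsNoetherianRing ((f.fiber y).presheaf.stalk z) := by
  have : LocallyOfFiniteType (f.fiberToSpecResidueField y) :=
    (inferInstanceAs (LocallyOfFiniteType (Limits.pullback.snd f (Y.fromSpecResidueField y))))
  have := LocallyOfFiniteType.isLocallyNoetherian (f.fiberToSpecResidueField y)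
  infer_instance

omit [LocallyOfFinitePresentation f] in
theorem finite_fiber_stalk (hF : CohB1.IsFP F) (y : Y) (z : f.fiber y) :
    Module.Finite ((f.fiber y).presheaf.stalk z)
      (((Scheme.Modules.pullback (f.fiberι y)).obj F).presheaf.stalk z) := by
  have : Coh.IsQCoh F := by
    haveI : SheafOfModules.IsFinitePresentation (R := X.ringCatSheaf) F := hF
    infer_instance
  obtain ⟨U, hU, hxU, -⟩ :=
    exists_isAffineOpen_mem_and_subset (x := f.fiberι y z) (U := ⊤) trivial
  have := QcohFP.finitePresentation_sections F hF hU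
  let _ : Algebra Γ(X, U) (X.presheaf.stalk (f.fiberι y z)) :=
    (X.presheaf.germ U (f.fiberι y z) hxU).hom.toAlgebra
  let _ : Module Γ(X, U) (F.presheaf.stalk (f.fiberι y z)) :=
    Module.compHom _ (X.presheaf.germ U (f.fiberι y z) hxU).hom
  have : IsScalarTower Γ(X, U) (X.presheaf.stalk (f.fiberι y z)) (F.presheaf.stalk (f.fiberι y z)) :=
    IsScalarTower.of_algebraMap_smul fun _ _ => rfl
  let φ : Γ(F, U) →ₗ[Γ(X, U)] F.presheaf.stalk (f.fiberι y z) :=
    { toFun := fun m => F.presheaf.germ U (f.fiberι y z) hxU m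
      map_add' := fun a b => map_add _ a b
      map_smul' := fun r m => QCohLoc.germ_smul' F hxU r m }
  have := QcohFP.isLocalizedModule_germ F hU hxU φ fun _ => rfl
  have := hU.isLocalization_stalk ⟨f.fiberι y z, hxU⟩
  have : Module.Finite (X.presheaf.stalk (f.fiberι y z)) (F.presheaf.stalk (f.fiberι y z)) :=
    Module.Finite.of_isLocalizedModule (hU.primeIdealOf ⟨f.fiberι y z, hxU⟩).asIdeal.primeCompl φ
  let _ : Algebra (X.presheaf.stalk (f.fiberι y z)) ((f.fiber y).presheaf.stalk z) :=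
    ((f.fiberι y).stalkMap z).hom.toAlgebra
  let e1 : ((Scheme.Modules.pullback (f.fiberι y)).obj F).presheaf.stalk z ≃ₗ[(f.fiber y).presheaf.stalk z]
      (f.fiber y).presheaf.stalk z ⊗[X.presheaf.stalk (f.fiberι y z)] F.presheaf.stalk (f.fiberι y z) :=
    ((ModStalk.pullbackStalkIso (f.fiberι y) z).app F).toLinearEquiv
  exact Module.Finite.equiv e1.symm

theorem codepthLE_zero_iff (hF : CohB1.IsFP F) (y : Y) (z : f.fiber y) :
    (Subsingleton (((Scheme.Modules.pullback (f.fiberι y)).obj F).presheaf.stalk z) ∨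
      _root_.LocCoh.IsCohenMacaulayModule ((f.fiber y).presheaf.stalk z)
        (((Scheme.Modules.pullback (f.fiberι y)).obj F).presheaf.stalk z)) ↔ CodepthLE f F 0 y z := by
  have := isNoetherianRing_fiber_stalk f y z
  have := finite_fiber_stalk f F hF y z
  exact subsingleton_or_isCohenMacaulayModule_iff

end CM

end Groth.Agent.EGA43.FibDepth
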