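import Groth.Prelude.Def_CInt
import Groth.Agent.EGA43.FibDepth.Open
import Groth.Agent.EGA43.FibDepth.Unit
import Groth.Agent.EGA43.FibDepth.ConsAffine
import Groth.Agent.EGA43.Cons.FibreClosureScheme

/-!
# EGA IV 9.9, 12.1: constructibility of depth conditions on the fibres
-/

set_option autoImplicit false
set_option backward.isDefEq.respectTransparency false
set_option linter.style.haveILetI false

universe u

open CategoryTheory CategoryTheory.Limits AlgebraicGeometry TopologicalSpace TensorProduct Function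
open Topology

namespace Groth.Agent.EGA43.FibDepth

open Groth.Agent

attribute [local instance] Algebra.TensorProduct.rightAlgebra

variable {X Y : Scheme.{u}} (f : X ⟶ Y) (F : X.Modules)

section Chart

variable {V : Y.Opens} (hV : IsAffineOpen V) {U : X.Opens} (hU : IsAffineOpen U) (e : U ≤ f ⁻¹ᵁ V)
  {P : Type u} [CommRing P] (π : P →+* Γ(X, U))

include hU in
theorem isConstructible_preimage_of_chart (Pr : ∀ y, f.fiber y → Prop) (W : Set (PrimeSpectrum P))
    (hW : IsConstructible W)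
    (h : ∀ (x : X) (hz : f.fiberι (f x) (f.asFiber x) ∈ U), Pr (f x) (f.asFiber x) ↔
      PrimeSpectrum.comap π (hU.primeIdealOf ⟨f.fiberι (f x) (f.asFiber x), hz⟩) ∈ W) :
    IsConstructible (hU.fromSpec ⁻¹' {x | Pr (f x) (f.asFiber x)}) := by
  suffices he : (hU.fromSpec ⁻¹' {x | Pr (f x) (f.asFiber x)} : Set (PrimeSpectrum Γ(X, U))) =
      PrimeSpectrum.comap π ⁻¹' W by
    rw [he]
    obtain ⟨S, hS⟩ := PrimeSpectrum.exists_constructibleSetData_iff.2 hW
    rw [← hS, ← PrimeSpectrum.ConstructibleSetData.toSet_map]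
    exact PrimeSpectrum.ConstructibleSetData.isConstructible_toSet _
  ext (q : PrimeSpectrum Γ(X, U))
  have hy : hU.fromSpec q ∈ U := hU.range_fromSpec.le ⟨q, rfl⟩
  have hz : f.fiberι (f (hU.fromSpec q)) (f.asFiber (hU.fromSpec q)) ∈ U := by
    rwa [f.fiberι_asFiber]
  have hpr : hU.primeIdealOf ⟨_, hz⟩ = q := by
    rw [show (⟨_, hz⟩ : U) = ⟨_, hy⟩ from Subtype.ext (f.fiberι_asFiber _)]
    exact hU.fromSpec.isOpenEmbedding.injective (hU.fromSpec_primeIdealOf _)
  rw [Set.mem_preimage, Set.mem_preimage, Set.mem_ofPred_eq, h _ hz, hpr]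

variable [Algebra Γ(Y, V) P] [Algebra.FinitePresentation Γ(Y, V) P] [Module.Flat Γ(Y, V) P]

set_option maxHeartbeats 1000000 in
-- instance chains on fibres
include hV hU in
theorem isConstructible_loci_preimage [LocallyOfFinitePresentation f] [Coh.IsQCoh F]
    (hF : CohB1.IsFP F) (N : ℕ) (hP : HasAffineSpaceFibres Γ(Y, V) P N)
    (hπ : Surjective π) (hc : π.comp (algebraMap Γ(Y, V) P) = (f.appLE V U e).hom) (n : ℕ) :
    IsConstructible (hU.fromSpec ⁻¹' {x | RectifiedDepthGE f F n (f x) (f.asFiber x)}) ∧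
      IsConstructible (hU.fromSpec ⁻¹' {x | CodepthLE f F n (f x) (f.asFiber x)}) := by
  let _ := (f.appLE V U e).hom.toAlgebra
  let _ : Algebra P Γ(X, U) := π.toAlgebra
  have : IsScalarTower Γ(Y, V) P Γ(X, U) := .of_algebraMap_eq' hc.symm
  let _ := Module.compHom Γ(F, U) π
  have : IsScalarTower P Γ(X, U) Γ(F, U) := IsScalarTower.of_algebraMap_smul fun _ _ => rfl
  let _ := QcohFlat.overModule f F V U e
  have : IsScalarTower Γ(Y, V) P Γ(F, U) := IsScalarTower.of_algebraMap_smul fun a m => by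
    show π (algebraMap Γ(Y, V) P a) • m = (f.appLE V U e).hom a • m
    rw [← hc]; rfl
  have : Algebra.FinitePresentation Γ(Y, V) Γ(X, U) := f.finitePresentation_appLE hV hU e
  have := QcohFP.finitePresentation_sections F hF hU
  have hfp : Module.FinitePresentation P Γ(F, U) :=
    finitePresentation_of_surjective (A := Γ(Y, V)) hπ Γ(F, U)
  have hfin : Module.Finite P Γ(F, U) := inferInstance
  constructor
  · obtain ⟨W, hW, hiff⟩ := exists_isConstructible_rectifiedDepth Γ(Y, V) P N Γ(F, U) n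
    refine isConstructible_preimage_of_chart f hU π (RectifiedDepthGE f F n) W hW fun x hz => ?_
    obtain ⟨Q, hQ, hdepth, hdim, hcl, -⟩ := exists_fibre_point f F hV hU e π hπ hc hfin _ _ hz
    let p := (PrimeSpectrum.comap π (hU.primeIdealOf ⟨f.fiberι (f x) (f.asFiber x), hz⟩)).asIdeal.comap
      (algebraMap Γ(Y, V) P)
    haveI := isRegularRing_fiber hP p
    rw [RectifiedDepthGE, hdepth, hcl, hiff p (p.Fiber P) (heightFormula_fiber hP p) Q, hQ]
  · obtain ⟨W, hW, hiff⟩ := exists_isConstructible_codepth Γ(Y, V) P N Γ(F, U) n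
    refine isConstructible_preimage_of_chart f hU π (CodepthLE f F n) W hW fun x hz => ?_
    obtain ⟨Q, hQ, hdepth, hdim, hcl, -⟩ := exists_fibre_point f F hV hU e π hπ hc hfin _ _ hz
    let p := (PrimeSpectrum.comap π (hU.primeIdealOf ⟨f.fiberι (f x) (f.asFiber x), hz⟩)).asIdeal.comap
      (algebraMap Γ(Y, V) P)
    haveI := isRegularRing_fiber hP p
    rw [CodepthLE, hdepth, hdim, hiff p (p.Fiber P) (heightFormula_fiber hP p) Q, hQ]

set_option maxHeartbeats 1000000 in
-- instance chains on fibres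
include hV hU in
omit [Module.Flat Γ(Y, V) P] in
theorem rectifiedDepth_eq_top [LocallyOfFinitePresentation f] (hπ : Surjective π)
    (hc : π.comp (algebraMap Γ(Y, V) P) = (f.appLE V U e).hom) (hF : CohB1.IsFP F) {N : ℕ}
    (hP : HasAffineSpaceFibres Γ(Y, V) P N) (x : X) (hz : f.fiberι (f x) (f.asFiber x) ∈ U)
    (h : RectifiedDepthGE f F (N + 1) (f x) (f.asFiber x)) :
    ((CInt.fiberDepth f F x : ℕ∞) : WithBot ℕ∞) +
        topologicalKrullDim ↥(closure ({f.asFiber x} : Set ↥(f.fiber (f.base x)))) =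
      ((⊤ : ℕ∞) : WithBot ℕ∞) := by
  have : Coh.IsQCoh F := by
    haveI : SheafOfModules.IsFinitePresentation (R := X.ringCatSheaf) F := hF
    infer_instance
  let _ := (f.appLE V U e).hom.toAlgebra
  let _ : Algebra P Γ(X, U) := π.toAlgebra
  have : IsScalarTower Γ(Y, V) P Γ(X, U) := .of_algebraMap_eq' hc.symm
  let _ := Module.compHom Γ(F, U) π
  have : IsScalarTower P Γ(X, U) Γ(F, U) := IsScalarTower.of_algebraMap_smul fun _ _ => rfl
  have : Algebra.FinitePresentation Γ(Y, V) Γ(X, U) := f.finitePresentation_appLE hV hU e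
  have := QcohFP.finitePresentation_sections F hF hU
  have hfp : Module.FinitePresentation P Γ(F, U) :=
    finitePresentation_of_surjective (A := Γ(Y, V)) hπ Γ(F, U)
  have hfin : Module.Finite P Γ(F, U) := inferInstance
  obtain ⟨Q, hQ, hdepth, hdim, hcl, -⟩ := exists_fibre_point f F hV hU e π hπ hc hfin _ _ hz
  let p := (PrimeSpectrum.comap π (hU.primeIdealOf ⟨f.fiberι (f x) (f.asFiber x), hz⟩)).asIdeal.comap
    (algebraMap Γ(Y, V) P)
  haveI := isRegularRing_fiber hP p
  rw [RectifiedDepthGE, hdepth, hcl,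
    natCast_le_depth_add_iff Γ(F, U) p Q (heightFormula_fiber hP p)] at h
  have hsub := h.resolve_right fun h' => by omega
  show ((_root_.LocCoh.depth ((f.fiber (f x)).presheaf.stalk (f.asFiber x))
    (((Scheme.Modules.pullback (f.fiberι (f x))).obj F).presheaf.stalk (f.asFiber x)) : ℕ∞) :
      WithBot ℕ∞) + _ = _
  rw [hdepth, hcl, CAlgH3.depth_eq_top_of_subsingleton,
    ringKrullDim_quotient_eq_trd (R := P) p Q, ← WithBot.coe_natCast, ← WithBot.coe_add, top_add]

end Chart

theorem coe_add_eq_coe_iff (δ : ℕ∞) (d m : ℕ) :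
    (δ : WithBot ℕ∞) + (d : WithBot ℕ∞) = ((m : ℕ∞) : WithBot ℕ∞) ↔
      (m : WithBot ℕ∞) ≤ (δ : WithBot ℕ∞) + (d : WithBot ℕ∞) ∧
        ¬ ((m + 1 : ℕ) : WithBot ℕ∞) ≤ (δ : WithBot ℕ∞) + (d : WithBot ℕ∞) := by
  induction δ using ENat.recTopCoe with
  | top =>
    have : ((⊤ : ℕ∞) : WithBot ℕ∞) + (d : WithBot ℕ∞) = ((⊤ : ℕ∞) : WithBot ℕ∞) := rfl
    rw [this]
    refine iff_of_false (fun h => ENat.natCast_ne_top m (WithBot.coe_inj.1 h).symm) fun h => h.2 ?_
    exact WithBot.coe_le_coe.2 le_top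
  | coe δ =>
    rw [show ((δ : ℕ∞) : WithBot ℕ∞) + (d : WithBot ℕ∞) = ((δ + d : ℕ) : WithBot ℕ∞) by push_cast; rfl,
      show ((m : ℕ∞) : WithBot ℕ∞) = ((m : ℕ) : WithBot ℕ∞) from rfl, Nat.cast_le, Nat.cast_le,
      Nat.cast_inj]
    omega

theorem exists_nat_dim_depth (R : Type u) [CommRing R] [IsLocalRing R] [IsNoetherianRing R] :
    ∃ a b : ℕ, b ≤ a ∧ ringKrullDim R = (a : WithBot ℕ∞) ∧
      ((_root_.LocCoh.depth R R : ℕ∞) : WithBot ℕ∞) = (b : WithBot ℕ∞) := by
  obtain ⟨b, hb⟩ := CAlgH3.exists_depth_eq_natCast (R := R) (M := R)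
  obtain ⟨a, ha⟩ := ENat.ne_top_iff_exists.1 (Ideal.height_ne_top (I := IsLocalRing.maximalIdeal R)
    (IsLocalRing.maximalIdeal.isMaximal R).ne_top)
  have ha' : ringKrullDim R = (a : WithBot ℕ∞) := by
    rw [← IsLocalRing.maximalIdeal_height_eq_ringKrullDim, ← ha]; rfl
  refine ⟨a, b, ?_, ha', by rw [hb]; rfl⟩
  have h := CAlgH3.depth_le_supportDim (R := R) (M := R)
  rw [Module.supportDim_self_eq_ringKrullDim, hb, ha'] at h
  exact Nat.cast_le.1 h

theorem isLocallyConstructible_loci [LocallyOfFinitePresentation f] (hF : CohB1.IsFP F) (n : ℕ) :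
    IsLocallyConstructible {x | RectifiedDepthGE f F n (f x) (f.asFiber x)} ∧
      IsLocallyConstructible {x | CodepthLE f F n (f x) (f.asFiber x)} := by
  have : Coh.IsQCoh F := by
    haveI : SheafOfModules.IsFinitePresentation (R := X.ringCatSheaf) F := hF
    infer_instance
  have key : ∀ x : X, ∃ (U : X.Opens) (hU : IsAffineOpen U), x ∈ U ∧
      IsConstructible (hU.fromSpec ⁻¹' {x | RectifiedDepthGE f F n (f x) (f.asFiber x)}) ∧
      IsConstructible (hU.fromSpec ⁻¹' {x | CodepthLE f F n (f x) (f.asFiber x)}) := fun x => by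
    obtain ⟨V, hV, hfx, -⟩ := exists_isAffineOpen_mem_and_subset (x := f x) (U := ⊤) trivial
    obtain ⟨U, hU, hxU, e⟩ := exists_isAffineOpen_mem_and_subset (x := x) (U := f ⁻¹ᵁ V) hfx
    obtain ⟨N, π, hπ, hc⟩ := exists_mvPolynomial_surjective (f.appLE V U e).hom
      (RingHom.FiniteType.of_finitePresentation (f.finitePresentation_appLE hV hU e))
    exact ⟨U, hU, hxU, isConstructible_loci_preimage f F hV hU e π hF N
      (hasAffineSpaceFibres_mvPolynomial Γ(Y, V) N) hπ hc n⟩
  exact ⟨Cons.isLocallyConstructible_of_forall_fromSpec fun x =>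
      let ⟨U, hU, hx, h, _⟩ := key x; ⟨U, hU, hx, h⟩,
    Cons.isLocallyConstructible_of_forall_fromSpec fun x =>
      let ⟨U, hU, hx, _, h⟩ := key x; ⟨U, hU, hx, h⟩⟩

/-- The level sets of the rectified depth are locally constructible. -/
theorem isLocallyConstructible_rectifiedDepth_eq [LocallyOfFinitePresentation f]
    (hF : CohB1.IsFP F) (n : ℕ∞) :
    IsLocallyConstructible {x : X |
      ((CInt.fiberDepth f F x : ℕ∞) : WithBot ℕ∞) +
          topologicalKrullDim ↥(closure ({f.asFiber x} : Set ↥(f.fiber (f.base x)))) =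
        ((n : ℕ∞) : WithBot ℕ∞)} := by
  have hge : ∀ m : ℕ, IsLocallyConstructible {x | RectifiedDepthGE f F m (f x) (f.asFiber x)} :=
    fun m => (isLocallyConstructible_loci f F hF m).1
  have hiff : ∀ (x : X) (m : ℕ), RectifiedDepthGE f F m (f x) (f.asFiber x) ↔
      (m : WithBot ℕ∞) ≤ ((CInt.fiberDepth f F x : ℕ∞) : WithBot ℕ∞) +
        topologicalKrullDim ↥(closure ({f.asFiber x} : Set ↥(f.fiber (f.base x)))) := fun _ _ => Iff.rfl
  have hdim : ∀ x : X, ∃ d : ℕ,
      topologicalKrullDim ↥(closure ({f.asFiber x} : Set ↥(f.fiber (f.base x)))) = (d : WithBot ℕ∞) :=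
    fun x => by
      obtain ⟨V, hV, hfx, -⟩ := exists_isAffineOpen_mem_and_subset (x := f x) (U := ⊤) trivial
      obtain ⟨U, hU, hxU, e⟩ := exists_isAffineOpen_mem_and_subset (x := x) (U := f ⁻¹ᵁ V) hfx
      exact ⟨_, topologicalKrullDim_closure_eq f hV hU e (f x) (f.asFiber x)
        (show f.fiberι (f x) (f.asFiber x) ∈ U by rwa [f.fiberι_asFiber])⟩
  induction n using ENat.recTopCoe with
  | coe m =>
    convert (hge m).inter (Cons.isLocallyConstructible_compl (hge (m + 1))) using 1
    ext x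
    obtain ⟨d, hd⟩ := hdim x
    simp only [Set.mem_ofPred_eq, Set.mem_inter_iff, Set.mem_compl_iff, hiff, hd]
    exact coe_add_eq_coe_iff _ d m
  | top =>
    refine Cons.isLocallyConstructible_of_forall_fromSpec fun x => ?_
    obtain ⟨V, hV, hfx, -⟩ := exists_isAffineOpen_mem_and_subset (x := f x) (U := ⊤) trivial
    obtain ⟨U, hU, hxU, e⟩ := exists_isAffineOpen_mem_and_subset (x := x) (U := f ⁻¹ᵁ V) hfx
    obtain ⟨N, π, hπ, hc⟩ := exists_mvPolynomial_surjective (f.appLE V U e).hom
      (RingHom.FiniteType.of_finitePresentation (f.finitePresentation_appLE hV hU e))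
    refine ⟨U, hU, hxU, ?_⟩
    convert Cons.isConstructible_preimage_fromSpec (hge (N + 1)) hU using 1
    ext (q : PrimeSpectrum Γ(X, U))
    obtain ⟨d, hd⟩ := hdim (hU.fromSpec q)
    simp only [Set.mem_preimage, Set.mem_ofPred_eq]
    constructor
    · intro h
      rw [hiff, h]
      rw [← WithBot.coe_natCast (N + 1), WithBot.coe_le_coe]
      exact le_top
    · intro h
      exact rectifiedDepth_eq_top f F hV hU e π hπ hc hF (hasAffineSpaceFibres_mvPolynomial Γ(Y, V) N)
        _ (by rw [f.fiberι_asFiber]; exact hU.range_fromSpec.le ⟨q, rfl⟩) h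

/-- The locus `codepth = n` of the local rings of the fibres. -/
theorem isLocallyConstructible_codepth_eq [LocallyOfFinitePresentation f] (n : ℕ) :
    IsLocallyConstructible {x : X |
      ringKrullDim ((f.fiber (f.base x)).presheaf.stalk (f.asFiber x)) =
        ((_root_.LocCoh.depth ((f.fiber (f.base x)).presheaf.stalk (f.asFiber x))
          ((f.fiber (f.base x)).presheaf.stalk (f.asFiber x)) : ℕ∞) : WithBot ℕ∞) + n} := by
  have hle : ∀ k, IsLocallyConstructible
      {x : X | CodepthLE f (Coh.structureModule X) k (f x) (f.asFiber x)} :=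
    fun k => (isLocallyConstructible_loci f _ (isFP_structureModule X) k).2
  have hnat : ∀ x : X, ∃ a b : ℕ, b ≤ a ∧
      ringKrullDim ((f.fiber (f.base x)).presheaf.stalk (f.asFiber x)) = (a : WithBot ℕ∞) ∧
      ((_root_.LocCoh.depth ((f.fiber (f.base x)).presheaf.stalk (f.asFiber x))
          ((f.fiber (f.base x)).presheaf.stalk (f.asFiber x)) : ℕ∞) : WithBot ℕ∞) = (b : WithBot ℕ∞) :=
    fun x => by
      have := isNoetherianRing_fiber_stalk f (f x) (f.asFiber x)
      exact exists_nat_dim_depth _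
  cases n with
  | zero =>
    convert hle 0 using 1
    ext x
    obtain ⟨a, b, hab, ha, hb⟩ := hnat x
    simp only [Set.mem_ofPred_eq, codepthLE_structureModule_iff]
    rw [ha, hb, ← Nat.cast_add, Nat.cast_inj, Nat.cast_le]
    omega
  | succ m =>
    convert (hle (m + 1)).inter (Cons.isLocallyConstructible_compl (hle m)) using 1
    ext x
    obtain ⟨a, b, hab, ha, hb⟩ := hnat x
    simp only [Set.mem_ofPred_eq, Set.mem_inter_iff, Set.mem_compl_iff,
      codepthLE_structureModule_iff]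
    rw [ha, hb, ← Nat.cast_add, ← Nat.cast_add, Nat.cast_inj, Nat.cast_le, Nat.cast_le]
    omega

/-- The Cohen–Macaulay locus of the fibres. -/
theorem isLocallyConstructible_fibre_isCM [LocallyOfFinitePresentation f] :
    IsLocallyConstructible {x : X |
      _root_.LocCoh.IsCohenMacaulayLocalRing ((f.fiber (f.base x)).presheaf.stalk (f.asFiber x))} := by
  convert (isLocallyConstructible_loci f _ (isFP_structureModule X) 0).2 using 1
  ext x
  exact isCohenMacaulayLocalRing_iff_codepthLE f (f x) (f.asFiber x)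

/-- The base points with Cohen–Macaulay fibre. -/
theorem isLocallyConstructible_setOf_fibre_isCM [LocallyOfFinitePresentation f] [QuasiCompact f] :
    IsLocallyConstructible {y : Y | ∀ z : ↥(f.fiber y),
      _root_.LocCoh.IsCohenMacaulayLocalRing ((f.fiber y).presheaf.stalk z)} := by
  convert Cons.isLocallyConstructible_compl (f.isLocallyConstructible_image
    (Cons.isLocallyConstructible_compl (isLocallyConstructible_fibre_isCM f))) using 1
  ext y
  simp only [Set.mem_compl_iff, Set.mem_image, not_exists, not_and, Set.mem_ofPred_eq]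
  rw [forall_fiber_iff f (fun y z =>
    _root_.LocCoh.IsCohenMacaulayLocalRing ((f.fiber y).presheaf.stalk z)) y]
  exact forall_congr' fun x => ⟨fun h hx hxy => hx (h hxy),
    fun h hxy => by_contra fun hx => h hx hxy⟩

end Groth.Agent.EGA43.FibDepth
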