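import Groth.Agent.EGA43.FibDepth.Strata
import Groth.Agent.SmoothLib.AtPoint
import Groth.Agent.H8Top.Noetherian
import Mathlib.RingTheory.Extension.Presentation.Core
import Mathlib.RingTheory.FiniteType
import Mathlib.RingTheory.Spectrum.Prime.Chevalley

/-!
# The smooth points of the fibres of an algebra of finite presentation form a constructible set
-/

set_option autoImplicit false
set_option backward.isDefEq.respectTransparency false
set_option linter.style.haveILetI false

universe u

open TensorProduct PrimeSpectrum Topology Function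

namespace Groth.Agent.EGA43.FibDepth

open Groth.Agent

variable (A : Type u) [CommRing A] {B : Type u} [CommRing B] [Algebra A B]

/-- The fibre through `q` is smooth at `q`, over every field of definition. -/
def FSm (q : PrimeSpectrum B) : Prop :=
  ∀ (K : Type u) [Field K] [Algebra A K] (Q : Ideal (K ⊗[A] B)) [Q.IsPrime],
    Q.comap (Algebra.TensorProduct.includeRight : B →ₐ[A] K ⊗[A] B).toRingHom = q.asIdeal →
      Algebra.IsSmoothAt K Q

variable {A}

theorem isSmoothAt_algEquiv {R : Type u} [CommRing R] {S T : Type u} [CommRing S] [CommRing T]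
    [Algebra R S] [Algebra R T] (e : S ≃ₐ[R] T) (Q : Ideal T) [Q.IsPrime] :
    Algebra.IsSmoothAt R (Q.comap e.toAlgHom.toRingHom) ↔ Algebra.IsSmoothAt R Q := by
  let E : Localization.AtPrime (Q.comap e.toAlgHom.toRingHom) ≃ₐ[R] Localization.AtPrime Q :=
    IsLocalization.algEquivOfAlgEquiv (M := (Q.comap e.toAlgHom.toRingHom).primeCompl)
      (T := Q.primeCompl) _ _ e (by
        ext x
        exact ⟨fun ⟨y, hy, hyx⟩ => hyx ▸ hy,
          fun hx => ⟨e.symm x, show e (e.symm x) ∉ Q by rwa [e.apply_symm_apply], e.apply_symm_apply x⟩⟩)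
  exact ⟨fun h => @Algebra.FormallySmooth.of_equiv _ _ _ _ _ _ _ _ h E,
    fun h => @Algebra.FormallySmooth.of_equiv _ _ _ _ _ _ _ _ h E.symm⟩

/-- Smoothness over a field of definition can be read in the fibre. -/
theorem isSmoothAt_iff_fiber [Algebra.FinitePresentation A B] (q : PrimeSpectrum B)
    (K : Type u) [Field K] [Algebra A K] (Q : Ideal (K ⊗[A] B)) [Q.IsPrime]
    (hQ : Q.comap (Algebra.TensorProduct.includeRight : B →ₐ[A] K ⊗[A] B).toRingHom = q.asIdeal) :
    let p := q.asIdeal.comap (algebraMap A B)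
    ∀ (Q₀ : Ideal (p.Fiber B)) [Q₀.IsPrime],
      Q₀.comap (Algebra.TensorProduct.includeRight : B →ₐ[A] p.Fiber B).toRingHom = q.asIdeal →
      (Algebra.IsSmoothAt K Q ↔ Algebra.IsSmoothAt p.ResidueField Q₀) := by
  intro p Q₀ _ hQ₀
  have hker : ∀ a, algebraMap A K a = 0 ↔ a ∈ p := fun a => by
    show _ ↔ algebraMap A B a ∈ q.asIdeal
    rw [← hQ, Ideal.mem_comap]
    show _ ↔ (1 : K) ⊗ₜ[A] algebraMap A B a ∈ Q
    rw [Algebra.algebraMap_eq_smul_one (A := B), ← smul_tmul, ← Algebra.algebraMap_eq_smul_one]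
    show _ ↔ algebraMap K (K ⊗[A] B) (algebraMap A K a) ∈ Q
    rw [← Ideal.mem_comap, (Ideal.eq_bot_or_top (Q.comap (algebraMap K (K ⊗[A] B)))).resolve_right
      (Ideal.comap_ne_top _ ‹Q.IsPrime›.ne_top), Ideal.mem_bot]
  let φ : p.ResidueField →+* K := Ideal.ResidueField.lift p (algebraMap A K)
    (fun a ha => (hker a).2 ha) (fun a ha => isUnit_iff_ne_zero.2 fun h => ha ((hker a).1 h))
  let _ : Algebra p.ResidueField K := φ.toAlgebra
  haveI : IsScalarTower A p.ResidueField K := .of_algebraMap_eq fun a =>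
    (Ideal.ResidueField.lift_algebraMap ..).symm
  let e : K ⊗[p.ResidueField] (p.Fiber B) ≃ₐ[K] K ⊗[A] B :=
    Algebra.TensorProduct.cancelBaseChange A p.ResidueField K K B
  let Q' := Q.comap e.toAlgHom.toRingHom
  haveI : Q'.IsPrime := Ideal.comap_isPrime _ _
  let R' := Q'.comap
    (Algebra.TensorProduct.includeRight : p.Fiber B →ₐ[p.ResidueField] K ⊗[p.ResidueField] p.Fiber B).toRingHom
  haveI : R'.IsPrime := Ideal.comap_isPrime _ _
  have hcomp : R'.comap (Algebra.TensorProduct.includeRight : B →ₐ[A] p.Fiber B).toRingHom = q.asIdeal := by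
    refine Eq.trans ?_ hQ
    ext b
    show e ((1 : K) ⊗ₜ[p.ResidueField] ((1 : p.ResidueField) ⊗ₜ[A] b)) ∈ Q ↔ (1 : K) ⊗ₜ[A] b ∈ Q
    rw [Algebra.TensorProduct.cancelBaseChange_tmul, one_smul]
  have hR : R' = Q₀ := by
    have key : ∀ (I J : Ideal (p.Fiber B)) [I.IsPrime] [J.IsPrime],
        I.comap (Algebra.TensorProduct.includeRight : B →ₐ[A] p.Fiber B).toRingHom = q.asIdeal →
        J.comap (Algebra.TensorProduct.includeRight : B →ₐ[A] p.Fiber B).toRingHom = q.asIdeal →
        I = J := by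
      intro I J _ _ hI hJ
      exact congrArg PrimeSpectrum.asIdeal
        ((PrimeSpectrum.preimageEquivFiber A B ⟨p, inferInstance⟩).symm.injective
          (a₁ := ⟨I, ‹_›⟩) (a₂ := ⟨J, ‹_›⟩) (Subtype.ext (PrimeSpectrum.ext (hI.trans hJ.symm))))
    exact key R' Q₀ hcomp hQ₀
  haveI : Algebra.FinitePresentation p.ResidueField (p.Fiber B) :=
    Algebra.FinitePresentation.baseChange _
  rw [← isSmoothAt_algEquiv (S := K ⊗[p.ResidueField] p.Fiber B) (T := K ⊗[A] B) e Q]
  constructor
  · intro h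
    subst hR
    exact SmoothLib.isSmoothAt_of_fieldExtension p.ResidueField K (p.Fiber B) Q' R' rfl
  · intro h
    exact SmoothLib.isSmoothAt_baseChange K Q' Q₀ hR

theorem exists_fiber_prime (q : PrimeSpectrum B) :
    ∃ (Q₀ : Ideal ((q.asIdeal.comap (algebraMap A B)).Fiber B)) (_ : Q₀.IsPrime),
      Q₀.comap (Algebra.TensorProduct.includeRight :
        B →ₐ[A] (q.asIdeal.comap (algebraMap A B)).Fiber B).toRingHom = q.asIdeal := by
  let E := PrimeSpectrum.preimageEquivFiber A B ⟨q.asIdeal.comap (algebraMap A B), inferInstance⟩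
  exact ⟨(E ⟨q, rfl⟩).asIdeal, (E ⟨q, rfl⟩).isPrime,
    congrArg (fun w => w.1.asIdeal) (E.symm_apply_apply ⟨q, rfl⟩)⟩

/-- One field of definition suffices. -/
theorem fSm_iff [Algebra.FinitePresentation A B] (q : PrimeSpectrum B)
    (K : Type u) [Field K] [Algebra A K] (Q : Ideal (K ⊗[A] B)) [Q.IsPrime]
    (hQ : Q.comap (Algebra.TensorProduct.includeRight : B →ₐ[A] K ⊗[A] B).toRingHom = q.asIdeal) :
    FSm A q ↔ Algebra.IsSmoothAt K Q := by
  refine ⟨fun h => h K Q hQ, fun h L _ _ P _ hP => ?_⟩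
  obtain ⟨Q₀, _, hQ₀⟩ := exists_fiber_prime (A := A) q
  exact (isSmoothAt_iff_fiber q L P hP Q₀ hQ₀).2 ((isSmoothAt_iff_fiber q K Q hQ Q₀ hQ₀).1 h)

/-- Invariance of fibrewise smoothness under change of base. -/
theorem fSm_baseChange [Algebra.FinitePresentation A B] (A' : Type u) [CommRing A'] [Algebra A A']
    {B' : Type u} [CommRing B'] [Algebra A' B'] [Algebra.FinitePresentation A' B']
    (ψ : A' ⊗[A] B ≃ₐ[A'] B') (q' : PrimeSpectrum B') :
    FSm A' q' ↔ FSm A (PrimeSpectrum.comap (ψ.toAlgHom.toRingHom.comp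
      (Algebra.TensorProduct.includeRight : B →ₐ[A] A' ⊗[A] B).toRingHom) q') := by
  obtain ⟨Q, hQp, hQ⟩ := exists_fiber_prime (A := A') q'
  let K := (q'.asIdeal.comap (algebraMap A' B')).ResidueField
  let e : K ⊗[A] B ≃ₐ[K] K ⊗[A'] B' :=
    (Algebra.TensorProduct.cancelBaseChange A A' K K B).symm.trans
      (Algebra.TensorProduct.congr AlgEquiv.refl ψ)
  haveI : (Q.comap e.toAlgHom.toRingHom).IsPrime := Ideal.comap_isPrime _ _
  rw [fSm_iff q' K Q hQ, fSm_iff _ K (Q.comap e.toAlgHom.toRingHom) ?_, isSmoothAt_algEquiv]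
  rw [PrimeSpectrum.comap_asIdeal, ← Ideal.comap_comap]
  refine Eq.trans ?_ (congrArg _ (congrArg _ hQ))
  ext b
  show e ((1 : K) ⊗ₜ[A] b) ∈ Q ↔ (1 : K) ⊗ₜ[A'] ψ ((1 : A') ⊗ₜ[A] b) ∈ Q
  simp [e]

/-- For a flat algebra, fibrewise smoothness is smoothness. -/
theorem fSm_iff_isSmoothAt [Algebra.FinitePresentation A B] [Module.Flat A B] (q : PrimeSpectrum B) :
    FSm A q ↔ Algebra.IsSmoothAt A q.asIdeal := by
  constructor
  · intro h
    obtain ⟨Q₀, _, hQ₀⟩ := exists_fiber_prime (A := A) q
    haveI := h _ Q₀ hQ₀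
    exact SmoothLib.isSmoothAt_of_fibre _ q.asIdeal Q₀ hQ₀
  · intro h K _ _ Q _ hQ
    exact SmoothLib.isSmoothAt_baseChange K Q q.asIdeal hQ

theorem isOpen_fSm [Algebra.FinitePresentation A B] [Module.Flat A B] :
    IsOpen {q : PrimeSpectrum B | FSm A q} := by
  convert Algebra.isOpen_smoothLocus (R := A) (A := B) using 1
  ext q
  exact fSm_iff_isSmoothAt q

theorem isConstructible_fSm_of_isNoetherianRing [IsNoetherianRing A]
    [Algebra.FinitePresentation A B] : IsConstructible {q : PrimeSpectrum B | FSm A q} := by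
  haveI : Module.FinitePresentation B B := inferInstance
  obtain ⟨s, hs, hfg, hflat⟩ := exists_flat_strata A B B
  have key : ∀ x : s, ∃ E : Set (PrimeSpectrum B), IsConstructible E ∧ (∀ q ∈ E, FSm A q) ∧
      ∀ q : PrimeSpectrum B, x.1.1 ≤ q.asIdeal.comap (algebraMap A B) →
        x.1.2 ∉ q.asIdeal.comap (algebraMap A B) → FSm A q → q ∈ E := by
    rintro ⟨x, hx⟩
    let D := StratumRing x
    haveI : Algebra.FinitePresentation A D := finitePresentation_stratumRing x (hfg x hx)
    haveI : IsNoetherianRing D := Algebra.FiniteType.isNoetherianRing A D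
    let BD := D ⊗[A] B
    haveI : Module.Flat D BD := hflat x hx
    haveI : Algebra.FinitePresentation D BD := Algebra.FinitePresentation.baseChange _
    haveI : IsNoetherianRing BD := Algebra.FiniteType.isNoetherianRing D BD
    let i : B →+* BD := (Algebra.TensorProduct.includeRight : B →ₐ[A] D ⊗[A] B).toRingHom
    have hinv : ∀ qD : PrimeSpectrum BD, FSm D qD ↔ FSm A (PrimeSpectrum.comap i qD) := fun qD =>
      fSm_baseChange (A := A) D AlgEquiv.refl qD
    refine ⟨PrimeSpectrum.comap i '' {qD | FSm D qD}, ?_, ?_, fun q h1 h2 hq => ?_⟩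
    · refine isConstructible_comap_image ?_
        (H8Top.isConstructible_of_isOpen (isOpen_fSm (A := D) (B := BD)))
      let _ := i.toAlgebra
      haveI : IsScalarTower A B BD := .of_algebraMap_eq fun a =>
        ((Algebra.TensorProduct.includeRight : B →ₐ[A] D ⊗[A] B).commutes a).symm
      haveI : Algebra.FinitePresentation A BD := Algebra.FinitePresentation.trans A D BD
      exact RingHom.finitePresentation_algebraMap.2
        (Algebra.FinitePresentation.of_restrict_scalars_finitePresentation A B BD)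
    · rintro _ ⟨qD, hq, rfl⟩
      exact (hinv qD).1 hq
    · obtain ⟨φ⟩ := exists_algHom_stratumRing (A := A) (B := q.asIdeal.ResidueField) x
        (fun a ha => by
          rw [IsScalarTower.algebraMap_apply A B q.asIdeal.ResidueField]
          exact Ideal.algebraMap_residueField_eq_zero.2 (h1 ha))
        (IsUnit.mk0 _ fun h => h2 (by
          rw [IsScalarTower.algebraMap_apply A B q.asIdeal.ResidueField] at h
          exact Ideal.mem_comap.2 (Ideal.algebraMap_residueField_eq_zero.1 h)))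
      let l : BD →ₐ[A] q.asIdeal.ResidueField := Algebra.TensorProduct.lift φ
        (IsScalarTower.toAlgHom A B _) fun _ _ => Commute.all _ _
      refine ⟨⟨RingHom.ker l.toRingHom, RingHom.ker_isPrime _⟩, ?_, ?_⟩
      · rw [Set.mem_ofPred_eq, hinv]
        convert hq using 1
        ext b
        show Algebra.TensorProduct.lift φ (IsScalarTower.toAlgHom A B q.asIdeal.ResidueField) _
          ((1 : D) ⊗ₜ[A] b) = 0 ↔ _
        rw [Algebra.TensorProduct.lift_tmul, map_one, one_mul]
        exact Ideal.algebraMap_residueField_eq_zero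
      · ext b
        show Algebra.TensorProduct.lift φ (IsScalarTower.toAlgHom A B q.asIdeal.ResidueField) _
          ((1 : D) ⊗ₜ[A] b) = 0 ↔ _
        rw [Algebra.TensorProduct.lift_tmul, map_one, one_mul]
        exact Ideal.algebraMap_residueField_eq_zero
  choose E hE hsub hmem using key
  convert IsConstructible.iUnion hE using 1
  ext q
  simp only [Set.mem_ofPred_eq, Set.mem_iUnion]
  constructor
  · intro hq
    obtain ⟨x, hx, h1, h2⟩ := hs ⟨q.asIdeal.comap (algebraMap A B), inferInstance⟩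
    exact ⟨⟨x, hx⟩, hmem ⟨x, hx⟩ q h1 h2 hq⟩
  · rintro ⟨x, hx⟩
    exact hsub x q hx

/-- The smooth points of the fibres form a constructible set. -/
theorem isConstructible_fSm [Algebra.FinitePresentation A B] :
    IsConstructible {q : PrimeSpectrum B | FSm A q} := by
  let P := Algebra.Presentation.ofFinitePresentation A B
  haveI : IsNoetherianRing P.Core := Algebra.FiniteType.isNoetherianRing ℤ P.Core
  let B₀ := P.ModelOfHasCoeffs P.Core
  let ψ : A ⊗[P.Core] B₀ ≃ₐ[A] B := P.tensorModelOfHasCoeffsEquiv P.Core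
  have h := isConstructible_fSm_of_isNoetherianRing (A := P.Core) (B := B₀)
  obtain ⟨S, hS⟩ := PrimeSpectrum.exists_constructibleSetData_iff.2 h
  convert PrimeSpectrum.ConstructibleSetData.isConstructible_toSet (S.map (ψ.toAlgHom.toRingHom.comp
    (Algebra.TensorProduct.includeRight : B₀ →ₐ[P.Core] A ⊗[P.Core] B₀).toRingHom)) using 1
  ext q
  rw [PrimeSpectrum.ConstructibleSetData.toSet_map, Set.mem_preimage, hS]
  exact fSm_baseChange A ψ q

end Groth.Agent.EGA43.FibDepth
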