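import Groth.Agent.EGA43.FibDepth.Loci

/-!
# `(R_k)` on the fibres, from a given non-regular locus

For a set `Z` of points (in the application: the non-smooth points of the fibres), `rkLocus Z k` is
the set of points `x` such that the generisations of `x` in `Z` in its fibre have codimension `> k`.
It is constructible, and open after intersection with `(S_1)` (`k = 0`) or with `(S_1)` and
equidimensionality, for flat modules and closed `Z`.
-/

set_option autoImplicit false
set_option backward.isDefEq.respectTransparency false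
set_option linter.unusedSectionVars false

universe u

open TensorProduct Function PrimeSpectrum Topology

namespace Groth.Agent.EGA43.FibDepth

open Groth.Agent

variable (A : Type u) {P : Type u} [CommRing A] [CommRing P] [Algebra A P] (M : Type u)
  [AddCommGroup M] [Module P M]

/-- The codimension of `q` in the support of its fibre is at most `k`. -/
def CodimLE (k : ℕ) (q : PrimeSpectrum P) : Prop :=
  ∀ m, q ∈ compSet A M m → m ≤ trd A q + k

/-- The generisations in `Z` of codimension `≤ k` in the fibre are absent. -/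
def rkLocus (Z : Set (PrimeSpectrum P)) (k : ℕ) : Set (PrimeSpectrum P) :=
  {x | ∀ q, FibGen A q x → q ∈ Module.support P M → CodimLE A M k q → q ∉ Z}

variable {A M} [Algebra.FinitePresentation A P] [Module.Flat A P] {N : ℕ}
  (hP : HasAffineSpaceFibres A P N) [Module.FinitePresentation P M] [Module A M]
  [IsScalarTower A P M]

include hP in
theorem isConstructible_rkLocus {Z : Set (PrimeSpectrum P)} (hZ : IsConstructible Z) (k : ℕ) :
    IsConstructible (rkLocus A M Z k : Set (PrimeSpectrum P)) := by
  let W : Fin (N + 1) → Set (PrimeSpectrum P) := fun r =>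
    trdGE A ((Z ∩ Module.support P M) ∩ trdLocus A (Module.support P M) r) ((r : ℕ) - k)
  have hW : ∀ r, IsConstructible (W r) := fun r =>
    isConstructible_trdGE A ((hZ.inter (isConstructible_support (P := P) M)).inter
      (isConstructible_trdLocus (A := A) (isConstructible_support (P := P) M) _)) _
  convert (IsConstructible.iUnion hW).compl using 1
  ext x
  simp only [Set.mem_compl_iff, Set.mem_iUnion, not_exists]
  constructor
  · rintro h r ⟨q, hgen, ⟨⟨hZq, hs⟩, hmax⟩, hc⟩
    refine h q hgen hs ?_ hZq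
    rintro m ⟨w, hw, hws, rfl, -⟩
    have := hmax w hw.1 hw.2 hws
    omega
  · intro h q hgen hs hcod hZq
    obtain ⟨r, -, h1, h2⟩ := exists_rect_eq hP hs
    refine h ⟨min N (trd A q + k), Nat.lt_succ_of_le (min_le_left _ _)⟩
      ⟨q, hgen, ⟨⟨hZq, hs⟩, ?_⟩, by simp only; omega⟩
    intro q' hle hp hs'
    obtain ⟨r', -, h1', h2'⟩ := exists_rect_eq hP hs'
    obtain ⟨w, hw, hws, hwmin⟩ := exists_minimal_fibGen hP hs'
    have h3 := hcod _ ⟨w, hw.trans ⟨hle, hp⟩, hws, rfl, hwmin⟩
    have h4 : trd A q' ≤ trd A w := by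
      by_cases hwq : w = q'
      · rw [hwq]
      · exact (hw.trd_lt hP hwq).le
    simp only [le_min_iff]
    omega

variable [Module.Flat A M]

include hP in
/-- `(R_0)` and `(S_1)` form an open condition. -/
theorem isOpen_rkLocus_zero_inter {Z : Set (PrimeSpectrum P)} (hZ : IsClosed Z)
    (hZc : IsConstructible Z) :
    IsOpen (rkLocus A M Z 0 ∩ skLocus A M 1 : Set (PrimeSpectrum P)) := by
  refine PrimeSpectrum.isOpen_of_stableUnderGeneralization_of_isConstructible ?_
    ((isConstructible_rkLocus hP hZc 0).inter (isConstructible_skLocus hP 1))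
  rintro x x' hs ⟨hx, hx1⟩
  refine ⟨fun q' hgen' hs' hcod hZq' => ?_, hs.mem_open (isOpen_skLocus hP 1) hx1⟩
  have hle : x'.asIdeal ≤ x.asIdeal := (PrimeSpectrum.le_iff_specializes x' x).2 hs
  have hmin : ∀ q'', FibGen A q'' q' → q'' ∈ Module.support P M → q'' = q' := by
    intro q'' hq'' hs''
    obtain ⟨w, hw, hws, hwmin⟩ := exists_minimal_fibGen hP hs''
    have h := hcod _ ⟨w, hw.trans hq'', hws, rfl, hwmin⟩
    by_contra hne
    have h1 := hq''.trd_lt hP hne
    by_cases hwq : w = q''
    · rw [hwq] at h; omega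
    · have := hw.trd_lt hP hwq; omega
  obtain ⟨q, hq'q, hqx, hass, -⟩ := exists_assSet_component hP (hgen'.1.trans hle)
    (mem_assSet_of_minimal hP hs' hmin)
  refine hx q hqx hass.1 ?_ (((PrimeSpectrum.le_iff_specializes q' q).1 hq'q).mem_closed hZ hZq')
  rintro m ⟨w, hw, hws, rfl, -⟩
  rw [minimal_of_mem_assSet hP hx1 hqx hass w hw hws]
  exact le_self_add

include hP in
/-- `(R_k)`, `(S_j)` and one dimension of associated points form an open condition. -/
theorem isOpen_rkLocus_inter {Z : Set (PrimeSpectrum P)} (hZ : IsClosed Z) (hZc : IsConstructible Z)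
    (k j : ℕ) (hj : 1 ≤ j) (d : ℕ) :
    IsOpen (rkLocus A M Z k ∩ (skLocus A M j ∩ assLocus A M {d}) : Set (PrimeSpectrum P)) := by
  refine PrimeSpectrum.isOpen_of_stableUnderGeneralization_of_isConstructible ?_
    ((isConstructible_rkLocus hP hZc k).inter
      ((isConstructible_skLocus hP j).inter (isConstructible_assLocus hP {d})))
  rintro x x' hs ⟨hx, hxj, hxd⟩
  have hx'j : x' ∈ skLocus A M j := hs.mem_open (isOpen_skLocus hP j) hxj
  have hx'd : x' ∈ assLocus A M {d} := hs.mem_open (isOpen_assLocus hP {d}) hxd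
  refine ⟨fun q' hgen' hs' hcod hZq' => ?_, hx'j, hx'd⟩
  have hle : x'.asIdeal ≤ x.asIdeal := (PrimeSpectrum.le_iff_specializes x' x).2 hs
  obtain ⟨w', hw', hws', hwmin'⟩ := exists_minimal_fibGen hP hs'
  have h1 : trd A w' = d :=
    hx'd w' (hw'.trans hgen') (mem_assSet_of_minimal hP hws' hwmin')
  have h2 := hcod _ ⟨w', hw', hws', rfl, hwmin'⟩
  obtain ⟨q, hq'q, hqx, htq⟩ := exists_component (A := A) (hgen'.1.trans hle)
  refine hx q hqx (mem_support_of_le hq'q hs') ?_
    (((PrimeSpectrum.le_iff_specializes q' q).1 hq'q).mem_closed hZ hZq')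
  rintro m ⟨w, hw, hws, rfl, hwmin⟩
  have : trd A w = d := hxd w (hw.trans hqx) (mem_assSet_of_minimal hP hws hwmin)
  omega

end Groth.Agent.EGA43.FibDepth
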