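import Groth.Agent.EGA43.FibDepth.LociScheme
import Groth.Agent.EGA43.FibDepth.ConsLoci
import Groth.Agent.EGA43.FibDepth.GeomLoci
import Groth.Agent.EGA43.FibDepth.GeomScheme
import Groth.Agent.EGA43.FibDepth.GeomAffine

/-!
# Geometric `(R_k)` on the fibres in a chart
-/

set_option autoImplicit false
set_option backward.isDefEq.respectTransparency false
set_option linter.unusedSectionVars false
set_option linter.style.haveILetI false

universe u

open CategoryTheory CategoryTheory.Limits AlgebraicGeometry TopologicalSpace TensorProduct Function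
open Topology

namespace Groth.Agent.EGA43.FibDepth

open Groth.Agent

attribute [local instance] Algebra.TensorProduct.rightAlgebra

section Algebra

theorem ringKrullDim_quotient_le_iff {R : Type u} [CommRing R] (J : Ideal R) (k : WithBot ℕ∞) :
    ringKrullDim (R ⧸ J) ≤ k ↔ ∀ P ∈ J.minimalPrimes, ringKrullDim (R ⧸ P) ≤ k := by
  refine ⟨fun h P hP => (ringKrullDim_le_of_surjective _
    (Ideal.Quotient.factor_surjective hP.1.2)).trans h, fun h => ?_⟩
  rw [ringKrullDim_quotient, Order.krullDim]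
  refine iSup_le fun s => ?_
  obtain ⟨P', hP', hle⟩ := Ideal.exists_minimalPrimes_le (J := s.head.1.asIdeal) s.head.2
  have hmem : ∀ i, (s i).1 ∈ PrimeSpectrum.zeroLocus (P' : Set R) := fun i =>
    hle.trans (show s.head.1 ≤ (s i).1 from s.head_le i)
  let t : LTSeries (PrimeSpectrum.zeroLocus (P' : Set R)) :=
    ⟨s.length, fun i => ⟨(s i).1, hmem i⟩, s.step⟩
  refine le_trans ?_ (h P' hP')
  rw [ringKrullDim_quotient]
  exact Order.LTSeries.length_le_krullDim t

theorem exists_nat_dim_quotient {R : Type u} [CommRing R] [IsLocalRing R] [IsNoetherianRing R]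
    (P : Ideal R) (hP : P.IsPrime) : ∃ d : ℕ, ringKrullDim (R ⧸ P) = (d : WithBot ℕ∞) := by
  haveI : Nontrivial (R ⧸ P) := Ideal.Quotient.nontrivial_iff.2 hP.ne_top
  haveI : IsLocalRing (R ⧸ P) := .of_surjective' _ Ideal.Quotient.mk_surjective
  exact CommAlg6.exists_nat_ringKrullDim_eq (R ⧸ P)

theorem omega_dim {D : WithBot ℕ∞} {t w k : ℕ} (hd : ∃ d : ℕ, D = (d : WithBot ℕ∞))
    (h : D + (t : WithBot ℕ∞) = (w : WithBot ℕ∞)) : D ≤ (k : WithBot ℕ∞) ↔ w ≤ t + k := by
  obtain ⟨d, rfl⟩ := hd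
  have e1 : d + t = w := by exact_mod_cast h
  rw [Nat.cast_le]
  omega

variable {A P : Type u} [CommRing A] [CommRing P] [Algebra A P] [Algebra.FinitePresentation A P]
  [Module.Flat A P] {N : ℕ} (hP : HasAffineSpaceFibres A P N)
  {M : Type u} [AddCommGroup M] [Module P M] [Module.FinitePresentation P M] [Module A M]
  [IsScalarTower A P M]

include hP in
/-- The dimension of `C_Q ⊗ M` is the codimension. -/
theorem supportDim_fibMod_le_iff (q : PrimeSpectrum P)
    (Q : PrimeSpectrum ((q.asIdeal.comap (algebraMap A P)).Fiber P))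
    (hQ : PrimeSpectrum.comap (algebraMap P ((q.asIdeal.comap (algebraMap A P)).Fiber P)) Q = q)
    (k : ℕ) :
    Module.supportDim (Localization.AtPrime Q.asIdeal) (Localization.AtPrime Q.asIdeal ⊗[P] M) ≤
        (k : WithBot ℕ∞) ↔ CodimLE A M k q := by
  let p := q.asIdeal.comap (algebraMap A P)
  haveI := isRegularRing_fiber hP p
  have hC := heightFormula_fiber hP p
  have h1 := fun w => minimalPrimes_fibMod (M := M) (p := p) hC Q w
  have h2 := fun {P₁} (hP₁ : Ideal.IsPrime P₁) => minimal_dim (P := P) (p := p) hC Q hP₁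
  rw [hQ] at h1 h2
  rw [Module.supportDim_eq_ringKrullDim_quotient_annihilator, ringKrullDim_quotient_le_iff]
  haveI : IsRegularLocalRing (Localization.AtPrime Q.asIdeal) :=
    IsRegularRing.isRegularLocalRing_localization _
  constructor
  · rintro h m ⟨w, hw, hws, rfl, hwmin⟩
    obtain ⟨P₁, hP₁, -, -, hd⟩ := (h1 w).1 ⟨hw, hws, hwmin⟩
    exact (omega_dim (exists_nat_dim_quotient P₁ hP₁.1.1) hd).1 (h P₁ hP₁)
  · intro h P₁ hP₁
    let w := PrimeSpectrum.comap (algebraMap P (Localization.AtPrime Q.asIdeal)) ⟨P₁, hP₁.1.1⟩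
    obtain ⟨hw, hws, hwmin⟩ := (h1 w).2 ⟨P₁, hP₁, hP₁.1.1, rfl, h2 hP₁.1.1⟩
    exact (omega_dim (exists_nat_dim_quotient P₁ hP₁.1.1) (h2 hP₁.1.1)).2
      (h _ ⟨w, hw, hws, rfl, hwmin⟩)

end Algebra

variable {X Y : Scheme.{u}} (f : X ⟶ Y)

theorem exists_algebraMap_residueField {V : Y.Opens} (hV : IsAffineOpen V) {y : Y} (hy : y ∈ V) :
    ∃ φ : Γ(Y, V) →+* IsLocalRing.ResidueField (Y.presheaf.stalk y),
      Y.fromSpecResidueField y = Spec.map (CommRingCat.ofHom φ) ≫ hV.fromSpec := by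
  have hr : Set.range (Y.fromSpecResidueField y) ⊆ Set.range hV.fromSpec := by
    rw [Y.range_fromSpecResidueField, hV.range_fromSpec]
    simpa using hy
  obtain ⟨ψ, hψ⟩ := Spec.map_surjective
    (IsOpenImmersion.lift hV.fromSpec (Y.fromSpecResidueField y) hr)
  refine ⟨ψ.hom, ?_⟩
  rw [CommRingCat.ofHom_hom, hψ, IsOpenImmersion.lift_fac]

/-- Smoothness of the fibre at a point, in a chart. -/
theorem smoothP_iff_fSm [LocallyOfFinitePresentation f] {V : Y.Opens} (hV : IsAffineOpen V)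
    {U : X.Opens} (hU : IsAffineOpen U) (e : U ≤ f ⁻¹ᵁ V) {y : Y} {z : f.fiber y}
    (hz : f.fiberι y z ∈ U) :
    letI := (f.appLE V U e).hom.toAlgebra
    SmoothP f y z ↔ FSm Γ(Y, V) (hU.primeIdealOf ⟨f.fiberι y z, hz⟩) := by
  let _ := (f.appLE V U e).hom.toAlgebra
  have : Algebra.FinitePresentation Γ(Y, V) Γ(X, U) := f.finitePresentation_appLE hV hU e
  have hy : y ∈ V := by
    have : f (f.fiberι y z) ∈ V := e hz
    rwa [show f (f.fiberι y z) = y from (f.range_fiberι y).le ⟨z, rfl⟩] at this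
  obtain ⟨φ, hφ⟩ := exists_algebraMap_residueField (Y := Y) hV hy
  let _ : Algebra Γ(Y, V) (IsLocalRing.ResidueField (Y.presheaf.stalk y)) := φ.toAlgebra
  obtain ⟨j', hj', hrange, h1, h2⟩ := exists_chart_baseChange
    (T := IsLocalRing.ResidueField (Y.presheaf.stalk y)) f hV.fromSpec hU.fromSpec
    (IsAffineOpen.SpecMap_appLE_fromSpec f hV hU e).symm
    (Y.fromSpecResidueField y) hφ
  obtain ⟨Q, hQ⟩ : (z : ↑(pullback f (Y.fromSpecResidueField y))) ∈ Set.range j' := by
    rw [hrange, Set.mem_preimage, hU.range_fromSpec]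
    exact hz
  subst hQ
  haveI : Algebra.FinitePresentation (IsLocalRing.ResidueField (Y.presheaf.stalk y))
      (IsLocalRing.ResidueField (Y.presheaf.stalk y) ⊗[Γ(Y, V)] Γ(X, U)) :=
    Algebra.FinitePresentation.baseChange _
  rw [fSm_iff _ _ Q.asIdeal ?_]
  · exact formallySmooth_stalkMap_chart_iff j' (pullback.snd f (Y.fromSpecResidueField y)) h2 Q
  · have h' : (j' ≫ pullback.fst f (Y.fromSpecResidueField y)) Q = f.fiberι y (j' Q) := rfl
    rw [h1] at h'
    exact congrArg PrimeSpectrum.asIdeal (hU.fromSpec.isOpenEmbedding.injective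
      (h'.trans (hU.fromSpec_primeIdealOf ⟨f.fiberι y (j' Q), hz⟩).symm))

section Chart

variable {V : Y.Opens} (hV : IsAffineOpen V) {U : X.Opens} (hU : IsAffineOpen U) (e : U ≤ f ⁻¹ᵁ V)
  {P : Type u} [CommRing P] (π : P →+* Γ(X, U)) [Algebra Γ(Y, V) P]
  [Algebra.FinitePresentation Γ(Y, V) P] [Module.Flat Γ(Y, V) P]
  [LocallyOfFinitePresentation f] [Coh.IsQCoh (Coh.structureModule X)] (hπ : Surjective π)
  (hc : π.comp (algebraMap Γ(Y, V) P) = (f.appLE V U e).hom)
  {N : ℕ} (hP : HasAffineSpaceFibres Γ(Y, V) P N)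
  [mP : Module P Γ(Coh.structureModule X, U)]
  (hmod : ∀ (r : P) (m : Γ(Coh.structureModule X, U)), r • m = π r • m)
  [Module.FinitePresentation P Γ(Coh.structureModule X, U)]
  [Module Γ(Y, V) Γ(Coh.structureModule X, U)]
  [IsScalarTower Γ(Y, V) P Γ(Coh.structureModule X, U)]

/-- The non-smooth points of the fibres, in the chart. -/
def nsLocus : Set (PrimeSpectrum P) :=
  letI := (f.appLE V U e).hom.toAlgebra
  PrimeSpectrum.comap π '' {q | ¬ FSm Γ(Y, V) q}

include hV hU hπ hc in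
theorem isConstructible_nsLocus : IsConstructible (nsLocus f e π) := by
  let _ := (f.appLE V U e).hom.toAlgebra
  let _ : Algebra P Γ(X, U) := π.toAlgebra
  have : IsScalarTower Γ(Y, V) P Γ(X, U) := .of_algebraMap_eq' hc.symm
  have : Algebra.FinitePresentation Γ(Y, V) Γ(X, U) := f.finitePresentation_appLE hV hU e
  refine PrimeSpectrum.isConstructible_comap_image ?_ (isConstructible_fSm (A := Γ(Y, V))).compl
  exact RingHom.finitePresentation_algebraMap.2
    (Algebra.FinitePresentation.of_restrict_scalars_finitePresentation Γ(Y, V) P Γ(X, U))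

include hV hU hπ in
theorem isClosed_nsLocus
    (hflat : letI := (f.appLE V U e).hom.toAlgebra; Module.Flat Γ(Y, V) Γ(X, U)) :
    IsClosed (nsLocus f e π) := by
  let _ := (f.appLE V U e).hom.toAlgebra
  have : Algebra.FinitePresentation Γ(Y, V) Γ(X, U) := f.finitePresentation_appLE hV hU e
  exact (PrimeSpectrum.isClosedEmbedding_comap_of_surjective _ π hπ).isClosedMap _
    (isOpen_fSm (A := Γ(Y, V))).isClosed_compl

include hV hU hπ in
theorem smoothP_iff_notMem {y : Y} {z : f.fiber y} (hz : f.fiberι y z ∈ U) :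
    SmoothP f y z ↔ chartPt f hU π hz ∉ nsLocus f e π := by
  let _ := (f.appLE V U e).hom.toAlgebra
  rw [smoothP_iff_fSm f hV hU e hz, nsLocus, chartPt,
    (PrimeSpectrum.comap_injective_of_surjective π hπ).mem_set_image]
  simp

include hV hπ hc hP hmod in
theorem ringKrullDim_stalk_le_iff {y : Y} {z : f.fiber y} (hz : f.fiberι y z ∈ U) (k : ℕ) :
    ringKrullDim ((f.fiber y).presheaf.stalk z) ≤ (k : WithBot ℕ∞) ↔
      CodimLE Γ(Y, V) Γ(Coh.structureModule X, U) k (chartPt f hU π hz) := by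
  obtain rfl : mP = Module.compHom Γ(Coh.structureModule X, U) π := Module.ext' _ _ hmod
  let _ : Module P Γ(Coh.structureModule X, U) := Module.compHom Γ(Coh.structureModule X, U) π
  have hfin : Module.Finite P Γ(Coh.structureModule X, U) := inferInstance
  obtain ⟨Q, hQ, -, hdim, -⟩ :=
    exists_fibre_point f (Coh.structureModule X) hV hU e π hπ hc hfin y z hz
  let _ : Algebra (X.presheaf.stalk (f.fiberι y z)) ((f.fiber y).presheaf.stalk z) :=
    ((f.fiberι y).stalkMap z).hom.toAlgebra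
  let e1 : ((Scheme.Modules.pullback (f.fiberι y)).obj (Coh.structureModule X)).presheaf.stalk z
      ≃ₗ[(f.fiber y).presheaf.stalk z] (f.fiber y).presheaf.stalk z ⊗[X.presheaf.stalk (f.fiberι y z)]
        (Coh.structureModule X).presheaf.stalk (f.fiberι y z) :=
    ((ModStalk.pullbackStalkIso (f.fiberι y) z).app (Coh.structureModule X)).toLinearEquiv
  rw [Module.supportDim_eq_of_equiv (tensorUnitEquiv e1 (unitStalkEquiv (f.fiberι y z))),
    Module.supportDim_self_eq_ringKrullDim] at hdim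
  rw [hdim]
  exact supportDim_fibMod_le_iff hP (chartPt f hU π hz) Q hQ k

include hV hπ hc hP hmod in
theorem rkP_iff_mem {y : Y} {z₀ : f.fiber y} (hz₀ : f.fiberι y z₀ ∈ U) (k : ℕ) :
    RkP f k y z₀ ↔ chartPt f hU π hz₀ ∈
      rkLocus Γ(Y, V) Γ(Coh.structureModule X, U) (nsLocus f e π) k := by
  constructor
  · intro h q hgen hs hcod
    obtain ⟨z, hz, hsp, rfl⟩ := exists_point_of_fibGen f hV hU e π hπ hc hz₀
      (ker_le_of_mem_support (Coh.structureModule X) π hmod hs) hgen
    exact (smoothP_iff_notMem f hV hU e π hπ hz).1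
      (h z hsp ((ringKrullDim_stalk_le_iff f hV hU e π hπ hc hP hmod hz k).2 hcod))
  · intro h z hsp hdim
    obtain ⟨hz, hgen⟩ := exists_fibGen_of_specializes f hV hU e π hc hsp hz₀
    refine (smoothP_iff_notMem f hV hU e π hπ hz).2 (h _ hgen ?_
      ((ringKrullDim_stalk_le_iff f hV hU e π hπ hc hP hmod hz k).1 hdim))
    exact (fibre_point_iffs f (Coh.structureModule X) hV hU e π hπ hc (isFP_structureModule X) hP
      hmod hz).1.1 (suppP_structureModule f y z)

end Chart

end Groth.Agent.EGA43.FibDepth
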