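import Groth.Agent.EGA43.FibDepth.ConsScheme
import Groth.Agent.EGA43.FibDepth.LociLocal

/-!
# Points of fibres in a chart, and the loci of `FibDepth.Loci`

`chartPt` sends a point of a fibre lying in an affine chart `Γ(X, U) = P / I` to its prime of `P`;
generisations in the fibre correspond to `FibGen`.
-/

set_option autoImplicit false
set_option backward.isDefEq.respectTransparency false
set_option linter.unusedSectionVars false

universe u

open CategoryTheory CategoryTheory.Limits AlgebraicGeometry TopologicalSpace TensorProduct Function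

namespace Groth.Agent.EGA43.FibDepth

open Groth.Agent

attribute [local instance] Algebra.TensorProduct.rightAlgebra

/-- The invariants of a local module `G` that agree with those of `C_Q ⊗ M`. -/
theorem local_iffs {A P : Type u} [CommRing A] [CommRing P] [Algebra A P]
    [Algebra.FinitePresentation A P] [Module.Flat A P] {N : ℕ} (hP : HasAffineSpaceFibres A P N)
    {M : Type u} [AddCommGroup M] [Module P M] [Module.FinitePresentation P M] [Module A M]
    [IsScalarTower A P M] (q : PrimeSpectrum P)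
    (Q : PrimeSpectrum ((q.asIdeal.comap (algebraMap A P)).Fiber P))
    (hQ : PrimeSpectrum.comap (algebraMap P ((q.asIdeal.comap (algebraMap A P)).Fiber P)) Q = q)
    {S G : Type u} [CommRing S] [IsLocalRing S] [IsNoetherianRing S] [AddCommGroup G] [Module S G]
    [Module.Finite S G] {d : WithBot ℕ∞}
    (hdepth : _root_.LocCoh.depth S G = _root_.LocCoh.depth (Localization.AtPrime Q.asIdeal)
      (Localization.AtPrime Q.asIdeal ⊗[P] M))
    (hdim : Module.supportDim S G = Module.supportDim (Localization.AtPrime Q.asIdeal)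
      (Localization.AtPrime Q.asIdeal ⊗[P] M))
    (hcl : d = ringKrullDim ((q.asIdeal.comap (algebraMap A P)).Fiber P ⧸ Q.asIdeal))
    (hsk : ∀ k, _root_.LocCoh.HasSk k S G ↔ _root_.LocCoh.HasSk k (Localization.AtPrime Q.asIdeal)
      (Localization.AtPrime Q.asIdeal ⊗[P] M))
    (heq : EGA4.IsEquidimModule S G ↔ EGA4.IsEquidimModule (Localization.AtPrime Q.asIdeal)
      (Localization.AtPrime Q.asIdeal ⊗[P] M)) :
    (Nontrivial G ↔ q ∈ Module.support P M) ∧
      (IsAssociatedPrime (IsLocalRing.maximalIdeal S) G ↔ q ∈ assSet A M) ∧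
      (∀ k, _root_.LocCoh.HasSk k S G ↔ q ∈ skLocus A M k) ∧
      (EGA4.IsEquidimModule S G ↔ ∀ n m : ℕ, q ∈ compSet A M n → q ∈ compSet A M m → n = m) ∧
      d = (trd A q : WithBot ℕ∞) := by
  let p := q.asIdeal.comap (algebraMap A P)
  haveI := isRegularRing_fiber hP p
  have hC := heightFormula_fiber hP p
  have e1 := nontrivial_fibMod_iff (P := P) (M := M) Q
  have e2 := maximalIdeal_mem_ass_iff (M := M) (p := p) hP hC Q
  have e3 := fun k => hasSk_fibMod_iff (M := M) (p := p) hP hC k Q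
  have e4 := isEquidimModule_fibMod_iff (M := M) (p := p) hC Q
  have e5 := ringKrullDim_quotient_eq_trd (R := P) p Q
  rw [hQ] at e1 e2 e4 e5
  replace e3 : ∀ k, _root_.LocCoh.HasSk k (Localization.AtPrime Q.asIdeal)
      (Localization.AtPrime Q.asIdeal ⊗[P] M) ↔ q ∈ skLocus A M k := fun k => by
    have := e3 k
    rw [hQ] at this
    exact this
  have hnt : Nontrivial G ↔ q ∈ Module.support P M := by
    rw [← e1, ← Module.supportDim_ne_bot_iff_nontrivial S G, hdim, Module.supportDim_ne_bot_iff_nontrivial]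
  refine ⟨hnt, ?_, fun k => (hsk k).trans (e3 k), heq.trans e4, hcl.trans e5⟩
  rw [← e2]
  change IsLocalRing.maximalIdeal S ∈ associatedPrimes S G ↔ _
  rcases subsingleton_or_nontrivial G with hn | hn
  · have : Subsingleton (Localization.AtPrime Q.asIdeal ⊗[P] M) :=
      not_nontrivial_iff_subsingleton.1 fun h => not_nontrivial_iff_subsingleton.2 hn (hnt.2 (e1.1 h))
    rw [associatedPrimes.eq_empty_of_subsingleton, associatedPrimes.eq_empty_of_subsingleton]
    simp
  · haveI : Nontrivial (Localization.AtPrime Q.asIdeal ⊗[P] M) := e1.2 (hnt.1 hn)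
    rw [← CAlgH3.depth_eq_zero_iff, ← CAlgH3.depth_eq_zero_iff, hdepth]

variable {X Y : Scheme.{u}} (f : X ⟶ Y) (F : X.Modules) {V : Y.Opens} (hV : IsAffineOpen V)
  {U : X.Opens} (hU : IsAffineOpen U) (e : U ≤ f ⁻¹ᵁ V) {P : Type u} [CommRing P]
  (π : P →+* Γ(X, U))

/-- The prime of `P` of a point of a fibre in the chart. -/
noncomputable def chartPt {y : Y} {z : f.fiber y} (hz : f.fiberι y z ∈ U) : PrimeSpectrum P :=
  PrimeSpectrum.comap π (hU.primeIdealOf ⟨f.fiberι y z, hz⟩)

theorem chartPt_asFiber {x : X} (hz : f.fiberι (f x) (f.asFiber x) ∈ U) (hx : x ∈ U) :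
    chartPt f hU π hz = PrimeSpectrum.comap π (hU.primeIdealOf ⟨x, hx⟩) :=
  congrArg (fun w => PrimeSpectrum.comap π (hU.primeIdealOf w)) (Subtype.ext (f.fiberι_asFiber x))

variable [Algebra Γ(Y, V) P] (hπ : Surjective π)
  (hc : π.comp (algebraMap Γ(Y, V) P) = (f.appLE V U e).hom)

include hV hc in
theorem comap_chartPt {y : Y} {z : f.fiber y} (hz : f.fiberι y z ∈ U) (hy : y ∈ V) :
    (chartPt f hU π hz).asIdeal.comap (algebraMap Γ(Y, V) P) = (hV.primeIdealOf ⟨y, hy⟩).asIdeal := by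
  show (Ideal.comap π _).comap _ = _
  rw [Ideal.comap_comap, hc, comap_primeIdealOf f hV hU e hz]
  exact congrArg (fun w => (hV.primeIdealOf w).asIdeal)
    (Subtype.ext ((f.range_fiberι y).le ⟨z, rfl⟩ : f (f.fiberι y z) = y))

include hπ in
theorem chartPt_injective {y : Y} {z z' : f.fiber y} (hz : f.fiberι y z ∈ U)
    (hz' : f.fiberι y z' ∈ U) (h : chartPt f hU π hz = chartPt f hU π hz') : z = z' := by
  have h1 := congrArg hU.fromSpec (PrimeSpectrum.comap_injective_of_surjective π hπ h)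
  rw [hU.fromSpec_primeIdealOf, hU.fromSpec_primeIdealOf] at h1
  exact (f.fiberι y).isEmbedding.injective h1

include hV hc in
theorem exists_fibGen_of_specializes {y : Y} {z z₀ : f.fiber y} (h : z ⤳ z₀)
    (hz₀ : f.fiberι y z₀ ∈ U) :
    ∃ hz : f.fiberι y z ∈ U, FibGen Γ(Y, V) (chartPt f hU π hz) (chartPt f hU π hz₀) := by
  have h' : f.fiberι y z ⤳ f.fiberι y z₀ := h.map (f.fiberι y).continuous
  have hz : f.fiberι y z ∈ U := h'.mem_open U.isOpen hz₀
  have hy : y ∈ V := by
    have : f (f.fiberι y z₀) ∈ V := e hz₀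
    rwa [show f (f.fiberι y z₀) = y from (f.range_fiberι y).le ⟨z₀, rfl⟩] at this
  refine ⟨hz, Ideal.comap_mono ?_,
    (comap_chartPt f hV hU e π hc hz hy).trans (comap_chartPt f hV hU e π hc hz₀ hy).symm⟩
  rw [PrimeSpectrum.asIdeal_le_asIdeal, PrimeSpectrum.le_iff_specializes,
    ← hU.fromSpec.isOpenEmbedding.isInducing.specializes_iff]
  rwa [hU.fromSpec_primeIdealOf, hU.fromSpec_primeIdealOf]

include hV hπ hc in
theorem exists_point_of_fibGen {y : Y} {z₀ : f.fiber y} (hz₀ : f.fiberι y z₀ ∈ U)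
    {q : PrimeSpectrum P} (hker : RingHom.ker π ≤ q.asIdeal)
    (hq : FibGen Γ(Y, V) q (chartPt f hU π hz₀)) :
    ∃ (z : f.fiber y) (hz : f.fiberι y z ∈ U), z ⤳ z₀ ∧ chartPt f hU π hz = q := by
  obtain ⟨w, rfl⟩ : q ∈ Set.range (PrimeSpectrum.comap π) := by
    rw [range_comap_of_surjective _ _ hπ]; exact hker
  have hy : y ∈ V := by
    have : f (f.fiberι y z₀) ∈ V := e hz₀
    rwa [show f (f.fiberι y z₀) = y from (f.range_fiberι y).le ⟨z₀, rfl⟩] at this
  have hxU : hU.fromSpec w ∈ U := hU.range_fromSpec.le ⟨w, rfl⟩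
  have hw : hU.primeIdealOf ⟨_, hxU⟩ = w :=
    hU.fromSpec.isOpenEmbedding.injective (hU.fromSpec_primeIdealOf _)
  have hfx : f (hU.fromSpec w) = y := by
    have h2 : (hV.primeIdealOf ⟨f (hU.fromSpec w), e hxU⟩).asIdeal =
        (hV.primeIdealOf ⟨y, hy⟩).asIdeal := by
      rw [← comap_primeIdealOf f hV hU e hxU, hw, ← hc, ← Ideal.comap_comap]
      exact hq.2.trans (comap_chartPt f hV hU e π hc hz₀ hy)
    have h3 := congrArg hV.fromSpec (PrimeSpectrum.ext h2)
    rwa [hV.fromSpec_primeIdealOf, hV.fromSpec_primeIdealOf] at h3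
  obtain ⟨z, hz⟩ : hU.fromSpec w ∈ Set.range (f.fiberι y) := (f.range_fiberι y).ge hfx
  have hzU : f.fiberι y z ∈ U := hz ▸ hxU
  refine ⟨z, hzU, (f.fiberι y).isEmbedding.isInducing.specializes_iff.1 ?_, ?_⟩
  · have hle : w ≤ hU.primeIdealOf ⟨_, hz₀⟩ := fun r hr => by
      obtain ⟨r', rfl⟩ := hπ r
      exact hq.1 hr
    have h4 := ((PrimeSpectrum.le_iff_specializes _ _).1 hle).map hU.fromSpec.continuous
    rw [hU.fromSpec_primeIdealOf] at h4
    rwa [hz]
  · exact congrArg (PrimeSpectrum.comap π) ((congrArg hU.primeIdealOf (Subtype.ext hz)).trans hw)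

section Loci

variable [Algebra.FinitePresentation Γ(Y, V) P] [Module.Flat Γ(Y, V) P]
  [LocallyOfFinitePresentation f] [Coh.IsQCoh F] (hF : CohB1.IsFP F) {N : ℕ}
  (hP : HasAffineSpaceFibres Γ(Y, V) P N)
  [mP : Module P Γ(F, U)] (hmod : ∀ (r : P) (m : Γ(F, U)), r • m = π r • m)
  [Module.FinitePresentation P Γ(F, U)] [Module Γ(Y, V) Γ(F, U)]
  [IsScalarTower Γ(Y, V) P Γ(F, U)]

include hmod in
theorem ker_le_of_mem_support {q : PrimeSpectrum P} (hq : q ∈ Module.support P Γ(F, U)) :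
    RingHom.ker π ≤ q.asIdeal := fun r hr =>
  Module.mem_support_iff_of_finite.1 hq (Module.mem_annihilator.2 fun m => by
    rw [hmod, RingHom.mem_ker.1 hr, zero_smul])

include hV hπ hc hP hmod hF in
/-- The invariants of a point of a fibre, at its prime in the chart. -/
theorem fibre_point_iffs {y : Y} {z : f.fiber y} (hz : f.fiberι y z ∈ U) :
    let G := ((Scheme.Modules.pullback (f.fiberι y)).obj F).presheaf.stalk z
    let S := (f.fiber y).presheaf.stalk z
    let q := chartPt f hU π hz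
    (Nontrivial G ↔ q ∈ Module.support P Γ(F, U)) ∧
      (z ∈ AssSch.Ass ((Scheme.Modules.pullback (f.fiberι y)).obj F) ↔
        q ∈ assSet Γ(Y, V) Γ(F, U)) ∧
      (∀ k, _root_.LocCoh.HasSk k S G ↔ q ∈ skLocus Γ(Y, V) Γ(F, U) k) ∧
      (EGA4.IsEquidimModule S G ↔ ∀ n m : ℕ, q ∈ compSet Γ(Y, V) Γ(F, U) n →
        q ∈ compSet Γ(Y, V) Γ(F, U) m → n = m) ∧
      topologicalKrullDim ↥(closure ({z} : Set ↥(f.fiber y))) = (trd Γ(Y, V) q : WithBot ℕ∞) := by
  intro G S q
  obtain rfl : mP = Module.compHom Γ(F, U) π := Module.ext' _ _ hmod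
  let _ : Module P Γ(F, U) := Module.compHom Γ(F, U) π
  have hfin : Module.Finite P Γ(F, U) := inferInstance
  obtain ⟨Q, hQ, hdepth, hdim, hcl, hsk, heq⟩ := exists_fibre_point f F hV hU e π hπ hc hfin y z hz
  haveI := isNoetherianRing_fiber_stalk f y z
  haveI := finite_fiber_stalk f F hF y z
  exact local_iffs hP q Q hQ hdepth hdim hcl hsk heq

end Loci

end Groth.Agent.EGA43.FibDepth
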