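import Groth.Agent.EGA43.PdFlat.Fibre
import Mathlib.RingTheory.Spectrum.Prime.FreeLocus
import Mathlib.RingTheory.Localization.BaseChange

/-!
# The projective dimension on fibres has open loci

For `P` and `M` of finite presentation and flat over `A`, the primes `q` of `P` at which the fibre
module has projective dimension `≤ n` form an open set.
-/

set_option autoImplicit false
set_option backward.isDefEq.respectTransparency false

universe u

open TensorProduct Function

namespace Groth.Agent.EGA43.FibDepth

open Groth.Agent

variable {A K P C : Type u} [CommRing A] [CommRing K] [CommRing P] [CommRing C] [Algebra A K]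
  [Algebra A P] [Algebra K C] [Algebra P C] [Algebra A C] [IsScalarTower A K C]
  [IsScalarTower A P C] [Algebra.IsPushout A K P C]
  {M F : Type u} [AddCommGroup M] [Module P M] [Module A M] [IsScalarTower A P M]
  [AddCommGroup F] [Module P F] [Module A F] [IsScalarTower A P F]

variable (K) in
include K in
/-- Base change to a localisation of the fibre ring preserves kernels of maps onto flat modules. -/
theorem nonempty_kerLocalEquiv {L : Type u} [CommRing L] [Algebra C L] [Algebra P L]
    [IsScalarTower P C L] [Module.Flat C L] [Module.Flat A M] (f : F →ₗ[P] M) (hf : Surjective f) :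
    Nonempty ((L ⊗[P] LinearMap.ker f) ≃ₗ[L] LinearMap.ker (f.baseChange L)) := by
  have hC : Injective ((LinearMap.ker f).subtype.baseChange C) :=
    PdFlat.injective_baseChange_subtype (A := A) (K := K) f hf
  let eK := AlgebraTensorModule.cancelBaseChange P C L L (LinearMap.ker f)
  let eF := AlgebraTensorModule.cancelBaseChange P C L L F
  have hkey : ∀ z, (LinearMap.ker f).subtype.baseChange L (eK z) =
      eF (((LinearMap.ker f).subtype.baseChange C).lTensor L z) := fun z => by
    induction z using TensorProduct.induction_on with
    | zero => simp
    | add u v hu hv => simp only [map_add, hu, hv]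
    | tmul l w =>
      induction w using TensorProduct.induction_on with
      | zero => simp
      | add u v hu hv => simp only [tmul_add, map_add, hu, hv]
      | tmul c x => simp [eK, eF]
  have hL : Injective ((LinearMap.ker f).subtype.baseChange L) := fun x y hxy => by
    obtain ⟨x, rfl⟩ := eK.surjective x
    obtain ⟨y, rfl⟩ := eK.surjective y
    rw [hkey, hkey] at hxy
    exact congrArg eK (Module.Flat.lTensor_preserves_injective_linearMap _ hC (eF.injective hxy))
  exact ⟨LinearEquiv.ofBijective
    (((LinearMap.ker f).subtype.baseChange L).codRestrict _ fun x => by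
      rw [LinearMap.mem_ker]
      have h : (f.baseChange L).comp ((LinearMap.ker f).subtype.baseChange L) = 0 := by
        rw [← LinearMap.baseChange_comp, show f.comp (LinearMap.ker f).subtype = 0 from
          LinearMap.ext fun x => x.2, LinearMap.baseChange_zero]
      exact DFunLike.congr_fun h x)
    ⟨fun x y h => hL (congrArg Subtype.val h),
      fun ⟨y, hy⟩ => by
        obtain ⟨x, hx⟩ := (lTensor_exact L (LinearMap.exact_subtype_ker_map f) hf y).mp hy
        exact ⟨x, Subtype.ext hx⟩⟩⟩

variable (K) in
include K in
/-- Freeness on the fibre at `Q` is freeness at the prime below (criterion of flatness by fibres). -/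
theorem projective_fibre_iff [Algebra.FinitePresentation A P] [Module.FinitePresentation P M]
    [Module.Flat A M] (Q : PrimeSpectrum C) :
    Module.Projective (Localization.AtPrime Q.asIdeal) (Localization.AtPrime Q.asIdeal ⊗[P] M) ↔
      PrimeSpectrum.comap (algebraMap P C) Q ∈ Module.freeLocus P M := by
  let q := PrimeSpectrum.comap (algebraMap P C) Q
  let L := Localization.AtPrime Q.asIdeal
  constructor
  · intro h
    have hflat : Module.Flat C (LocalizedModule Q.asIdeal.primeCompl (C ⊗[P] M)) := by
      have : Module.Flat C L := IsLocalization.flat _ Q.asIdeal.primeCompl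
      have : Module.Flat C (L ⊗[P] M) := Module.Flat.trans C L _
      exact Module.Flat.of_linearEquiv
        ((LocalizedModule.equivTensorProduct Q.asIdeal.primeCompl (C ⊗[P] M)).trans
          (AlgebraTensorModule.cancelBaseChange P C L L M) |>.restrictScalars C)
    have hfib : Cons.FibFlat A P P M q :=
      Cons.FibFlat.of_baseChange (A' := K) (B' := C) (C' := C) (M' := C ⊗[P] M)
        (μ := TensorProduct.mk P C M 1) (TensorProduct.isBaseChange P M C)
        (fun c m => by rw [map_smul, algebraMap_smul]) (Cons.fibFlat_of_flat hflat)
    have hA : Module.Flat A (LocalizedModule q.asIdeal.primeCompl M) := by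
      have : Module.Flat P (Localization q.asIdeal.primeCompl) :=
        IsLocalization.flat _ q.asIdeal.primeCompl
      have : Module.Flat A (Localization q.asIdeal.primeCompl ⊗[P] M) := PdFlat.flat_tensor_left
      exact Module.Flat.of_linearEquiv
        ((LocalizedModule.equivTensorProduct q.asIdeal.primeCompl M).restrictScalars A)
    have := Cons.flat_of_fibFlat_of_finitePresentation (A := A) q hA hfib
    rw [Module.mem_freeLocus]
    have : Module.Flat (Localization.AtPrime q.asIdeal)
        (LocalizedModule q.asIdeal.primeCompl M) :=
      (Module.flat_iff_of_isLocalization (Localization.AtPrime q.asIdeal) q.asIdeal.primeCompl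
        (LocalizedModule q.asIdeal.primeCompl M)).2 this
    exact Module.free_of_flat_of_isLocalRing
  · intro h
    rw [Module.mem_freeLocus_iff_tensor q (Localization.AtPrime q.asIdeal)] at h
    let φ : Localization.AtPrime q.asIdeal →+* L :=
      Localization.localRingHom q.asIdeal Q.asIdeal (algebraMap P C) rfl
    let _ := φ.toAlgebra
    have : IsScalarTower P (Localization.AtPrime q.asIdeal) L := .of_algebraMap_eq fun r => by
      show _ = φ (algebraMap P (Localization.AtPrime q.asIdeal) r)
      rw [Localization.localRingHom_to_map, ← IsScalarTower.algebraMap_apply]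
    exact Module.Projective.of_equiv (AlgebraTensorModule.cancelBaseChange P
      (Localization.AtPrime q.asIdeal) L L M)

variable (A) in
/-- The free locus of a module flat over the base is constructible (it is the fibrewise flat
locus). -/
theorem isConstructible_freeLocus [Algebra.FinitePresentation A P] [Module.FinitePresentation P M]
    [Module.Flat A M] : Topology.IsConstructible (Module.freeLocus P M) := by
  convert Cons.isConstructible_setOf_fibFlat (A := A) (B := P) (C := P) (M := M) using 1
  ext q
  have hA : Module.Flat A (LocalizedModule q.asIdeal.primeCompl M) :=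
    Cons.flat_localizedModule (A := A) q
  constructor
  · intro h
    rw [Module.mem_freeLocus] at h
    have : Module.Flat P (LocalizedModule q.asIdeal.primeCompl M) :=
      (Module.flat_iff_of_isLocalization (Localization.AtPrime q.asIdeal) q.asIdeal.primeCompl
        (LocalizedModule q.asIdeal.primeCompl M)).1 inferInstance
    exact Cons.fibFlat_of_flat this
  · intro h
    have := Cons.flat_of_fibFlat_of_finitePresentation (A := A) q hA h
    rw [Module.mem_freeLocus]
    have : Module.Flat (Localization.AtPrime q.asIdeal)
        (LocalizedModule q.asIdeal.primeCompl M) :=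
      (Module.flat_iff_of_isLocalization (Localization.AtPrime q.asIdeal) q.asIdeal.primeCompl
        (LocalizedModule q.asIdeal.primeCompl M)).2 this
    exact Module.free_of_flat_of_isLocalRing

variable (A) in
/-- The locus where the fibres have projective dimension `≤ n` is open; it is compatible with all
base changes of `A`. -/
theorem exists_pdLocus {P : Type u} [CommRing P] [Algebra A P] [Algebra.FinitePresentation A P]
    [Module.Flat A P] : ∀ (n : ℕ) (M : Type u) [AddCommGroup M] [Module P M] [Module A M]
    [IsScalarTower A P M] [Module.FinitePresentation P M] [Module.Flat A M],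
    ∃ U : Set (PrimeSpectrum P), IsOpen U ∧ Topology.IsConstructible U ∧ ∀ (K C : Type u) [CommRing K] [CommRing C]
      [Algebra A K] [Algebra K C] [Algebra P C] [Algebra A C] [IsScalarTower A K C]
      [IsScalarTower A P C] [Algebra.IsPushout A K P C] (Q : PrimeSpectrum C),
      CommAlg6.PdLE (Localization.AtPrime Q.asIdeal) (Localization.AtPrime Q.asIdeal ⊗[P] M) n ↔
        PrimeSpectrum.comap (algebraMap P C) Q ∈ U := by
  intro n
  induction n with
  | zero =>
    intro M _ _ _ _ _ _
    exact ⟨Module.freeLocus P M, Module.isOpen_freeLocus, isConstructible_freeLocus A, fun K C _ _ _ _ _ _ _ _ _ Q => by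
      rw [CommAlg6.pdLE_zero_iff]; exact projective_fibre_iff (A := A) K Q⟩
  | succ n ih =>
    intro M _ _ _ _ _ _
    obtain ⟨k, f, hf, hfp, hflat⟩ := PdFlat.exists_cover (A := A) (B := P) (M := M)
    obtain ⟨U, hU, hU', hiff⟩ := ih (LinearMap.ker f)
    refine ⟨U, hU, hU', fun K C _ _ _ _ _ _ _ _ _ Q => ?_⟩
    have : Module.Flat C (Localization.AtPrime Q.asIdeal) :=
      IsLocalization.flat _ Q.asIdeal.primeCompl
    obtain ⟨e⟩ := nonempty_kerLocalEquiv (A := A) K (C := C)
      (L := Localization.AtPrime Q.asIdeal) f hf
    rw [← hiff K C Q, CommAlg6.pdLE_succ_iff (f.baseChange (Localization.AtPrime Q.asIdeal))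
      (LinearMap.lTensor_surjective _ hf)]
    exact (CommAlg6.pdLE_congr (M := Localization.AtPrime Q.asIdeal ⊗[P] LinearMap.ker f)
      (N := LinearMap.ker (f.baseChange (Localization.AtPrime Q.asIdeal))) e n).symm

end Groth.Agent.EGA43.FibDepth
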