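import Groth.Agent.EGA43.FibDepth.Components

/-!
# EGA IV 12.2.1 (ii): the dimension of the support of the fibres of a proper morphism
-/

set_option autoImplicit false
set_option backward.isDefEq.respectTransparency false
set_option linter.unusedSectionVars false

universe u

open CategoryTheory CategoryTheory.Limits AlgebraicGeometry TopologicalSpace TensorProduct Function
open Topology

namespace Groth.Agent.EGA43.FibDepth

open Groth.Agent

attribute [local instance] Algebra.TensorProduct.rightAlgebra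

variable {X Y : Scheme.{u}} (f : X ⟶ Y) (F : X.Modules)

/-- No component of dimension `> n` of the support of the fibre passes through the point. -/
def DimLeP (n : ℕ) (y : Y) (z : f.fiber y) : Prop := ∀ m, CompP f F m y z → m ≤ n

section Chart

variable {V : Y.Opens} (hV : IsAffineOpen V) {U : X.Opens} (hU : IsAffineOpen U) (e : U ≤ f ⁻¹ᵁ V)
  {P : Type u} [CommRing P] (π : P →+* Γ(X, U)) [Algebra Γ(Y, V) P]
  [Algebra.FinitePresentation Γ(Y, V) P] [Module.Flat Γ(Y, V) P]
  [LocallyOfFinitePresentation f] [Coh.IsQCoh F] (hF : CohB1.IsFP F) (hπ : Surjective π)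
  (hc : π.comp (algebraMap Γ(Y, V) P) = (f.appLE V U e).hom)
  {N : ℕ} (hP : HasAffineSpaceFibres Γ(Y, V) P N)
  [mP : Module P Γ(F, U)] (hmod : ∀ (r : P) (m : Γ(F, U)), r • m = π r • m)
  [Module.FinitePresentation P Γ(F, U)] [Module Γ(Y, V) Γ(F, U)]
  [IsScalarTower Γ(Y, V) P Γ(F, U)]

include hV hU hπ hc hP hmod hF in
theorem isOpen_dimLeP_inter (n : ℕ) :
    IsOpen ({x | DimLeP f F n (f x) (f.asFiber x)} ∩ (U : Set X)) := by
  refine isOpen_inter_of_chart f hU π (DimLeP f F n)
    {x : PrimeSpectrum P | ∀ m, x ∈ compSet Γ(Y, V) Γ(F, U) m → m ≤ n} ?_ fun x hz =>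
      forall_congr' fun m => imp_congr (compP_iff f F hV hU e π hF hπ hc hP hmod m hz) Iff.rfl
  refine PrimeSpectrum.isOpen_of_stableUnderGeneralization_of_isConstructible ?_ ?_
  · rintro x x' hs hx m ⟨w, hw, hws, rfl, -⟩
    have hle : x'.asIdeal ≤ x.asIdeal := (PrimeSpectrum.le_iff_specializes x' x).2 hs
    obtain ⟨q, hq, hqx, ht⟩ := exists_component (A := Γ(Y, V)) (hw.1.trans hle)
    obtain ⟨v, hv, hvs, hvmin⟩ := exists_minimal_fibGen hP (mem_support_of_le hq hws)
    have h1 : trd Γ(Y, V) q ≤ trd Γ(Y, V) v := trd_mono hv.1 hv.2.symm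
    exact ht.trans (h1.trans (hx _ ⟨v, hv.trans hqx, hvs, rfl, hvmin⟩))
  · have hN : ∀ (x : PrimeSpectrum P) (m : ℕ), x ∈ compSet Γ(Y, V) Γ(F, U) m → m < N + 1 := by
      rintro x m ⟨w, -, hws, rfl, -⟩
      obtain ⟨r, -, h1, h2⟩ := exists_rect_eq (M := Γ(F, U)) hP hws
      omega
    let W : Fin (N + 1) → Set (PrimeSpectrum P) := fun m =>
      if (m : ℕ) ≤ n then ∅ else compSet Γ(Y, V) Γ(F, U) m
    have hW : ∀ m, IsConstructible (W m) := fun m => by
      simp only [W]
      split_ifs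
      · exact .empty
      · exact isConstructible_compSet (M := Γ(F, U)) hP m
    convert (IsConstructible.iUnion hW).compl using 1
    ext x
    simp only [Set.mem_compl_iff, Set.mem_iUnion, not_exists, Set.mem_ofPred_eq]
    constructor
    · intro h m hm
      by_cases hmn : (m : ℕ) ≤ n
      · simp only [W, if_pos hmn, Set.mem_empty_iff_false] at hm
      · simp only [W, if_neg hmn] at hm
        exact hmn (h _ hm)
    · intro h m hm
      by_contra hmn
      refine h ⟨m, hN x m hm⟩ ?_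
      simp only [W, if_neg hmn]
      exact hm

include hV hU hπ hc hP hmod hF in
theorem exists_compP_ge {y : Y} {z : f.fiber y} (hz : f.fiberι y z ∈ U) :
    DimLeP f F N y z ∧ (SuppP f F y z → ∀ d : ℕ,
      topologicalKrullDim ↥(closure ({z} : Set ↥(f.fiber y))) = (d : WithBot ℕ∞) →
        ∃ m, d ≤ m ∧ CompP f F m y z) := by
  refine ⟨fun m hm => ?_, fun hs d hd => ?_⟩
  · obtain ⟨w, -, hws, rfl, -⟩ := (compP_iff f F hV hU e π hF hπ hc hP hmod m hz).1 hm
    obtain ⟨r, -, h1, h2⟩ := exists_rect_eq (M := Γ(F, U)) hP hws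
    omega
  · obtain ⟨hi, -, -, -, hd'⟩ := fibre_point_iffs f F hV hU e π hπ hc hF hP hmod hz
    rw [hd'] at hd
    obtain rfl := Nat.cast_injective hd
    obtain ⟨w, hw, hws, hwmin⟩ := exists_minimal_fibGen hP (hi.1 hs)
    exact ⟨_, trd_mono hw.1 hw.2.symm,
      (compP_iff f F hV hU e π hF hπ hc hP hmod _ hz).2 ⟨w, hw, hws, rfl, hwmin⟩⟩

end Chart

variable [LocallyOfFinitePresentation f]

theorem exists_chart_dimLeP (hF : CohB1.IsFP F) (x : X) : ∃ (N : ℕ) (U : X.Opens), x ∈ U ∧
    (∀ n, IsOpen ({x | DimLeP f F n (f x) (f.asFiber x)} ∩ (U : Set X))) ∧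
    ∀ (y : Y) (z : f.fiber y), f.fiberι y z ∈ U → DimLeP f F N y z ∧ (SuppP f F y z → ∀ d : ℕ,
      topologicalKrullDim ↥(closure ({z} : Set ↥(f.fiber y))) = (d : WithBot ℕ∞) →
        ∃ m, d ≤ m ∧ CompP f F m y z) := by
  have := isQCoh_of_isFP F hF
  obtain ⟨V, hV, hfx, -⟩ := exists_isAffineOpen_mem_and_subset (x := f x) (U := ⊤) trivial
  obtain ⟨U, hU, hxU, e⟩ := exists_isAffineOpen_mem_and_subset (x := x) (U := f ⁻¹ᵁ V) hfx
  obtain ⟨N, π, hπ, hc⟩ := exists_mvPolynomial_surjective (f.appLE V U e).hom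
    (RingHom.FiniteType.of_finitePresentation (f.finitePresentation_appLE hV hU e))
  let _ := Module.compHom Γ(F, U) π
  let _ := QcohFlat.overModule f F V U e
  obtain ⟨h1, h2⟩ := chart_instances f F hF hV hU e π hπ hc
  exact ⟨N, U, hxU, isOpen_dimLeP_inter f F hV hU e π hF hπ hc
      (hasAffineSpaceFibres_mvPolynomial Γ(Y, V) N) (fun _ _ => rfl),
    fun y z hz => exists_compP_ge f F hV hU e π hF hπ hc
      (hasAffineSpaceFibres_mvPolynomial Γ(Y, V) N) (fun _ _ => rfl) hz⟩

theorem isOpen_dimLeP (hF : CohB1.IsFP F) (n : ℕ) :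
    IsOpen {x | DimLeP f F n (f x) (f.asFiber x)} := by
  rw [isOpen_iff_forall_mem_open]
  intro x hx
  obtain ⟨N, U, hxU, h, -⟩ := exists_chart_dimLeP f F hF x
  exact ⟨_, Set.inter_subset_left, h n, hx, hxU⟩

/-- The dimension of the support of the fibres is locally constant. -/
theorem isLocallyConstant_supportDim [IsProper f] (hF : CohB1.IsFP F)
    (hflat : FlatMod.IsFlatOver f F) :
    IsLocallyConstant fun y : Y => topologicalKrullDim ↥{z : ↥(f.fiber y) | SuppP f F y z} := by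
  have hdim : ∀ y, topologicalKrullDim ↥{z : ↥(f.fiber y) | SuppP f F y z} =
      ⨆ z : {z : ↥(f.fiber y) | SuppP f F y z},
        topologicalKrullDim ↥(closure ({(z : ↥(f.fiber y))} : Set ↥(f.fiber y))) := fun y => by
    have : LocallyOfFiniteType (f.fiberToSpecResidueField y) :=
      (inferInstanceAs (LocallyOfFiniteType (Limits.pullback.snd f (Y.fromSpecResidueField y))))
    rw [DimLib.topologicalKrullDim_closed_eq_iSup (k := Y.residueField y)
      (f.fiberToSpecResidueField y) (isClosed_suppP f F hF y)]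
    exact iSup_congr fun z => (DimLib.topologicalKrullDim_eq_ptDim_of_isGenericPoint (k := Y.residueField y)
      (f.fiberToSpecResidueField y) (isGenericPoint_closure (x := (z : ↥(f.fiber y))))).symm
  have hnat : ∀ (y : Y) (z : f.fiber y), ∃ d : ℕ,
      topologicalKrullDim ↥(closure ({z} : Set ↥(f.fiber y))) = (d : WithBot ℕ∞) := fun y z => by
    obtain ⟨V, hV, hfx, -⟩ :=
      exists_isAffineOpen_mem_and_subset (x := f (f.fiberι y z)) (U := ⊤) trivial
    obtain ⟨U, hU, hxU, e⟩ :=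
      exists_isAffineOpen_mem_and_subset (x := f.fiberι y z) (U := f ⁻¹ᵁ V) hfx
    exact ⟨_, topologicalKrullDim_closure_eq f hV hU e y z hxU⟩
  have hle : ∀ (y : Y) (n : ℕ), (∀ z, DimLeP f F n y z) →
      topologicalKrullDim ↥{z : ↥(f.fiber y) | SuppP f F y z} ≤ (n : WithBot ℕ∞) := fun y n h => by
    rw [hdim]
    refine iSup_le fun z => ?_
    obtain ⟨d, hd⟩ := hnat y z
    obtain ⟨N, U, hxU, -, hch⟩ := exists_chart_dimLeP f F hF (f.fiberι y z)
    obtain ⟨m, hdm, hm⟩ := (hch y z hxU).2 z.2 d hd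
    rw [hd]
    exact Nat.cast_le.2 (hdm.trans (h z m hm))
  have hge : ∀ (y : Y) (n : ℕ), (∃ z, CompP f F n y z) →
      (n : WithBot ℕ∞) ≤ topologicalKrullDim ↥{z : ↥(f.fiber y) | SuppP f F y z} := by
    rintro y n ⟨-, z, -, ⟨hz, -⟩, hd⟩
    rw [hdim, ← hd]
    exact le_iSup (fun z : {z : ↥(f.fiber y) | SuppP f F y z} =>
      topologicalKrullDim ↥(closure ({(z : ↥(f.fiber y))} : Set ↥(f.fiber y)))) ⟨z, hz⟩
  rw [IsLocallyConstant.iff_eventually_eq]
  intro y
  by_cases hex : ∃ n, ∃ z, CompP f F n y z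
  · -- the maximal dimension of a component
    obtain ⟨B, hB⟩ : ∃ B, ∀ z, DimLeP f F B y z := by
      have hcov : (Set.univ : Set ↥(f.fiber y)) ⊆ ⋃ n, {z | DimLeP f F n y z} := fun z _ => by
        obtain ⟨N, U, hxU, -, hch⟩ := exists_chart_dimLeP f F hF (f.fiberι y z)
        exact Set.mem_iUnion.2 ⟨N, (hch y z hxU).1⟩
      have hop : ∀ n, IsOpen {z : ↥(f.fiber y) | DimLeP f F n y z} := fun n => by
        convert (f.fiberι y).continuous.isOpen_preimage _ (isOpen_dimLeP f F hF n) using 1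
        ext z
        exact fiber_pred_iff f (DimLeP f F n) y z
      obtain ⟨t, ht⟩ := (isCompact_univ (X := ↥(f.fiber y))).elim_finite_subcover _ hop hcov
      refine ⟨t.sup id, fun z => ?_⟩
      obtain ⟨n, hn⟩ := Set.mem_iUnion.1 (ht (Set.mem_univ z))
      obtain ⟨hnt, hn⟩ := Set.mem_iUnion.1 hn
      exact fun m hm => (hn m hm).trans (Finset.le_sup (f := id) hnt)
    classical
    let d := Nat.findGreatest (fun n => ∃ z, CompP f F n y z) B
    have hd : ∃ z, CompP f F d y z := by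
      obtain ⟨n, z, hn⟩ := hex
      exact Nat.findGreatest_spec (P := fun n => ∃ z, CompP f F n y z) (hB z n hn) ⟨z, hn⟩
    have hd' : ∀ z, DimLeP f F d y z := fun z m hm =>
      Nat.le_findGreatest (hB z m hm) ⟨z, hm⟩
    filter_upwards [(isOpen_exists_compP f F hF hflat d).mem_nhds hd,
      (isOpen_forall_fiber f _ (isOpen_dimLeP f F hF d)).mem_nhds hd'] with y' h1 h2
    rw [le_antisymm (hle y' d h2) (hge y' d h1), le_antisymm (hle y d hd') (hge y d hd)]
  · have hS : IsOpen {x | ¬ SuppP f F (f x) (f.asFiber x)} := by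
      rw [isOpen_iff_forall_mem_open]
      intro x hx
      have := isQCoh_of_isFP F hF
      obtain ⟨V, hV, hfx, -⟩ := exists_isAffineOpen_mem_and_subset (x := f x) (U := ⊤) trivial
      obtain ⟨U, hU, hxU, e⟩ := exists_isAffineOpen_mem_and_subset (x := x) (U := f ⁻¹ᵁ V) hfx
      obtain ⟨N, π, hπ, hc⟩ := exists_mvPolynomial_surjective (f.appLE V U e).hom
        (RingHom.FiniteType.of_finitePresentation (f.finitePresentation_appLE hV hU e))
      let _ := Module.compHom Γ(F, U) π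
      let _ := QcohFlat.overModule f F V U e
      obtain ⟨h1, h2⟩ := chart_instances f F hF hV hU e π hπ hc
      exact ⟨_, Set.inter_subset_left, isOpen_not_suppP_inter f F hV hU e π hF hπ hc
        (hasAffineSpaceFibres_mvPolynomial Γ(Y, V) N) (fun _ _ => rfl), hx, hxU⟩
    have hempty : ∀ z, ¬ SuppP f F y z := fun z hz => hex (by
      obtain ⟨d, hd⟩ := hnat y z
      obtain ⟨N, U, hxU, -, hch⟩ := exists_chart_dimLeP f F hF (f.fiberι y z)
      obtain ⟨m, -, hm⟩ := (hch y z hxU).2 hz d hd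
      exact ⟨m, z, hm⟩)
    filter_upwards [(isOpen_forall_fiber f (fun y z => ¬ SuppP f F y z) hS).mem_nhds hempty] with y' h'
    have key : ∀ y, (∀ z, ¬ SuppP f F y z) →
        topologicalKrullDim ↥{z : ↥(f.fiber y) | SuppP f F y z} = ⊥ := fun y h => by
      rw [hdim]
      exact le_bot_iff.1 (iSup_le fun z => absurd z.2 (h z))
    rw [key y' h', key y hempty]

end Groth.Agent.EGA43.FibDepth
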